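import Groth.Agent.Dsp6.DimFun
import Groth.Agent.Cat15.Order
import Groth.Agent.H23.SetupLFT
import Groth.Agent.AlgSpDec.ResTrdeg
import Groth.Agent.AlgSpOne.DecentFinComp
import Groth.Agent.AlgSpOne.GenFiniteSp
import Groth.Prelude.Def_W4stk3decentspacesp2Birat

/-!
# Catenary decent algebraic spaces
-/

set_option autoImplicit false
set_option backward.isDefEq.respectTransparency false
set_option backward.isDefEq.respectTransparency.types false

universe u

open CategoryTheory CategoryTheory.Limits AlgebraicGeometry AlgSp Groth.Agent.AlgSpLib Groth.Agent.AlgSpPts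
open Groth.Agent.AlgSpDec Groth.Agent.AlgSpOne TopologicalSpace

namespace Groth.Agent.Dsp6

theorem isCatenary_of_universally {R : Type u} [CommRing R] (h : CAlg.IsUniversallyCatenary R) :
    CAlg.IsCatenary R :=
  h.2 R (Algebra.FiniteType.of_surjective (Algebra.ofId R R) fun r => ⟨r, rfl⟩)

/-- In a catenary locally Noetherian scheme saturated chains have length the chain dimension. -/
theorem length_eq_cd {X : Scheme.{u}} [IsLocallyNoetherian X] (hX : Cat15.PCat X) (l : LTSeries X)
    (hl : ∀ i : Fin l.length, l i.castSucc ⋖ l i.succ) :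
    l.length = DimFormula.cd l.last l.head := by
  have hs : l.last ⤳ l.head := LTSeries.head_le l (Fin.last _)
  obtain ⟨m, hm0, hm1, hm⟩ := DimFormula.exists_cd_series hs
  have he : m.last = l.last := by
    by_contra hne
    have hlt : m.last < l.last := lt_of_le_of_ne hm1 hne
    have := DimFormula.le_cd hs (m.snoc l.last hlt) (by rw [RelSeries.head_snoc, hm0])
      (by rw [RelSeries.last_snoc])
    rw [RelSeries.snoc_length] at this
    omega
  rw [← hm]
  refine hX.2 l m hm0.symm he.symm hl fun i => ⟨m.step i, fun w h1 h2 => ?_⟩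
  let A : LTSeries X := (m.take i.castSucc).snoc w (by rw [RelSeries.last_take]; exact h1)
  let B : LTSeries X := (m.drop i.succ).cons w (by rw [RelSeries.head_drop]; exact h2)
  let C : LTSeries X := A.smash B (by simp only [A, B, RelSeries.last_snoc, RelSeries.head_cons])
  have hn := DimFormula.le_cd hs C
    (by simp only [C, A, RelSeries.head_smash, RelSeries.head_snoc, RelSeries.head_take]; exact hm0)
    (by simp only [C, B, RelSeries.last_smash, RelSeries.last_cons, RelSeries.last_drop]; exact hm1)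
  have hC : C.length = (m.take i.castSucc).length + 1 + ((m.drop i.succ).length + 1) := by
    simp [C, A, B]
  have hA : (m.take i.castSucc).length = (i : ℕ) := rfl
  have hB : (m.drop i.succ).length = m.length - ((i : ℕ) + 1) := rfl
  have := i.2
  omega

variable {S : Scheme.{u}}

/-- Saturated chains of generizations in a decent space lift to a chart with a length determined by the endpoints. -/
theorem exists_length_bound {X : Space S} (hX : IsDecent X.obj) {U : Over S} (a : (yon S).obj U ⟶ X.obj)
    (ha : RepWith @Etale a) (v : ↥U.left) {n : ℕ} (z : Fin (n + 1) → Points X.obj)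
    (hz0 : Points.ofPt a v = z 0) (hz : ∀ i : Fin n, z i.succ ⤳ z i.castSucc)
    (hne : ∀ i : Fin n, z i.succ ≠ z i.castSucc) :
    ∃ l : LTSeries ↥U.left, l.length = n ∧ l.head = v ∧ Points.ofPt a l.last = z (Fin.last n) ∧
      ((∀ (i : Fin n) (w : Points X.obj), z i.succ ⤳ w → w ⤳ z i.castSucc → w = z i.succ ∨ w = z i.castSucc) →
        ∀ i : Fin l.length, l i.castSucc ⋖ l i.succ) := by
  have lift : ∀ (i : Fin n) (w : {w : ↥U.left // Points.ofPt a w = z i.castSucc}),
      ∃ w' : ↥U.left, w' ⤳ w.1 ∧ Points.ofPt a w' = z i.succ := fun i w =>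
    exists_specializes_lift_of_isDecent hX ha (by rw [w.2]; exact hz i)
  choose L hL1 hL2 using lift
  let u : ∀ i : Fin (n + 1), {w : ↥U.left // Points.ofPt a w = z i} :=
    Fin.induction ⟨v, hz0⟩ (fun i w => ⟨L i w, hL2 i w⟩)
  have hu : ∀ i : Fin n, (u i.succ).1 ⤳ (u i.castSucc).1 := fun i => by
    simp only [u, Fin.induction_succ]
    exact hL1 _ _
  have hlt : ∀ i : Fin n, (u i.castSucc).1 < (u i.succ).1 := fun i =>
    lt_of_le_of_ne (Scheme.le_iff_specializes.2 (hu i)) fun e => hne i (by rw [← (u i.succ).2, ← e, (u i.castSucc).2])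
  refine ⟨⟨n, fun i => (u i).1, hlt⟩, rfl, ?_, (u (Fin.last n)).2, fun H i => ⟨hlt i, fun w h1 h2 => ?_⟩⟩
  · show (u 0).1 = v
    simp [u]
  · have h1' : w ⤳ (u i.castSucc).1 := Scheme.le_iff_specializes.1 h1.le
    have h2' : (u i.succ).1 ⤳ w := Scheme.le_iff_specializes.1 h2.le
    rcases H i (Points.ofPt a w)
      (by rw [← (u i.succ).2]; exact h2'.map (Points.continuous_ofPt a))
      (by rw [← (u i.castSucc).2]; exact h1'.map (Points.continuous_ofPt a)) with e | e
    · exact h2.ne (eq_of_specializes_of_isDecent hX ha (e.trans (u i.succ).2.symm) h2')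
    · exact h1.ne (eq_of_specializes_of_isDecent hX ha ((u i.castSucc).2.trans e.symm) h1')

theorem isCatenarySpace_points [IsLocallyNoetherian S]
    (hS : ∀ s : ↥S, CAlg.IsUniversallyCatenary ↥(S.presheaf.stalk s)) (X : Space S) (hX : IsDecent X.obj)
    (p : X.obj ⟶ (yon S).obj (Over.mk (𝟙 S))) (hp : LocP @LocallyOfFiniteType p) :
    W4stk3decentspacesp2.IsCatenarySpace (Points X.obj) := by
  haveI := t0Space_points X.property hX
  haveI := quasiSober_points X.property hX
  obtain ⟨U, a, ha, has⟩ := X.property.atlas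
  obtain ⟨g, hg⟩ := (yon S).map_surjective (a ≫ p)
  have w : a ≫ p = (yon S).map g ≫ 𝟙 _ := by rw [Category.comp_id, hg]
  haveI : LocallyOfFiniteType g.left := hp a (𝟙 _) g ha (repWith_id _ _) w
  haveI : IsLocallyNoetherian (Over.mk (𝟙 S)).left := ‹IsLocallyNoetherian S›
  haveI := LocallyOfFiniteType.isLocallyNoetherian g.left
  have hcat : ∀ y : ↥U.left, CAlg.IsUniversallyCatenary (S.presheaf.stalk (g.left y)) := fun y => hS _
  have hPU : Cat15.PCat ↥U.left := (Cat15.pcat_stalk U.left).2 fun y =>
    isCatenary_of_universally (H23.SetupLFT.isUniversallyCatenary_stalk g.left y (hcat y))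
  intro T T' _
  obtain ⟨v, hv⟩ := surjective_ofPt has T.2.genericPoint
  -- the length of a lifted chain
  have hlen : ∀ P : LTSeries (IrreducibleCloseds (Points X.obj)), P.head = T → P.last = T' →
      ∃ l : LTSeries ↥U.left, l.length = P.length ∧ l.head = v ∧ Points.ofPt a l.last = T'.2.genericPoint ∧
        ((∀ i : Fin P.length, P.toFun i.castSucc ⋖ P.toFun i.succ) → ∀ i : Fin l.length, l i.castSucc ⋖ l i.succ) := by
    intro P h0 h1
    let z : Fin (P.length + 1) → Points X.obj := fun i => (P i).2.genericPoint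
    have hgp : ∀ i, IsGenericPoint (z i) (P i : Set (Points X.obj)) := fun i =>
      (P i).2.isGenericPoint_genericPoint (P i).3
    have hsp : ∀ i : Fin P.length, z i.succ ⤳ z i.castSucc := fun i =>
      (hgp i.succ).specializes ((show P i.castSucc ≤ P i.succ from le_of_lt (P.step i)) (hgp i.castSucc).mem)
    have hne : ∀ i : Fin P.length, z i.succ ≠ z i.castSucc := fun i e => (P.step i).ne
      (IrreducibleCloseds.ext ((hgp i.castSucc).def.symm.trans (by rw [← e]; exact (hgp i.succ).def)))
    obtain ⟨l, hl, hl0, hl1, hl2⟩ := exists_length_bound hX a ha v z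
      (by rw [hv]; show _ = (P 0).2.genericPoint; rw [← h0]) hsp hne
    refine ⟨l, hl, hl0, hl1.trans (by show (P (Fin.last _)).2.genericPoint = _; rw [← h1]), fun hc => ?_⟩
    refine hl2 fun i w h2 h3 => ?_
    let W : IrreducibleCloseds (Points X.obj) :=
      ⟨closure {w}, isIrreducible_singleton.closure, isClosed_closure⟩
    have hW : IsGenericPoint w (W : Set (Points X.obj)) := rfl
    have hle1 : P.toFun i.castSucc ≤ W := by
      show (P i.castSucc : Set (Points X.obj)) ⊆ closure {w}
      rw [← (hgp i.castSucc).def]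
      exact closure_minimal (Set.singleton_subset_iff.2 (specializes_iff_mem_closure.1 h3)) isClosed_closure
    have hle2 : W ≤ P.toFun i.succ := by
      show closure {w} ⊆ (P i.succ : Set (Points X.obj))
      exact closure_minimal (Set.singleton_subset_iff.2 (h2.mem_closed (P i.succ).3 (hgp i.succ).mem))
        (P i.succ).3
    rcases (hc i).eq_or_eq hle1 hle2 with e | e
    · exact Or.inr (hW.eq (e ▸ hgp i.castSucc))
    · exact Or.inl (hW.eq (e ▸ hgp i.succ))
  -- the bound is independent of the chain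
  have key : ∀ l : LTSeries ↥U.left, l.head = v → Points.ofPt a l.last = T'.2.genericPoint →
      ∀ l' : LTSeries ↥U.left, l'.head = v → Points.ofPt a l'.last = T'.2.genericPoint →
        DimFormula.cd l.last v = DimFormula.cd l'.last v := by
    intro l hl hl' l' hk hk'
    have e1 := (DimFormula.cd_formula g.left (hl ▸ LTSeries.head_le l (Fin.last _) : l.last ⤳ v)).2 (hcat v)
    have e2 := (DimFormula.cd_formula g.left (hk ▸ LTSeries.head_le l' (Fin.last _) : l'.last ⤳ v)).2 (hcat v)
    have hr : FibDim.rd g.left l.last = FibDim.rd g.left l'.last := by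
      have := ResTrdeg.rdeg_congr ha (repWith_id _ _) w ha (repWith_id _ _) w (hl'.trans hk'.symm)
      rw [← FibDim.rd_eq_rdeg, ← FibDim.rd_eq_rdeg] at this
      exact_mod_cast this
    have hs : g.left l.last = g.left l'.last := by
      refine (Points.schemeHomeo (Over.mk (𝟙 S))).injective ?_
      rw [← ofPt_yon_map g, ← ofPt_yon_map g, hg, ← Points.map_ofPt, ← Points.map_ofPt, hl', hk']
    rw [hs, hr] at e1
    omega
  refine ⟨?_, fun P Q hP hP' hQ hQ' hcP hcQ => ?_⟩
  · by_cases hex : ∃ P : LTSeries (IrreducibleCloseds (Points X.obj)), P.head = T ∧ P.last = T'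
    · obtain ⟨P₀, h₀, h₁⟩ := hex
      obtain ⟨l₀, -, hl₀, hl₀', -⟩ := hlen P₀ h₀ h₁
      refine ⟨DimFormula.cd l₀.last v, fun P hP hP' => ?_⟩
      obtain ⟨l, hl, hl1, hl2, -⟩ := hlen P hP hP'
      rw [← key l hl1 hl2 l₀ hl₀ hl₀', ← hl]
      exact DimFormula.le_cd (hl1 ▸ LTSeries.head_le l (Fin.last _)) l hl1 specializes_rfl
    · exact ⟨0, fun P hP hP' => absurd ⟨P, hP, hP'⟩ hex⟩
  · obtain ⟨l, hl, hl1, hl2, hl3⟩ := hlen P hP hP'
    obtain ⟨m, hm, hm1, hm2, hm3⟩ := hlen Q hQ hQ'
    rw [← hl, ← hm, length_eq_cd hPU l (hl3 hcP), length_eq_cd hPU m (hm3 hcQ), hl1, hm1]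
    exact key l hl1 hl2 m hm1 hm2

end Groth.Agent.Dsp6
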