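import Groth.Agent.Dsp6.QuasiFinite
import Groth.Agent.AlgSpDec.AffineProps
import Groth.Agent.AlgSpPts.Sep
import Groth.Agent.AlgSpPts.OpenSub
import Mathlib.AlgebraicGeometry.ZariskisMainTheorem

/-!
# Proper quasi-finite morphisms of algebraic spaces are finite
-/

set_option autoImplicit false
set_option backward.isDefEq.respectTransparency false
set_option backward.isDefEq.respectTransparency.types false

universe u

open CategoryTheory CategoryTheory.Limits AlgebraicGeometry AlgSp Groth.Agent.AlgSpLib Groth.Agent.AlgSpPts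
open Groth.Agent.AlgSpDec

namespace Groth.Agent.Dsp6

variable {S : Scheme.{u}} {F G : Sp S} {f : F ⟶ G}

theorem isFiniteMor_of_proper_lqf (hF : IsAlgSpace F) (hG : IsAlgSpace G) (hp : IsProperMor f)
    (hq : LocP (@LocallyQuasiFinite ⊓ @LocallyOfFiniteType) f) : IsFiniteMor f := by
  have hr := representable_of_lqf_separated hF hG f hq hp.1
  have hu := repWith_universallyClosed_of_univClosed hr hp.2.2
  rw [isFiniteMor_iff_repWith]
  refine ⟨hr, fun U V g fst snd sq => ?_⟩
  haveI : UniversallyClosed snd.left := hu.2 g fst snd sq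
  obtain ⟨hl, hl'⟩ := locP_yon_map (locP_of_isPullback sq hF hG (IsAlgSpace.yon_obj U) hq)
  haveI : LocallyQuasiFinite snd.left := hl
  haveI : LocallyOfFiniteType snd.left := hl'
  haveI : IsSeparated snd.left := (isSeparatedMor_yon_map_iff snd).1 (isSeparatedMor_of_isPullback sq hp.1)
  haveI : IsProper snd.left := {}
  exact IsFinite.of_isProper_of_locallyQuasiFinite snd.left

theorem lqf_iff_qfAt (hF : IsAlgSpace F) (hG : IsAlgSpace G) (hf : LocP @LocallyOfFiniteType f) :
    LocP (@LocallyQuasiFinite ⊓ @LocallyOfFiniteType) f ↔ ∀ x : Points F, HasAtMor QFQ f x := by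
  simp only [qfAt_iff hf]
  exact RelDimSp.lqf_iff hF hG hf

theorem qfAt_baseChange_iff {F' G' : Sp S} {g : G' ⟶ G} {fst : F' ⟶ F} {snd : F' ⟶ G'}
    (sq : IsPullback fst snd f g) (hF : IsAlgSpace F) (hG : IsAlgSpace G) (hG' : IsAlgSpace G')
    (hf : LocP @LocallyOfFiniteType f) (x' : Points F') :
    HasAtMor QFQ snd x' ↔ HasAtMor QFQ f (Points.map fst x') := by
  rw [qfAt_iff hf, qfAt_iff (locP_of_isPullback sq hF hG hG' hf)]
  exact PointLocus.at_baseChange_iff PointLocus.ptProp_lqf sq hF hG hG' hf x'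

/-- Proper morphisms quasi-finite over a point are finite over a neighbourhood of it. -/
theorem exists_nhd_finite {X Y : Space S} (f : X ⟶ Y) (hp : IsProperMor f.hom) (y : Points Y.obj)
    (hq : ∀ x : Points X.obj, Points.map f.hom x = y → HasAtMor QFQ f.hom x) :
    ∃ (V : Space S) (j : V ⟶ Y), RepWith @IsOpenImmersion j.hom ∧ y ∈ Set.range (Points.map j.hom) ∧
      ∀ (P : Space S) (fst : P ⟶ X) (snd : P ⟶ V), IsPullback fst.hom snd.hom f.hom j.hom →
        IsFiniteMor snd.hom := by
  have hl := hp.2.1.1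
  have hc : IsClosedMap (Points.map f.hom) :=
    hp.2.2 Y.property (𝟙 _) (𝟙 _) f.hom (IsPullback.of_horiz_isIso ⟨by simp⟩)
  obtain ⟨V', j, hV', hj, hr⟩ := exists_open_subspace Y.property
    (W := (Points.map f.hom '' {x | HasAtMor QFQ f.hom x}ᶜ)ᶜ)
    (hc _ (isOpen_qfAt hl).isClosed_compl).isOpen_compl
  refine ⟨⟨V', hV'⟩, ObjectProperty.homMk j, hj, ?_, fun P fst snd sq => ?_⟩
  · show y ∈ Set.range (Points.map j)
    rw [hr]
    rintro ⟨x, hx, hxy⟩
    exact hx (hq x hxy)
  · refine isFiniteMor_of_proper_lqf P.property hV' (isProperMor_of_isPullback sq X.property Y.property hV' hp) ?_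
    refine (lqf_iff_qfAt P.property hV' (locP_of_isPullback sq X.property Y.property hV' hl)).2 fun x' => ?_
    rw [qfAt_baseChange_iff sq X.property Y.property hV' hl]
    by_contra hn
    have h1 : Points.map f.hom (Points.map fst.hom x') ∈ Set.range (Points.map j) :=
      ⟨Points.map snd.hom x', by
        rw [← Points.map_comp, ← Points.map_comp]; exact congrArg (Points.map · x') sq.w.symm⟩
    rw [hr] at h1
    exact h1 ⟨_, hn, rfl⟩

theorem exists_nhd_finite' {X Y : Space S} (f : X ⟶ Y) (hp : IsProperMor f.hom) (y : Points Y.obj)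
    (hq : ∀ x : Points X.obj, Points.map f.hom x = y → HasAtMor QFQ f.hom x) :
    ∃ (V : Space S) (j : V ⟶ Y), RepWith @IsOpenImmersion j.hom ∧ y ∈ Set.range (Points.map j.hom) ∧
      ∀ (P : Space S) (fst : P ⟶ V) (snd : P ⟶ X), IsPullback fst.hom snd.hom j.hom f.hom →
        IsFiniteMor fst.hom := by
  obtain ⟨V, j, h1, h2, h3⟩ := exists_nhd_finite f hp y hq
  exact ⟨V, j, h1, h2, fun P fst snd sq => h3 P snd fst sq.flip⟩

end Groth.Agent.Dsp6
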