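import Groth.Agent.Dsp6.IntegralGen
import Groth.Agent.S2080

/-!
# Generically finite morphisms of integral algebraic spaces
-/

set_option autoImplicit false
set_option backward.isDefEq.respectTransparency false
set_option backward.isDefEq.respectTransparency.types false

universe u

open CategoryTheory CategoryTheory.Limits AlgebraicGeometry AlgSp Groth.Agent.AlgSpLib Groth.Agent.AlgSpPts
open Groth.Agent.AlgSpDec Groth.Agent.AlgSpOne TopologicalSpace Order

namespace Groth.Agent.Dsp6

variable {S : Scheme.{u}}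

theorem etale_of_openImm {F G : Sp S} {j : F ⟶ G} (hj : RepWith @IsOpenImmersion j) : RepWith @Etale j :=
  repWith_mono (fun _ _ f (h : IsOpenImmersion f) => (inferInstance : Etale f)) _ hj

/-- An affine open subscheme around the generic point, inside a given open set. -/
theorem exists_affine_open_generic {X : Space S} (hXi : IsIntegralSp X.obj) {x : Points X.obj}
    (hx : IsGenericPoint x (Set.univ : Set (Points X.obj))) {W : Set (Points X.obj)} (hW : IsOpen W) (hxW : x ∈ W) :
    ∃ (T : Over S) (b : (yon S).obj T ⟶ X.obj), IsAffine T.left ∧ RepWith @IsOpenImmersion b ∧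
      Set.range (Points.map b) ⊆ W ∧ ∃ t : ↥T.left, Points.ofPt b t = x := by
  obtain ⟨X', j, hj, hr, hd⟩ := exists_dense_open_subscheme_of_isDecent X hXi.2.1
  obtain ⟨T, ⟨e⟩⟩ := hr.has_representation
  let i := isoOfRepresentableBy e
  haveI : Nonempty (Points X.obj) := ⟨x⟩
  haveI : Nonempty (Points X'.obj) := by
    obtain ⟨_, z, -⟩ := hd.nonempty
    exact ⟨z⟩
  obtain ⟨z, hz⟩ := mem_range_generic hXi hx hj
  obtain ⟨t, ht⟩ := (Points.schemeHomeo T).surjective (Points.map i.inv z)
  let k := i.hom ≫ j.hom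
  have hk : RepWith @IsOpenImmersion k := repWith_comp (repWith_of_isIso _ i.hom) hj
  have htx : Points.ofPt k t = x := by
    rw [Points.ofPt_eq_map_ofScheme]
    show Points.map k (Points.schemeHomeo T t) = x
    rw [ht, ← Points.map_comp, i.inv_hom_id_assoc, hz]
  obtain ⟨A, hA, htA, hAW⟩ := exists_isAffineOpen_mem_and_subset (x := t)
    (U := (⟨Points.ofPt k ⁻¹' W, hW.preimage (Points.continuous_ofPt k)⟩ : T.left.Opens))
    (show Points.ofPt k t ∈ W by rwa [htx])
  let T' : Over S := Over.mk (A.ι ≫ T.hom)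
  let ι : T' ⟶ T := CategoryTheory.Over.homMk A.ι rfl
  refine ⟨T', (yon S).map ι ≫ k, hA,
    repWith_comp ((repWith_yon_map_iff _ _).2 (inferInstanceAs (IsOpenImmersion A.ι))) hk, ?_,
    ⟨t, htA⟩, by rw [ofPt_comp]; exact htx⟩
  rintro _ ⟨p, rfl⟩
  obtain ⟨s, rfl⟩ := (Points.schemeHomeo T').surjective p
  show Points.map _ (Points.ofScheme T' s) ∈ W
  rw [← Points.ofPt_eq_map_ofScheme, ofPt_comp]
  exact hAW s.2

theorem locP_lqf_of_isFiniteMor {F G : Sp S} {f : F ⟶ G} (h : IsFiniteMor f) :
    LocP (@LocallyQuasiFinite ⊓ @LocallyOfFiniteType) f := by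
  refine locP_of_repWith (repWith_mono (fun _ _ g (hg : IsFinite g) => ?_) _ (isFiniteMor_iff_repWith.1 h))
  exact ⟨inferInstance, inferInstance⟩

theorem qf_of_finite_chart {F G : Sp S} {f : F ⟶ G} (hf : LocP @LocallyOfFiniteType f) {U V : Over S}
    {a : (yon S).obj U ⟶ F} {b : (yon S).obj V ⟶ G} {g : U ⟶ V} (ha : RepWith @Etale a)
    (hb : RepWith @Etale b) (w : a ≫ f = (yon S).map g ≫ b) (hg : IsFinite g.left) (u : ↥U.left) :
    HasAtMor QFQ f (Points.ofPt a u) := by
  haveI := hg
  haveI : LocallyOfFiniteType g.left := inferInstance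
  exact (isQfAt_iff_chart hf ha hb w u).2 (fibreDimAt_eq_zero_of_lqf g.left u)

variable {X Y : Space S} (hXi : IsIntegralSp X.obj) (hYi : IsIntegralSp Y.obj) {f : X ⟶ Y}
  (hd : IsDominantMor f.hom) {x : Points X.obj} (hx : IsGenericPoint x (Set.univ : Set (Points X.obj)))
  {y : Points Y.obj} (hy : IsGenericPoint y (Set.univ : Set (Points Y.obj)))

include hXi hYi hd hx hy

theorem finite_over_affine_opens_iff_unique (hft : LocP @LocallyOfFiniteType f.hom) :
    (∃ (U V : Over S) (a : (yon S).obj U ⟶ X.obj) (b : (yon S).obj V ⟶ Y.obj) (g : U ⟶ V),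
      IsAffine U.left ∧ IsAffine V.left ∧ Nonempty ↥U.left ∧
        RepWith @IsOpenImmersion a ∧ RepWith @IsOpenImmersion b ∧
          a ≫ f.hom = (yon S).map g ≫ b ∧ IsFinite g.left) ↔
      ∀ x' : Points X.obj, Points.map f.hom x' = y → x' = x := by
  constructor
  · rintro ⟨U, V, a, b, g, -, -, ⟨u₀⟩, ha, hb, w, hg⟩
    haveI : Nonempty (Points ((yon S).obj U)) := ⟨Points.ofScheme U u₀⟩
    obtain ⟨p, hp⟩ := mem_range_generic hXi hx ha
    obtain ⟨u, rfl⟩ := (Points.schemeHomeo U).surjective p
    refine (qf_generic_iff_unique hXi hYi hd hx hy hft).1 ?_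
    rw [← hp, show Points.map a (Points.schemeHomeo U u) = Points.ofPt a u from (Points.ofPt_eq_map_ofScheme _ _).symm]
    exact qf_of_finite_chart hft (etale_of_openImm ha) (etale_of_openImm hb) w hg u
  · intro huniq
    obtain ⟨V, b, hV, hb, -, v, hv⟩ := exists_affine_open_generic hYi hy isOpen_univ trivial
    haveI : IsAffine V.left := hV
    have hxy := map_generic hYi hd hx hy
    obtain ⟨U, a, hU, ha, haW, u, hu⟩ := exists_affine_open_generic hXi hx
      ((isOpen_range_openImm Y.property hb).preimage (Points.continuous_map f.hom))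
      (show x ∈ Points.map f.hom ⁻¹' _ from ⟨Points.ofScheme V v, by
        rw [hxy, ← Points.ofPt_eq_map_ofScheme, hv]⟩)
    haveI : IsAffine U.left := hU
    obtain ⟨g', hg'⟩ := exists_lift_openImmersion (IsAlgSpace.yon_obj U) (IsAlgSpace.yon_obj V) Y.property hb
      (a ≫ f.hom) (by
        rintro _ ⟨p, rfl⟩
        rw [Points.map_comp]
        exact haW ⟨p, rfl⟩)
    obtain ⟨g, rfl⟩ := (yon S).map_surjective g'
    haveI : LocallyOfFiniteType g.left := hft a b g (etale_of_openImm ha) (etale_of_openImm hb) hg'.symm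
    have hco : coheight v = 0 := coheight_generic_chart hYi hy (etale_of_openImm hb) hv
    have hη : closure {v} ∈ irreducibleComponents ↥V.left := by
      obtain ⟨Z₀, hZ₀, hgen⟩ := exists_component_of_coheight_zero hco
      rwa [hgen.def]
    have hinj : Function.Injective (Points.ofPt a) := fun p q hpq => by
      haveI := mono_of_openImm ha
      rw [Points.ofPt_eq_map_ofScheme, Points.ofPt_eq_map_ofScheme] at hpq
      exact (Points.schemeHomeo U).injective (injective_points_map_of_mono a hpq)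
    have hfib : (g.left ⁻¹' {v}).Finite := (Set.finite_singleton u).subset fun p hp => hinj (by
      rw [hu]
      refine huniq _ ?_
      rw [Points.map_ofPt, ← hg', ofPt_comp, show g.left p = v from hp, hv])
    obtain ⟨A, hA, hvA, hfin⟩ := (Groth.Agent.S2080.result g.left v hη).1 hfib
    let V' : Over S := Over.mk (A.ι ≫ V.hom)
    let iV : V' ⟶ V := CategoryTheory.Over.homMk A.ι rfl
    let U' : Over S := Over.mk ((g.left ⁻¹ᵁ A).ι ≫ U.hom)
    let iU : U' ⟶ U := CategoryTheory.Over.homMk (g.left ⁻¹ᵁ A).ι rfl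
    let gA : U' ⟶ V' := CategoryTheory.Over.homMk (g.left ∣_ A) (by
      change (g.left ∣_ A) ≫ A.ι ≫ V.hom = (g.left ⁻¹ᵁ A).ι ≫ U.hom
      rw [morphismRestrict_ι_assoc, Over.w])
    have hsq : iU ≫ g = gA ≫ iV := Over.OverMorphism.ext (morphismRestrict_ι _ _).symm
    have hgu : g.left u = v := by
      haveI := mono_of_openImm hb
      refine (Points.schemeHomeo V).injective (injective_points_map_of_mono b ?_)
      show Points.map b (Points.ofScheme V _) = Points.map b (Points.ofScheme V _)
      rw [← Points.ofPt_eq_map_ofScheme, ← Points.ofPt_eq_map_ofScheme, hv, ← ofPt_comp, hg', ← Points.map_ofPt,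
        hu, hxy]
    refine ⟨U', V', (yon S).map iU ≫ a, (yon S).map iV ≫ b, gA, hA.preimage g.left, hA,
      ⟨⟨u, show g.left u ∈ A from hgu ▸ hvA⟩⟩,
      repWith_comp ((repWith_yon_map_iff _ _).2 (inferInstanceAs (IsOpenImmersion (g.left ⁻¹ᵁ A).ι))) ha,
      repWith_comp ((repWith_yon_map_iff _ _).2 (inferInstanceAs (IsOpenImmersion A.ι))) hb, ?_, hfin⟩
    rw [Category.assoc, ← hg', ← Category.assoc, ← Category.assoc, ← Functor.map_comp, ← Functor.map_comp, hsq]

theorem unique_iff_finite_over_affine (hft : LocP @LocallyOfFiniteType f.hom)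
    (hsq : IsSeparatedMor f.hom ∨ IsQuasiCompactMor f.hom) :
    (∀ x' : Points X.obj, Points.map f.hom x' = y → x' = x) ↔
      ∃ (V : Over S) (b : (yon S).obj V ⟶ Y.obj) (U : Over S) (g : U ⟶ V) (a : (yon S).obj U ⟶ X.obj),
        IsAffine V.left ∧ Nonempty ↥V.left ∧ RepWith @IsOpenImmersion b ∧
          IsPullback a ((yon S).map g) f.hom b ∧ IsAffine U.left ∧ IsFinite g.left := by
  constructor
  · intro huniq
    have hycz : IsCodimZero Y.obj y := (isCodimZero_iff_generic hYi hy y).2 rfl
    obtain ⟨Y', k, X', fst, snd, hk, hyk, sq, hfin⟩ := exists_finite_open_at X Y f.hom hft hYi.2.1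
      ((Set.finite_singleton x).subset fun z hz => (isCodimZero_iff_generic hXi hx z).1 hz)
      ((Set.finite_singleton y).subset fun z hz => (isCodimZero_iff_generic hYi hy z).1 hz)
      (isCodimZero_iff_map hXi hYi hd hx hy huniq) hsq.symm y hycz
    obtain ⟨V, b, hV, hb, hbW, v, -⟩ :=
      exists_affine_open_generic hYi hy (isOpen_range_openImm Y.property hk) hyk
    obtain ⟨g', hg'⟩ := exists_lift_openImmersion (IsAlgSpace.yon_obj V) Y'.property Y.property hk b hbW
    obtain ⟨U, g, fst', sq', hU, hg⟩ := hfin hV g'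
    refine ⟨V, b, U, g, fst' ≫ snd, hV, ⟨v⟩, hb, ?_, hU, hg⟩
    rw [← hg']
    exact sq'.paste_horiz sq.flip
  · rintro ⟨V, b, U, g, a, -, ⟨v₀⟩, hb, sq, -, hg⟩
    haveI : Nonempty (Points ((yon S).obj V)) := ⟨Points.ofScheme V v₀⟩
    obtain ⟨p, hp⟩ := mem_range_generic hYi hy hb
    obtain ⟨q, hq, -⟩ := exists_point_of_isPullback sq (x := x) (y := p) (by rw [hp, map_generic hYi hd hx hy])
    obtain ⟨u, rfl⟩ := (Points.schemeHomeo U).surjective q
    refine (qf_generic_iff_unique hXi hYi hd hx hy hft).1 ?_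
    rw [← hq, show Points.map a (Points.schemeHomeo U u) = Points.ofPt a u from (Points.ofPt_eq_map_ofScheme _ _).symm]
    exact qf_of_finite_chart hft (etale_of_openImm (repWith_of_isPullback sq.flip hb)) (etale_of_openImm hb)
      sq.w hg u

theorem alteration_iff_unique (hp : IsProperMor f.hom) :
    (∃ (V : Space S) (j : V ⟶ Y), RepWith @IsOpenImmersion j.hom ∧ Nonempty (Points V.obj) ∧
      ∀ (P : Space S) (fst : P ⟶ V) (snd : P ⟶ X), IsPullback fst.hom snd.hom j.hom f.hom →
        IsFiniteMor fst.hom) ↔ ∀ x' : Points X.obj, Points.map f.hom x' = y → x' = x := by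
  have hft := hp.2.1.1
  have hxy := map_generic hYi hd hx hy
  constructor
  · rintro ⟨V, j, hj, hne, hfin⟩
    obtain ⟨p, hpy⟩ := mem_range_generic hYi hy hj
    let P : Space S := ⟨pullback j.hom f.hom, isAlgSpace_pullback V.property X.property Y.property _ _⟩
    let fst : P ⟶ V := ObjectProperty.homMk (pullback.fst j.hom f.hom)
    let snd : P ⟶ X := ObjectProperty.homMk (pullback.snd j.hom f.hom)
    have sq : IsPullback fst.hom snd.hom j.hom f.hom := IsPullback.of_hasPullback _ _
    obtain ⟨q, -, hq⟩ := exists_point_of_isPullback sq (x := p) (y := x) (by rw [hpy, hxy])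
    refine (qf_generic_iff_unique hXi hYi hd hx hy hft).1 ?_
    rw [← hq]
    refine (qfAt_baseChange_iff sq.flip X.property Y.property V.property hft q).1 ?_
    exact (lqf_iff_qfAt P.property V.property
      (locP_of_isPullback sq.flip X.property Y.property V.property hft)).1
      (locP_lqf_of_isFiniteMor (hfin P fst snd sq)) q
  · intro huniq
    obtain ⟨V, j, hj, ⟨p, hpy⟩, hfin⟩ := exists_nhd_finite' f hp y fun x' hx' => by
      rw [huniq x' hx']
      exact (qf_generic_iff_unique hXi hYi hd hx hy hft).2 huniq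
    exact ⟨V, j, hj, ⟨p⟩, hfin⟩

end Groth.Agent.Dsp6
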