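import Groth.Agent.AlgSpC7.FibreDimSp
import Groth.Agent.AlgSpDec.SchDenseSp
import Groth.Agent.Dsp6.FiniteNhd
import Groth.Agent.Dsp6.IntegralGenFin
import Groth.Agent.S1240

/-!
# Relative dimension and finiteness over a dense open subspace
-/

set_option autoImplicit false
set_option backward.isDefEq.respectTransparency false
set_option backward.isDefEq.respectTransparency.types false

universe u

open CategoryTheory CategoryTheory.Limits AlgebraicGeometry AlgSp Groth.Agent.AlgSpLib Groth.Agent.AlgSpPts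
open Groth.Agent.AlgSpDec Groth.Agent.AlgSpC7.FibreDimSp

namespace Groth.Agent.Dsp6

theorem isRetrocompact_of_quasiCompact_ι {V : Scheme.{u}} (O : V.Opens) [QuasiCompact O.ι] :
    IsRetrocompact (O : Set V) := by
  intro K hK hKo
  have h := (QuasiCompact.isCompact_preimage (f := O.ι) K hKo hK).image O.ι.continuous
  rw [Set.image_preimage_eq_inter_range, Scheme.Opens.range_ι, Set.inter_comm] at h
  exact h

variable {S : Scheme.{u}} {X Y V : Space S} {f : X ⟶ Y} {j : V ⟶ Y}

theorem relDim_le_of_dense_open (d : ℕ)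
    (hf1 : LocP @Flat f.hom) (hf2 : LocP @LocallyOfFiniteType f.hom)
    (hj1 : RepWith @IsOpenImmersion j.hom) (hj2 : Dense (Set.range (Points.map j.hom)))
    (P : Space S) (fst : P ⟶ X) (snd : P ⟶ V) (hP : IsPullback fst.hom snd.hom f.hom j.hom)
    (hV : ∀ x, HasAtMor (fun _ _ h u => FlatMor.fibreDimAt h u ≤ (d : WithBot ℕ∞)) snd.hom x)
    (h : LocP @LocallyOfFinitePresentation f.hom ∨ IsQuasiCompactMor j.hom) (x : Points X.obj) :
    HasAtMor (fun _ _ h u => FlatMor.fibreDimAt h u ≤ (d : WithBot ℕ∞)) f.hom x := by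
  obtain ⟨U, W, a, b, g, ha, ha', hb, -, w⟩ := exists_chart X.property Y.property f.hom
  obtain ⟨u, rfl⟩ := surjective_ofPt ha' x
  refine ⟨U, W, a, b, g, u, ha, hb, w, rfl, ?_⟩
  haveI : Flat g.left := hf1 a b g ha hb w
  haveI : LocallyOfFiniteType g.left := hf2 a b g ha hb w
  refine Groth.Agent.S1240.result g.left (SchDenseSp.pre Y.property hj1 b) ?_ d (fun u' hu' => ?_) ?_ u
  · exact hj2.preimage (isOpenMap_ofPt hb)
  · obtain ⟨v, hv⟩ : Points.ofPt b (g.left u') ∈ Set.range (Points.map j.hom) := hu'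
    obtain ⟨p, hp, -⟩ := exists_point_of_isPullback hP (x := Points.ofPt a u') (y := v)
      (by rw [hv, Points.map_ofPt, w, ofPt_comp])
    have hd := (hasAtMor_iff_rdim P.property V.property
      (locP_of_isPullback hP X.property Y.property V.property hf2) (fun e => e ≤ (d : WithBot ℕ∞)) p).1 (hV p)
    rwa [rdim_baseChange hP X.property Y.property V.property hf2, hp, rdim_ofPt hf2 ha hb w] at hd
  · refine h.imp (fun hl => hl a b g ha hb w) fun hq => ?_
    haveI := SchDenseSp.quasiCompact_pre_ι Y.property hj1 hq b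
    exact isRetrocompact_of_quasiCompact_ι _

theorem isFiniteMor_of_dense_open
    (hf1 : LocP @Flat f.hom) (hf2 : IsProperMor f.hom)
    (hj1 : RepWith @IsOpenImmersion j.hom) (hj2 : Dense (Set.range (Points.map j.hom)))
    (P : Space S) (fst : P ⟶ X) (snd : P ⟶ V) (hP : IsPullback fst.hom snd.hom f.hom j.hom)
    (hV : IsFiniteMor snd.hom)
    (h : LocP @LocallyOfFinitePresentation f.hom ∨ IsQuasiCompactMor j.hom) : IsFiniteMor f.hom := by
  have hl := hf2.2.1.1
  have hs := locP_of_isPullback hP X.property Y.property V.property hl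
  have hq := (lqf_iff_qfAt P.property V.property hs).1 (locP_lqf_of_isFiniteMor hV)
  refine isFiniteMor_of_proper_lqf X.property Y.property hf2
    ((lqf_iff_qfAt X.property Y.property hl).2 fun x => ?_)
  have hV0 : ∀ p, HasAtMor (fun _ _ h u => FlatMor.fibreDimAt h u ≤ ((0 : ℕ) : WithBot ℕ∞)) snd.hom p := fun p => by
    obtain ⟨U, W, a, b, g, u, ha, hb, w, hu, hd⟩ := (qfAt_iff hs p).1 (hq p)
    exact ⟨U, W, a, b, g, u, ha, hb, w, hu, le_of_eq hd⟩
  obtain ⟨U, W, a, b, g, u, ha, hb, w, hu, hd⟩ := relDim_le_of_dense_open 0 hf1 hl hj1 hj2 P fst snd hP hV0 h x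
  haveI : LocallyOfFiniteType g.left := hl a b g ha hb w
  rw [qfAt_iff hl]
  exact ⟨U, W, a, b, g, u, ha, hb, w, hu, FieldFibre.fibreDimAt_eq_zero_of_le g.left u hd⟩

end Groth.Agent.Dsp6
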