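import Groth.Agent.Dsp6.DenseLfp
import Groth.Agent.AlgSpDec.FppfLqf
import Groth.Agent.AlgSpDec.LqfScheme

/-!
# Flat morphisms which are isomorphisms over a scheme theoretically dense open subspace
-/

set_option autoImplicit false
set_option backward.isDefEq.respectTransparency false
set_option backward.isDefEq.respectTransparency.types false
set_option maxHeartbeats 400000

universe u

open CategoryTheory CategoryTheory.Limits AlgebraicGeometry AlgSp Groth.Agent.AlgSpLib Groth.Agent.AlgSpPts
open Groth.Agent.AlgSpDec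

namespace Groth.Agent.Dsp6

instance : MorphismProperty.IsMultiplicative @LocallyOfFinitePresentation.{u} where
  id_mem _ := inferInstance

variable {S : Scheme.{u}} {X Y V : Space S} {f : X ⟶ Y} {j : V ⟶ Y}

theorem mono_of_iso_over_schDense (hf1 : IsSeparatedMor f.hom) (hf3 : LocP @Flat f.hom)
    (hj1 : IsQuasiCompactMor j.hom) (hj2 : IsSchDense j.hom) (P : Space S) (fst : P ⟶ X) (snd : P ⟶ V)
    (hP : IsPullback fst.hom snd.hom f.hom j.hom) (hV : IsIso snd.hom) : Mono f.hom := by
  have sq : IsPullback (pullback.fst f.hom f.hom) (pullback.snd f.hom f.hom) f.hom f.hom :=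
    IsPullback.of_hasPullback _ _
  have hQ : IsAlgSpace (pullback f.hom f.hom) := isAlgSpace_pullback X.property X.property Y.property _ _
  let g : pullback f.hom f.hom ⟶ Y.obj := pullback.fst f.hom f.hom ≫ f.hom
  have hg : LocP @Flat g :=
    locP_comp hQ X.property Y.property (locP_of_isPullback sq.flip X.property Y.property X.property hf3) hf3
  obtain ⟨R, W, a, b, h, ha, ha', hb, -, w⟩ := exists_chart hQ Y.property g
  haveI : Flat h.left := hg a b h ha hb w
  let O := SchDenseSp.pre Y.property hj2.1 b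
  haveI : QuasiCompact O.ι := SchDenseSp.quasiCompact_pre_ι Y.property hj2.1 hj1 b
  have hd : CInt.IsSchematicallyDense (h.left ⁻¹ᵁ O) :=
    SchDenseFacts.preimage_of_flat_qc h.left O (SchDenseSp.dense_pre Y.property hj2 hb)
      (SchDenseFacts.isCompact_inf_of_quasiCompact O)
  haveI : QuasiCompact (h.left ⁻¹ᵁ O).ι :=
    MorphismProperty.of_isPullback (P := @QuasiCompact) (isPullback_morphismRestrict h.left O) ‹_›
  have hker : (h.left ⁻¹ᵁ O).ι.ker = ⊥ := (SchDenseFacts.iff_ker_eq_bot _).1 hd
  obtain ⟨fV, sqV⟩ := SchDenseSp.exists_isPullback Y.property hj2.1 b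
  let W' : Over S := Over.mk (O.ι ≫ W.hom)
  let ιW : W' ⟶ W := Over.homMk O.ι rfl
  let R' : Over S := Over.mk ((h.left ⁻¹ᵁ O).ι ≫ R.hom)
  let ιR : R' ⟶ R := Over.homMk (h.left ⁻¹ᵁ O).ι rfl
  let h' : R' ⟶ W' := Over.homMk (h.left ∣_ O) (by
    show (h.left ∣_ O) ≫ O.ι ≫ W.hom = (h.left ⁻¹ᵁ O).ι ≫ R.hom
    rw [morphismRestrict_ι_assoc, Over.w])
  have hh : h' ≫ ιW = ιR ≫ h := Over.OverMorphism.ext (morphismRestrict_ι _ _)
  let a₁ := (yon S).map ιR ≫ a ≫ pullback.fst f.hom f.hom
  let a₂ := (yon S).map ιR ≫ a ≫ pullback.snd f.hom f.hom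
  have e₁ : a₁ ≫ f.hom = ((yon S).map h' ≫ fV) ≫ j.hom := by
    simp only [a₁, Category.assoc]
    rw [sqV.w, show a ≫ pullback.fst f.hom f.hom ≫ f.hom = (yon S).map h ≫ b from w, ← Category.assoc,
      ← Category.assoc ((yon S).map h'), ← Functor.map_comp, ← Functor.map_comp, hh]
  have e₂ : a₂ ≫ f.hom = ((yon S).map h' ≫ fV) ≫ j.hom := by
    rw [← e₁]; simp only [a₁, a₂, Category.assoc, pullback.condition]
  have : IsIso snd.hom := hV
  have heq : a₁ = a₂ := by
    rw [← hP.lift_fst _ _ e₁, ← hP.lift_fst _ _ e₂]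
    congr 1
    rw [← cancel_mono snd.hom, hP.lift_snd, hP.lift_snd]
  obtain ⟨z, hz⟩ : ∃ z : (yon S).obj R' ⟶ X.obj, z ≫ pullback.diagonal f.hom = (yon S).map ιR ≫ a := by
    refine ⟨a₁, pullback.hom_ext ?_ ?_⟩
    · simp only [a₁, Category.assoc, pullback.diagonal_fst, Category.comp_id]
    · rw [Category.assoc, pullback.diagonal_snd, Category.comp_id, heq]
      simp only [a₂, Category.assoc]
  have hD : RepWith @IsClosedImmersion (pullback.diagonal f.hom) := hf1
  haveI : IsClosedImmersion (hD.rep.snd a).left := hD.property_snd a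
  have hfac : (hD.rep.lift z ιR hz).left ≫ (hD.rep.snd a).left = ιR.left := by
    rw [← Over.comp_left, Functor.relativelyRepresentable.lift_snd]
  haveI : IsIso (hD.rep.snd a).left := by
    rw [IsClosedImmersion.isIso_iff_ker_eq_bot, eq_bot_iff]
    refine (Scheme.Hom.le_ker_comp (hD.rep.lift z ιR hz).left (hD.rep.snd a).left).trans ?_
    rw [hfac]
    exact hker.le
  have : IsIso ((Over.forget S).map (hD.rep.snd a)) := ‹IsIso (hD.rep.snd a).left›
  have : IsIso (hD.rep.snd a) := isIso_of_reflects_iso _ (Over.forget S)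
  have ha2 : a = ((yon S).map (inv (hD.rep.snd a)) ≫ hD.rep.fst a) ≫ pullback.diagonal f.hom := by
    rw [Category.assoc, hD.rep.w a, ← Functor.map_comp_assoc, IsIso.inv_hom_id,
      CategoryTheory.Functor.map_id, Category.id_comp]
  haveI : Epi a := epi_of_etale_surjective ha ha'
  have hpp : pullback.fst f.hom f.hom = pullback.snd f.hom f.hom := by
    rw [← cancel_epi a, ha2]
    simp only [Category.assoc, pullback.diagonal_fst, pullback.diagonal_snd]
  exact ⟨fun c d e => by
    rw [← pullback.lift_fst c d e, hpp, pullback.lift_snd]⟩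

theorem isOpenImmersion_of_iso_over_schDense (hf1 : IsSeparatedMor f.hom) (hf2 : LocP @LocallyOfFiniteType f.hom)
    (hf3 : LocP @Flat f.hom) (hj1 : IsQuasiCompactMor j.hom) (hj2 : IsSchDense j.hom) (P : Space S) (fst : P ⟶ X)
    (snd : P ⟶ V) (hP : IsPullback fst.hom snd.hom f.hom j.hom) (hV : IsIso snd.hom) :
    RepWith @IsOpenImmersion f.hom := by
  haveI := mono_of_iso_over_schDense hf1 hf3 hj1 hj2 P fst snd hP hV
  have hl : LocP @LocallyOfFinitePresentation f.hom :=
    locP_lfp_of_schDense hf2 hf3 hj1 hj2 P fst snd hP (haveI := hV; locP_of_repWith (repWith_of_isIso _ _))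
  have hr : Representable f.hom :=
    representable_of_lqf_separated X.property Y.property f.hom (locP_lqf_of_mono f.hom hf2) hf1
  refine ⟨hr, fun T Q g fst' snd' sq => ?_⟩
  haveI : Flat snd'.left := (repWith_of_locP Y.property hr hf3).property g fst' snd' sq
  haveI : LocallyOfFinitePresentation snd'.left := (repWith_of_locP Y.property hr hl).property g fst' snd' sq
  haveI : Mono ((yon S).map snd') := ⟨fun c d e => sq.hom_ext ((cancel_mono f.hom).1 (by
    rw [Category.assoc, Category.assoc, sq.w, reassoc_of% e])) e⟩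
  haveI : Mono snd' := (yon S).mono_of_mono_map ‹_›
  haveI : Mono snd'.left := CategoryTheory.Over.mono_left_of_mono snd'
  exact IsOpenImmersion.of_flat_of_mono snd'.left

end Groth.Agent.Dsp6
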