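import Groth.Agent.AlgSpDec.SchDenseSp
import Groth.Agent.AlgSpPts.Misc
import Groth.Agent.S0451

/-!
# Finite presentation over a scheme theoretically dense open subspace
-/

set_option autoImplicit false
set_option backward.isDefEq.respectTransparency false
set_option backward.isDefEq.respectTransparency.types false

universe u

open CategoryTheory CategoryTheory.Limits AlgebraicGeometry AlgSp Groth.Agent.AlgSpLib Groth.Agent.AlgSpPts
open Groth.Agent.AlgSpDec

namespace Groth.Agent.Dsp6

variable {S : Scheme.{u}} {X Y V : Space S} {f : X ⟶ Y} {j : V ⟶ Y}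

/-- The restriction of a chart over an open subspace has the properties of the base change. -/
theorem chart_restrict_of_base_change {Q : MorphismProperty Scheme.{u}} [IsEtLocal Q]
    (hj : RepWith @IsOpenImmersion j.hom) (P : Space S) (fst : P ⟶ X) (snd : P ⟶ V)
    (hP : IsPullback fst.hom snd.hom f.hom j.hom) (hQ : LocP Q snd.hom)
    {U W : Over S} {a : (yon S).obj U ⟶ X.obj} {b : (yon S).obj W ⟶ Y.obj} {g : U ⟶ W}
    (ha : RepWith @Etale a) (hb : RepWith @Etale b) (w : a ≫ f.hom = (yon S).map g ≫ b) :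
    Q (g.left ∣_ SchDenseSp.pre Y.property hj b) := by
  let O := SchDenseSp.pre Y.property hj b
  obtain ⟨fV, sq⟩ := SchDenseSp.exists_isPullback Y.property hj b
  let W' : Over S := Over.mk (O.ι ≫ W.hom)
  let ιW : W' ⟶ W := Over.homMk O.ι rfl
  let k : (yon S).obj W' ⟶ Y.obj := (yon S).map ιW ≫ b
  have hιW : RepWith @Etale ((yon S).map ιW) := (repWith_yon_map_iff _ _).2 (inferInstanceAs (Etale O.ι))
  have hk : RepWith @Etale k := repWith_comp hιW hb
  let Qs := pullback f.hom k
  have sq₁ : IsPullback (pullback.fst f.hom k) (pullback.snd f.hom k) f.hom k := IsPullback.of_hasPullback _ _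
  let m : Qs ⟶ P.obj := hP.lift (pullback.fst f.hom k) (pullback.snd f.hom k ≫ fV)
    (by rw [Category.assoc, sq.w]; exact sq₁.w)
  have sqm : IsPullback m (pullback.snd f.hom k) snd.hom fV := by
    refine IsPullback.of_right ?_ (hP.lift_snd _ _ _) hP
    rw [show m ≫ fst.hom = pullback.fst f.hom k from hP.lift_fst _ _ _, sq.w]
    exact sq₁
  have hq : LocP Q (pullback.snd f.hom k) :=
    locP_of_isPullback sqm P.property V.property (IsAlgSpace.yon_obj W') hQ
  let U' : Over S := Over.mk ((g.left ⁻¹ᵁ O).ι ≫ U.hom)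
  let ιU : U' ⟶ U := Over.homMk (g.left ⁻¹ᵁ O).ι rfl
  let g' : U' ⟶ W' := Over.homMk (g.left ∣_ O) (by
    show (g.left ∣_ O) ≫ O.ι ≫ W.hom = (g.left ⁻¹ᵁ O).ι ≫ U.hom
    rw [morphismRestrict_ι_assoc, Over.w])
  have hg : g' ≫ ιW = ιU ≫ g := Over.OverMorphism.ext (morphismRestrict_ι _ _)
  have hιU : RepWith @Etale ((yon S).map ιU) :=
    (repWith_yon_map_iff _ _).2 (inferInstanceAs (Etale (g.left ⁻¹ᵁ O).ι))
  let a' : (yon S).obj U' ⟶ Qs := sq₁.lift ((yon S).map ιU ≫ a) ((yon S).map g') (by
    rw [Category.assoc, w, ← Category.assoc, ← Functor.map_comp, ← hg, Functor.map_comp, Category.assoc])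
  have ha' : RepWith @Etale a' := repWith_etale_of_comp a' (pullback.fst f.hom k)
    (by rw [show a' ≫ pullback.fst f.hom k = (yon S).map ιU ≫ a from sq₁.lift_fst _ _ _]
        exact repWith_comp hιU ha)
    (repWith_of_isPullback sq₁.flip hk)
  exact hq a' (𝟙 _) g' ha' (repWith_id _ _) (by rw [Category.comp_id]; exact sq₁.lift_snd _ _ _)

theorem locP_lfp_of_schDense (hf1 : LocP @LocallyOfFiniteType f.hom) (hf2 : LocP @Flat f.hom)
    (hj1 : IsQuasiCompactMor j.hom) (hj2 : IsSchDense j.hom) (P : Space S) (fst : P ⟶ X) (snd : P ⟶ V)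
    (hP : IsPullback fst.hom snd.hom f.hom j.hom) (hV : LocP @LocallyOfFinitePresentation snd.hom) :
    LocP @LocallyOfFinitePresentation f.hom := by
  intro U W a b g ha hb w
  haveI : LocallyOfFiniteType g.left := hf1 a b g ha hb w
  haveI : Flat g.left := hf2 a b g ha hb w
  let O := SchDenseSp.pre Y.property hj2.1 b
  haveI : QuasiCompact O.ι := SchDenseSp.quasiCompact_pre_ι Y.property hj2.1 hj1 b
  haveI : IsSchemeTheoreticallyDominant O.ι := (isSchemeTheoreticallyDominant_iff _).2
    ((SchDenseFacts.iff_ker_eq_bot O).1 (SchDenseSp.dense_pre Y.property hj2 hb))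
  haveI : LocallyOfFinitePresentation (g.left ∣_ O) := chart_restrict_of_base_change hj2.1 P fst snd hP hV ha hb w
  exact Groth.Agent.S0451.result g.left O

end Groth.Agent.Dsp6
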