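import Groth.Agent.AlgSpLib.LocP
import Groth.Agent.AlgSpLib.Covers
import Groth.Agent.AlgSpPts.Sep
import Groth.Agent.AlgSpDec.LimOpen
import Mathlib.AlgebraicGeometry.Morphisms.Affine

/-!
# Devissage from algebraic spaces to affine schemes along fppf coverings
-/

set_option autoImplicit false
set_option backward.isDefEq.respectTransparency false
set_option backward.isDefEq.respectTransparency.types false

universe u

open CategoryTheory CategoryTheory.Limits AlgebraicGeometry AlgSp Groth.Agent.AlgSpLib Groth.Agent.AlgSpPts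
open Groth.Agent.AlgSpDec

namespace Groth.Agent.Dsp6

variable {S : Scheme.{u}}

/-- A wide pullback as a pullback of the first factor and the others. -/
theorem exists_iso_cons {U : Sp S} {n : ℕ} (Y : Fin (n + 1 + 1) → Sp S) (g : ∀ k, Y k ⟶ U) {Q : Sp S}
    (q : Q ⟶ Y 0) (r : Q ⟶ widePullback U (fun k : Fin (n + 1) => Y k.succ) (fun k => g k.succ))
    (sq : IsPullback q r (g 0) (WidePullback.base (fun k : Fin (n + 1) => g k.succ))) :
    ∃ e : widePullback U Y g ≅ Q, e.hom ≫ q ≫ g 0 = WidePullback.base g := by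
  let tail : widePullback U Y g ⟶ widePullback U (fun k : Fin (n + 1) => Y k.succ) (fun k => g k.succ) :=
    WidePullback.lift (WidePullback.base g) (fun k => WidePullback.π g k.succ) (fun k => WidePullback.π_arrow g k.succ)
  let hom : widePullback U Y g ⟶ Q := sq.lift (WidePullback.π g 0) tail
    (by rw [WidePullback.π_arrow, WidePullback.lift_base])
  let legs : ∀ k, Q ⟶ Y k := Fin.cases q (fun k => r ≫ WidePullback.π (fun k => g k.succ) k)
  let inv : Q ⟶ widePullback U Y g := WidePullback.lift (q ≫ g 0) legs (fun k => by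
    induction k using Fin.cases with
    | zero => simp [legs]
    | succ k => simp [legs, sq.w])
  refine ⟨⟨hom, inv, ?_, ?_⟩, ?_⟩
  · refine WidePullback.hom_ext _ _ _ (fun k => ?_) ?_
    · rw [Category.assoc, WidePullback.lift_π, Category.id_comp]
      induction k using Fin.cases with
      | zero => simp [legs, hom]
      | succ k =>
        show hom ≫ r ≫ _ = _
        rw [← Category.assoc, show hom ≫ r = tail from sq.lift_snd _ _ _, WidePullback.lift_π]
    · rw [Category.assoc, WidePullback.lift_base, Category.id_comp, ← Category.assoc,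
        show hom ≫ q = WidePullback.π g 0 from sq.lift_fst _ _ _, WidePullback.π_arrow]
  · refine sq.hom_ext ?_ ?_
    · rw [Category.assoc, show hom ≫ q = WidePullback.π g 0 from sq.lift_fst _ _ _, WidePullback.lift_π,
        Category.id_comp]
      rfl
    · rw [Category.assoc, show hom ≫ r = tail from sq.lift_snd _ _ _, Category.id_comp]
      refine WidePullback.hom_ext _ _ _ (fun k => ?_) ?_
      · rw [Category.assoc, WidePullback.lift_π, WidePullback.lift_π]
        rfl
      · rw [Category.assoc, WidePullback.lift_base, WidePullback.lift_base, sq.w]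
  · show hom ≫ q ≫ g 0 = _
    rw [← Category.assoc, show hom ≫ q = WidePullback.π g 0 from sq.lift_fst _ _ _, WidePullback.π_arrow]

/-- A wide pullback with one factor is the factor. -/
theorem exists_iso_single {U : Sp S} (Y : Fin 1 → Sp S) (g : ∀ k, Y k ⟶ U) :
    ∃ e : widePullback U Y g ≅ Y 0, e.hom ≫ g 0 = WidePullback.base g := by
  refine ⟨⟨WidePullback.π g 0, WidePullback.lift (g 0) (Fin.cases (𝟙 _) (fun i => i.elim0))
    (fun k => ?_), ?_, ?_⟩, WidePullback.π_arrow g 0⟩
  · induction k using Fin.cases with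
    | zero => simp
    | succ i => exact i.elim0
  · refine WidePullback.hom_ext _ _ _ (fun k => ?_) ?_
    · rw [Category.assoc, WidePullback.lift_π, Category.id_comp]
      induction k using Fin.cases with
      | zero => simp
      | succ i => exact i.elim0
    · rw [Category.assoc, WidePullback.lift_base, Category.id_comp, WidePullback.π_arrow]
  · rw [WidePullback.lift_π]
    rfl

variable {T : Over S}

/-- An open subscheme over the base. -/
abbrev openObj (W : T.left.Opens) : Over S := Over.mk (W.ι ≫ T.hom)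

/-- The inclusion of an open subscheme over the base. -/
abbrev openι (W : T.left.Opens) : openObj W ⟶ T := Over.homMk W.ι rfl

/-- Intersections of open subschemes in the category of sheaves. -/
theorem exists_isPullback_openι {U : Sp S} (φ : (yon S).obj T ⟶ U) [Mono φ] (V W : T.left.Opens) :
    ∃ (q : openObj (V ⊓ W) ⟶ openObj V) (r : openObj (V ⊓ W) ⟶ openObj W),
      q ≫ openι V = openι (V ⊓ W) ∧
      IsPullback ((yon S).map q) ((yon S).map r) ((yon S).map (openι V) ≫ φ) ((yon S).map (openι W) ≫ φ) := by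
  let q : openObj (V ⊓ W) ⟶ openObj V := Over.homMk (T.left.homOfLE inf_le_left) (by simp)
  let r : openObj (V ⊓ W) ⟶ openObj W := Over.homMk (T.left.homOfLE inf_le_right) (by simp)
  have hq : q ≫ openι V = openι (V ⊓ W) := Over.OverMorphism.ext (Scheme.homOfLE_ι T.left (inf_le_left : V ⊓ W ≤ V))
  refine ⟨q, r, hq, ?_⟩
  have sqS : IsPullback q r (openι V) (openι W) :=
    IsPullback.of_map (Over.forget S) (Over.OverMorphism.ext ((Scheme.homOfLE_ι T.left (inf_le_left : V ⊓ W ≤ V)).trans
      (Scheme.homOfLE_ι T.left (inf_le_right : V ⊓ W ≤ W)).symm))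
      (isPullback_opens_inf V W)
  have sq := sqS.map (yon S)
  refine ⟨⟨by rw [← Category.assoc, ← Category.assoc, sq.w]⟩,
    ⟨PullbackCone.IsLimit.mk _ (fun s => sq.lift s.fst s.snd ((cancel_mono φ).1 (by
      rw [Category.assoc, Category.assoc]; exact s.condition)))
      (fun s => sq.lift_fst _ _ _) (fun s => sq.lift_snd _ _ _)
      (fun s m h₁ h₂ => sq.hom_ext (h₁.trans (sq.lift_fst _ _ _).symm) (h₂.trans (sq.lift_snd _ _ _).symm))⟩⟩

theorem exists_iso_openInter {U : Sp S} (φ : (yon S).obj T ⟶ U) [Mono φ] (n : ℕ) :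
    ∀ O : Fin (n + 1) → T.left.Opens, ∃ (W : T.left.Opens)
      (e : widePullback U (fun k => (yon S).obj (openObj (O k))) (fun k => (yon S).map (openι (O k)) ≫ φ) ≅
        (yon S).obj (openObj W)),
      W ≤ O 0 ∧ (T.left.IsSeparated → (∀ k, IsAffineOpen (O k)) → IsAffineOpen W) ∧
      e.hom ≫ (yon S).map (openι W) ≫ φ = WidePullback.base (fun k => (yon S).map (openι (O k)) ≫ φ) := by
  induction n with
  | zero =>
    intro O
    obtain ⟨e, he⟩ := exists_iso_single (fun k => (yon S).obj (openObj (O k)))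
      (fun k => (yon S).map (openι (O k)) ≫ φ)
    exact ⟨O 0, e, le_rfl, fun _ h => h 0, he⟩
  | succ n ih =>
    intro O
    obtain ⟨W, e, -, hW, he⟩ := ih (fun k => O k.succ)
    obtain ⟨q, r, hq, sq⟩ := exists_isPullback_openι φ (O 0) W
    have sq' : IsPullback ((yon S).map q) ((yon S).map r ≫ e.inv) ((yon S).map (openι (O 0)) ≫ φ)
        (WidePullback.base (fun k : Fin (n + 1) => (yon S).map (openι (O k.succ)) ≫ φ)) := by
      refine sq.of_iso (Iso.refl _) (Iso.refl _) e.symm (Iso.refl _) (by simp) (by simp) (by simp) ?_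
      rw [← he]
      simp
    obtain ⟨e', he'⟩ := exists_iso_cons (fun k => (yon S).obj (openObj (O k)))
      (fun k => (yon S).map (openι (O k)) ≫ φ) _ _ sq'
    refine ⟨O 0 ⊓ W, e', inf_le_left, fun hT h => ?_, ?_⟩
    · haveI := hT
      exact (h 0).inf (hW hT fun k => h k.succ)
    · rw [← he', ← hq, Functor.map_comp, Category.assoc]

variable {X : Space S} (P : ∀ ⦃U : Sp S⦄, (U ⟶ X.obj) → Prop)
  (hP : ∀ ⦃U : Sp S⦄ (a : U ⟶ X.obj), IsAlgSpace U →
    ∀ ⦃ι : Type u⦄ (Ui : ι → Sp S) (g : ∀ i, Ui i ⟶ U), (∀ i, IsAlgSpace (Ui i)) → IsFppfCover Ui g →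
    (∀ (n : ℕ) (c : Fin (n + 1) → ι), P (WidePullback.base (fun k : Fin (n + 1) => g (c k)) ≫ a)) → P a)

/-- The morphism is flat and locally of finite presentation. -/
abbrev IsFlfp {U G : Sp S} (a : U ⟶ G) : Prop := LocP @Flat a ∧ LocP @LocallyOfFinitePresentation a

theorem isFlfp_of_etale {U G : Sp S} {a : U ⟶ G} (h : RepWith @Etale a) : IsFlfp a :=
  ⟨locP_mono (P := @Etale) (fun _ _ g (_ : Etale g) => (inferInstance : Flat g)) (locP_of_repWith h),
    locP_mono (P := @Etale) (fun _ _ g (_ : Etale g) => (inferInstance : LocallyOfFinitePresentation g))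
      (locP_of_repWith h)⟩

theorem IsFlfp.comp {A B C : Sp S} {f : A ⟶ B} {g : B ⟶ C} (hA : IsAlgSpace A) (hB : IsAlgSpace B)
    (hC : IsAlgSpace C) (hf : IsFlfp f) (hg : IsFlfp g) : IsFlfp (f ≫ g) :=
  ⟨locP_comp hA hB hC hf.1 hg.1, locP_comp hA hB hC hf.2 hg.2⟩

include hP in
/-- The step from a class of schemes to the schemes covered by opens of that class. -/
theorem devissage_step (C C' : Scheme.{u} → Prop) (B : ∀ T : Over S, T.left.Opens → Prop)
    (hB : ∀ T : Over S, C' T.left → ∀ (x : ↥T.left), ∃ O : T.left.Opens, x ∈ O ∧ B T O)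
    (hC : ∀ T : Over S, C' T.left → ∀ (n : ℕ) (O : Fin (n + 1) → T.left.Opens), (∀ k, B T (O k)) →
      ∀ W : T.left.Opens, W ≤ O 0 → (T.left.IsSeparated → (∀ k, IsAffineOpen (O k)) → IsAffineOpen W) → C W)
    (h : ∀ ⦃U : Sp S⦄ (a : U ⟶ X.obj) (T : Over S) (_ : U ≅ (yon S).obj T), C T.left → IsFlfp a → P a)
    ⦃U : Sp S⦄ (a : U ⟶ X.obj) (T : Over S) (e : U ≅ (yon S).obj T) (hT : C' T.left) (ha : IsFlfp a) : P a := by
  have hU : IsAlgSpace U := (IsAlgSpace.yon_obj T).of_iso e.symm
  let ι := {O : T.left.Opens // B T O}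
  have het : ∀ W : T.left.Opens, RepWith @Etale ((yon S).map (openι W) ≫ e.inv) := fun W =>
    repWith_comp ((repWith_yon_map_iff _ _).2 (inferInstanceAs (Etale W.ι))) (repWith_of_isIso _ e.inv)
  refine hP a hU (ι := ι) (fun O => (yon S).obj (openObj O.1)) (fun O => (yon S).map (openι O.1) ≫ e.inv)
    (fun O => IsAlgSpace.yon_obj _) ⟨fun O => isFlfp_of_etale (het O.1), fun x => ?_⟩ fun n c => ?_
  · obtain ⟨t, ht⟩ := (Points.schemeHomeo T).surjective (Points.map e.hom x)
    obtain ⟨O, htO, hO⟩ := hB T hT t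
    refine ⟨⟨O, hO⟩, Points.ofScheme (openObj O) ⟨t, htO⟩, ?_⟩
    rw [Points.map_comp]
    erw [Points.map_yon_map_apply]
    show Points.map e.inv (Points.schemeHomeo T t) = x
    rw [ht, ← Points.map_comp, e.hom_inv_id, Points.map_id]
  · obtain ⟨W, e', hW0, hWa, he'⟩ := exists_iso_openInter e.inv n (fun k => (c k).1)
    refine h _ (openObj W) e' (hC T hT n _ (fun k => (c k).2) W hW0 hWa) ?_
    rw [← he']
    have hQ := (IsAlgSpace.yon_obj (openObj W)).of_iso e'.symm
    refine IsFlfp.comp hQ hU X.property ?_ ha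
    exact IsFlfp.comp hQ (IsAlgSpace.yon_obj _) hU (isFlfp_of_etale (repWith_of_isIso _ e'.hom))
      (isFlfp_of_etale (het W))

include hP in
theorem devissage (haff : ∀ ⦃U : Sp S⦄ (a : U ⟶ X.obj) (T : Over S) (_ : U ≅ (yon S).obj T), IsAffine T.left →
    LocP @Flat a → LocP @LocallyOfFinitePresentation a → P a) : P (𝟙 X.obj) := by
  have haffine : ∀ (T : Over S) (x : ↥T.left), ∃ O : T.left.Opens, x ∈ O ∧ IsAffineOpen O := fun T x => by
    obtain ⟨O, hO, hx, -⟩ := exists_isAffineOpen_mem_and_subset (U := (⊤ : T.left.Opens)) (x := x) trivial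
    exact ⟨O, hx, hO⟩
  have h₁ := devissage_step P hP (fun T => IsAffine T) (fun T => T.IsSeparated) (fun _ O => IsAffineOpen O)
    (fun T _ => haffine T) (fun T hT n O hO W _ hW => hW hT hO) (fun U a T e hT ha => haff a T e hT ha.1 ha.2)
  have h₂ := devissage_step P hP (fun T => T.IsSeparated) (fun _ => True) (fun _ O => IsAffineOpen O)
    (fun T _ => haffine T) (fun T _ n O hO W hW _ => by
      haveI : IsAffine ↑(O 0) := hO 0
      haveI : IsSeparated (T.left.homOfLE hW) := inferInstance
      refine ⟨?_⟩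
      rw [show terminal.from (W : Scheme.{u}) = T.left.homOfLE hW ≫ terminal.from _ from Subsingleton.elim _ _]
      infer_instance) h₁
  obtain ⟨V, p, hp, hps⟩ := X.property.atlas
  refine hP (𝟙 _) X.property (ι := PUnit.{u + 1}) (fun _ => (yon S).obj V) (fun _ => p)
    (fun _ => IsAlgSpace.yon_obj V) (isFppfCover_of_repWith_etale hp hps) fun n c => ?_
  rw [Category.comp_id]
  suffices h : ∀ n : ℕ, ∃ (T : Over S)
      (e : widePullback X.obj (fun _ : Fin (n + 1) => (yon S).obj V) (fun _ => p) ≅ (yon S).obj T),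
      RepWith @Etale (e.inv ≫ WidePullback.base (fun _ : Fin (n + 1) => p)) by
    obtain ⟨T, e, he⟩ := h n
    refine h₂ _ T e trivial ?_
    rw [← e.hom_inv_id_assoc (WidePullback.base (fun _ : Fin (n + 1) => p))]
    exact IsFlfp.comp ((IsAlgSpace.yon_obj T).of_iso e.symm) (IsAlgSpace.yon_obj T) X.property
      (isFlfp_of_etale (repWith_of_isIso _ e.hom)) (isFlfp_of_etale he)
  intro n
  induction n with
  | zero =>
    obtain ⟨e, he⟩ := exists_iso_single (fun _ : Fin 1 => (yon S).obj V) (fun _ => p)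
    exact ⟨V, e, by rw [← he, e.inv_hom_id_assoc]; exact hp⟩
  | succ n ih =>
    obtain ⟨T, e, he⟩ := ih
    let b := e.inv ≫ WidePullback.base (fun _ : Fin (n + 1) => p)
    have sq := hp.rep.isPullback' b
    have sq' : IsPullback ((yon S).map (hp.rep.fst' b)) ((yon S).map (hp.rep.snd b) ≫ e.inv) p
        (WidePullback.base (fun _ : Fin (n + 1) => p)) := by
      refine sq.of_iso (Iso.refl _) (Iso.refl _) e.symm (Iso.refl _) (by simp) (by simp) (by simp) ?_
      simp [b]
    obtain ⟨e', he'⟩ := exists_iso_cons (fun _ : Fin (n + 1 + 1) => (yon S).obj V) (fun _ => p) _ _ sq'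
    refine ⟨_, e', ?_⟩
    rw [← he', e'.inv_hom_id_assoc]
    exact repWith_comp (repWith_of_isPullback sq.flip he) hp

end Groth.Agent.Dsp6
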