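import Groth.Agent.Dsp6.QuasiFinite
import Groth.Agent.AlgSpDec.EtCompact
import Groth.Agent.AlgSpDec.AffineRep
import Groth.Agent.AlgSpPts.Univ
import Groth.Agent.DimFormula.QuasiSection
import Groth.Agent.DimFormula.Fibre

/-!
# Dimension of algebraic spaces under integral morphisms and over fields
-/

set_option autoImplicit false
set_option backward.isDefEq.respectTransparency false
set_option backward.isDefEq.respectTransparency.types false

universe u

open CategoryTheory CategoryTheory.Limits AlgebraicGeometry AlgSp Order Groth.Agent.AlgSpLib Groth.Agent.AlgSpPts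
open Groth.Agent.AlgSpDec

namespace Groth.Agent.Dsp6

theorem enat_eq_zero {a : ℕ∞} (h : (a : WithBot ℕ∞) ≤ 0) : a = 0 :=
  nonpos_iff_eq_zero.1 (WithBot.coe_le_coe.1 h)

attribute [local instance] specializationOrder

theorem strictMono_of_integral {X Y : Scheme.{u}} (f : X ⟶ Y) [IsIntegralHom f] :
    StrictMono (f : ↥X → ↥Y) := fun a b hab => by
  have hs : b ⤳ a := hab.le
  exact lt_of_le_of_ne (hs.map f.continuous : f b ⤳ f a) fun he => hab.ne
    (eq_of_specializes_of_isIntegralHom f hs he.symm).symm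

theorem krullDim_le_of_closed_surjective {X Y : Scheme.{u}} (f : X ⟶ Y) (hc : IsClosedMap f)
    (hs : Function.Surjective f) : krullDim ↥Y ≤ krullDim ↥X := by
  refine iSup_le fun p => ?_
  suffices h : ∀ w, f w = p.last → ∃ q : LTSeries ↥X, q.length = p.length ∧ f q.head = p.head by
    obtain ⟨w, hw⟩ := hs p.last
    obtain ⟨q, hq, -⟩ := h w hw
    rw [← hq]
    exact LTSeries.length_le_krullDim q
  induction p using RelSeries.inductionOn with
  | singleton y => exact fun w hw => ⟨RelSeries.singleton _ w, rfl, hw⟩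
  | cons p y hy ih =>
    intro w hw
    rw [RelSeries.last_cons] at hw
    obtain ⟨q, hql, hqh⟩ := ih w hw
    have hlt : y < p.head := hy
    obtain ⟨w', hw', he⟩ := hc.specializingMap (show f q.head ⤳ y by rw [hqh]; exact hlt.le)
    have hlt' : w' < q.head := lt_of_le_of_ne hw' fun e => hlt.ne (by rw [← he, e, hqh])
    exact ⟨q.cons w' hlt', by simp [hql], by simpa using he⟩

/-- For a scheme locally of finite type over a field, fibre dimension zero everywhere means dimension zero. -/
theorem fibreDimAt_zero_iff_coheight {X : Scheme.{u}} {k : Type u} [Field k]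
    (f : X ⟶ Spec (CommRingCat.of k)) [LocallyOfFiniteType f] :
    (∀ x, FlatMor.fibreDimAt f x = 0) ↔ ∀ x : X, coheight x = 0 := by
  haveI := LocallyOfFiniteType.isLocallyNoetherian f
  haveI : Subsingleton ↥(Spec (CommRingCat.of k)) := inferInstanceAs (Subsingleton (PrimeSpectrum k))
  constructor
  · intro h x
    rw [← DimFormula.coe_codim]
    suffices hh : DimFormula.codim x = 0 by rw [hh]; rfl
    refine DimFormula.codim_eq_zero_iff.2 fun z hz => ?_
    have h1 := DimFormula.cd_add_rd_of_fibre f hz (Subsingleton.elim _ _)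
    rw [rd_eq_zero_of_fibreDimAt f x (h x), rd_eq_zero_of_fibreDimAt f z (h z)] at h1
    exact (DimFormula.cd_eq_zero_iff hz).1 h1
  · intro h x
    refine (FieldFibre.fibreDimAt_eq_zero_iff_rd f x).2 fun z _ _ => ?_
    refine DimFormula.rd_eq_zero_of_closed f fun x' _ hs => ?_
    exact (eq_of_specializes_of_coheight (h x') hs).symm

variable {S : Scheme.{u}} {F G : Sp S} {f : F ⟶ G}

theorem dim_le_of_isIntegralMor (hG : IsAlgSpace G) (hf : IsIntegralMor f) : AlgSp.dim F ≤ AlgSp.dim G := by
  obtain ⟨V, b, hb, hbs⟩ := hG.atlas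
  have hr := isIntegralMor_iff_repWith.1 hf
  have sq := hr.rep.isPullback b
  haveI : IsIntegralHom (hr.rep.snd b).left := hr.property_snd b
  refine dim_le_iff.2 fun U a ha u => ?_
  obtain ⟨v, hv⟩ := surjective_ofPt hbs (Points.map f (Points.ofPt a u))
  obtain ⟨w, hw, -⟩ := exists_lift sq hv.symm
  rw [coheight_congr ha (repWith_of_isPullback sq.flip hb) hw.symm]
  exact le_trans (WithBot.coe_le_coe.2
    (coheight_le_coheight_apply_of_strictMono _ (strictMono_of_integral (hr.rep.snd b).left) w))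
    (coheight_le_dim hb _)

theorem dim_ge_of_isIntegralMor_surjective (hG : IsAlgSpace G) (hf : IsIntegralMor f)
    (hs : IsSurjectiveMor f) : AlgSp.dim G ≤ AlgSp.dim F := by
  obtain ⟨V, b, hb, hbs⟩ := hG.atlas
  have hr := isIntegralMor_iff_repWith.1 hf
  have sq := hr.rep.isPullback b
  haveI : IsIntegralHom (hr.rep.snd b).left := hr.property_snd b
  refine dim_le_iff.2 fun U a ha u => ?_
  obtain ⟨v, hv⟩ := surjective_ofPt hbs (Points.ofPt a u)
  rw [coheight_congr ha hb hv.symm]
  refine le_trans (coheight_le_krullDim v) (le_trans (krullDim_le_of_closed_surjective (hr.rep.snd b).left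
    (hr.rep.snd b).left.isClosedMap fun t => ?_) ?_)
  · obtain ⟨x, hx⟩ := hs (Points.ofPt b t)
    obtain ⟨w, -, hw⟩ := exists_lift sq hx
    exact ⟨w, hw⟩
  · rw [← topologicalKrullDim_eq_krullDim]
    exact le_iSup₂_of_le _ (hr.rep.fst b) (le_iSup_of_le (repWith_of_isPullback sq.flip hb) le_rfl)

theorem lqf_iff_dim_le_zero {k : Type u} [Field k] {X : Sp (Spec (CommRingCat.of k))} (hX : IsAlgSpace X)
    (p : X ⟶ (yon (Spec (CommRingCat.of k))).obj (Over.mk (𝟙 _))) :
    LocP (@LocallyQuasiFinite ⊓ @LocallyOfFiniteType : MorphismProperty Scheme.{u}) p ↔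
      LocP @LocallyOfFiniteType p ∧ AlgSp.dim X ≤ 0 := by
  constructor
  · intro h
    have hl : LocP @LocallyOfFiniteType p := locP_mono (fun _ _ _ hh => hh.2) h
    refine ⟨hl, dim_le_iff.2 fun U a ha u => ?_⟩
    obtain ⟨g, hg⟩ := (yon _).map_surjective (a ≫ p)
    obtain ⟨h1, h2⟩ := h a (𝟙 _) g ha (repWith_id _ _) (by rw [Category.comp_id]; exact hg.symm)
    have : LocallyQuasiFinite g.left := h1
    have : LocallyOfFiniteType g.left := h2
    rw [(fibreDimAt_zero_iff_coheight (k := k) g.left).1 (fun x => fibreDimAt_eq_zero_of_lqf g.left x) u]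
    rfl
  · rintro ⟨hl, hd⟩
    rw [RelDimSp.lqf_iff hX (IsAlgSpace.yon_obj _) hl]
    intro x
    obtain ⟨U, a, ha, has⟩ := hX.atlas
    obtain ⟨u, rfl⟩ := surjective_ofPt has x
    obtain ⟨g, hg⟩ := (yon _).map_surjective (a ≫ p)
    have w : a ≫ p = (yon _).map g ≫ 𝟙 _ := by rw [Category.comp_id]; exact hg.symm
    haveI : LocallyOfFiniteType g.left := hl a (𝟙 _) g ha (repWith_id _ _) w
    refine ⟨U, _, a, 𝟙 _, g, u, ha, repWith_id _ _, w, rfl, (fibreDimAt_zero_iff_coheight (k := k) g.left).2 ?_ u⟩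
    intro z
    exact enat_eq_zero ((coheight_le_dim ha z).trans hd)

end Groth.Agent.Dsp6
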