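import Groth.Agent.Dsp6.FiniteNhd
import Groth.Agent.AlgSpDec.EtField
import Groth.Agent.AlgSpPts.UnivClosed

/-!
# Morphisms with discrete fibres
-/

set_option autoImplicit false
set_option backward.isDefEq.respectTransparency false
set_option backward.isDefEq.respectTransparency.types false

universe u

open CategoryTheory CategoryTheory.Limits AlgebraicGeometry AlgSp Groth.Agent.AlgSpLib Groth.Agent.AlgSpPts
open Groth.Agent.AlgSpDec

namespace Groth.Agent.Dsp6

variable {S : Scheme.{u}} {F G : Sp S} {f : F ⟶ G}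

/-- The homeomorphism on points of an isomorphism of sheaves. -/
noncomputable def pointsHomeo (e : F ≅ G) : Points F ≃ₜ Points G where
  toFun := Points.map e.hom
  invFun := Points.map e.inv
  left_inv x := by rw [← Points.map_comp, e.hom_inv_id, Points.map_id]
  right_inv x := by rw [← Points.map_comp, e.inv_hom_id, Points.map_id]
  continuous_toFun := Points.continuous_map _
  continuous_invFun := Points.continuous_map _

theorem discreteTopology_of_lqf_field {W : Scheme.{u}} {K : Type u} [Field K]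
    (i : W ⟶ Spec (CommRingCat.of K)) [LocallyQuasiFinite i] : DiscreteTopology ↥W := by
  haveI : Subsingleton ↥(Spec (CommRingCat.of K)) := inferInstanceAs (Subsingleton (PrimeSpectrum K))
  refine discreteTopology_iff_isOpen_singleton.2 fun w => ?_
  have h := isDiscrete_iff_discreteTopology.1 (i.isDiscrete_preimage_singleton (i w))
  obtain ⟨O, hO, hOw⟩ := isOpen_induced_iff.1 (isOpen_discrete ({⟨w, rfl⟩} : Set ↥(i ⁻¹' {i w})))
  convert hO
  ext z
  refine ⟨?_, fun hz => ?_⟩
  · rintro rfl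
    exact (Set.ext_iff.1 hOw ⟨_, rfl⟩).2 rfl
  · exact congrArg Subtype.val ((Set.ext_iff.1 hOw ⟨z, Subsingleton.elim _ _⟩).1 hz)

theorem discreteTopology_fibre_of_finite (hf : IsFiniteMor f) (k : FieldPt G) {Xk : Sp S} (fst : Xk ⟶ F)
    (snd : Xk ⟶ (yon S).obj k.pt) (sq : IsPullback fst snd f k.toHom) : DiscreteTopology (Points Xk) := by
  obtain ⟨W, i, fst', sq', -, hi⟩ := hf (Z := k.pt) (inferInstanceAs (IsAffine (Spec _))) k.toHom
  have : IsFinite i.left := hi
  haveI : DiscreteTopology ↥W.left := discreteTopology_of_lqf_field (K := k.K) i.left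
  exact ((pointsHomeo (sq.isoIsPullback _ _ sq')).trans (Points.schemeHomeo W).symm).isEmbedding.discreteTopology

theorem lqf_of_discrete_fibres (hF : IsAlgSpace F) (hG : IsAlgSpace G) (hf : LocP @LocallyOfFiniteType f)
    (h : ∀ (k : FieldPt G) (Xk : Sp S) (fst : Xk ⟶ F) (snd : Xk ⟶ (yon S).obj k.pt),
          IsPullback fst snd f k.toHom → DiscreteTopology (Points Xk)) :
    LocP (@LocallyQuasiFinite ⊓ @LocallyOfFiniteType) f := by
  rw [lqf_iff_qfAt hF hG hf]
  intro x
  obtain ⟨k, hk⟩ := Points.mk_surjective (Points.map f x)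
  have sq := IsPullback.of_hasPullback f k.toHom
  haveI := h k _ _ _ sq
  obtain ⟨z, hz, -⟩ := exists_point_of_isPullback sq (x := x)
    (y := Points.ofScheme k.pt (IsLocalRing.closedPoint k.K))
    (by rw [Points.map_ofPt, Category.id_comp, Points.ofPt_toHom, hk])
  obtain ⟨U, a, ha, has⟩ := (isAlgSpace_of_isPullback sq hF (IsAlgSpace.yon_obj _) hG).atlas
  obtain ⟨g, hg⟩ := (yon S).map_surjective (a ≫ pullback.snd f k.toHom)
  obtain ⟨u, hu⟩ := surjective_ofPt has z
  have hl := locP_of_isPullback sq hF hG (IsAlgSpace.yon_obj _) hf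
  haveI : LocallyOfFiniteType g.left :=
    hl a (𝟙 _) g ha (repWith_id _ _) (by rw [Category.comp_id]; exact hg.symm)
  rw [qfAt_iff hf, ← hz]
  exact FieldFibre.hasAtMor_zero_of_fibre sq hF hG hf z a ha g hg.symm u hu
    (FieldFibre.fibreDimAt_zero_of_discrete ha hg.symm u)

theorem isFiniteMor_tfae {X Y : Space S} (f : X ⟶ Y) :
    [IsFiniteMor f.hom,
      IsProperMor f.hom ∧ LocP (@LocallyQuasiFinite ⊓ @LocallyOfFiniteType) f.hom,
      IsProperMor f.hom ∧
        ∀ (k : FieldPt Y.obj) (Xk : Sp S) (fst : Xk ⟶ X.obj) (snd : Xk ⟶ (yon S).obj k.pt),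
          IsPullback fst snd f.hom k.toHom → DiscreteTopology (Points Xk),
      IsUnivClosedMor f.hom ∧ IsSeparatedMor f.hom ∧ LocP @LocallyOfFiniteType f.hom ∧
        ∀ (k : FieldPt Y.obj) (Xk : Sp S) (fst : Xk ⟶ X.obj) (snd : Xk ⟶ (yon S).obj k.pt),
          IsPullback fst snd f.hom k.toHom → DiscreteTopology (Points Xk)].TFAE := by
  tfae_have 1 → 3 := fun h => ⟨((isFiniteMor_iff_affine_proper Y.property).1 h).2,
    fun k Xk fst snd sq => discreteTopology_fibre_of_finite h k fst snd sq⟩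
  tfae_have 3 → 4 := fun h => ⟨h.1.2.2, h.1.1, h.1.2.1.1, h.2⟩
  tfae_have 4 → 2 := fun ⟨hu, hs, hl, hd⟩ => ⟨⟨hs, ⟨hl, isQuasiCompactMor_of_univClosed X.property Y.property hu⟩, hu⟩,
    lqf_of_discrete_fibres X.property Y.property hl hd⟩
  tfae_have 2 → 1 := fun h => isFiniteMor_of_proper_lqf X.property Y.property h.1 h.2
  tfae_finish

end Groth.Agent.Dsp6
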