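import Groth.Agent.CycLib.LFT
import Groth.Agent.AlgSpDec.Fibres
import Groth.Agent.Dsp6.DiscreteFibre

/-!
# Dimension functions on decent algebraic spaces
-/

set_option autoImplicit false
set_option backward.isDefEq.respectTransparency false
set_option backward.isDefEq.respectTransparency.types false

universe u

open CategoryTheory CategoryTheory.Limits AlgebraicGeometry AlgSp Groth.Agent.AlgSpLib Groth.Agent.AlgSpPts
open Groth.Agent.AlgSpDec

namespace Groth.Agent.Dsp6

variable {S : Scheme.{u}}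

/-- A function on a decent space which is a dimension function on a surjective chart is one. -/
theorem dimFun_of_chart {X : Space S} (hX : IsDecent X.obj) {U : Over S} (a : (yon S).obj U ⟶ X.obj)
    (ha : RepWith @Etale a) (hs : RepWith @Surjective a) (δX : Points X.obj → ℤ)
    (hU : Cyc.IsDimFun U.left (δX ∘ Points.ofPt a)) :
    ∀ x y : Points X.obj, x ⤳ y → x ≠ y →
      δX y < δX x ∧ ((∀ z : Points X.obj, x ⤳ z → z ⤳ y → z = x ∨ z = y) → δX x = δX y + 1) := by
  intro x y h hne
  obtain ⟨v, rfl⟩ := surjective_ofPt hs y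
  obtain ⟨u, huv, rfl⟩ := exists_specializes_lift_of_isDecent hX ha h
  obtain ⟨h1, h2⟩ := hU u v huv fun e => hne (congrArg _ e)
  refine ⟨h1, fun H => h2 fun z hz hz' => ?_⟩
  rcases H _ (hz.map (Points.continuous_ofPt a)) (hz'.map (Points.continuous_ofPt a)) with e | e
  · exact Or.inl (eq_of_specializes_of_isDecent hX ha e hz)
  · exact Or.inr (eq_of_specializes_of_isDecent hX ha e.symm hz').symm

/-- There are no specializations in the fibres of a finite morphism of decent spaces. -/
theorem eq_of_specializes_of_finite {X Y : Space S} (f : Y ⟶ X) (hf : IsFiniteMor f.hom) (hX : IsDecent X.obj)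
    (hY : IsDecent Y.obj) {c d : Points Y.obj} (h : c ⤳ d) (he : Points.map f.hom c = Points.map f.hom d) :
    c = d := by
  obtain ⟨V, b, v, hV, hb, hv⟩ := exists_affine_chart_at X.property (Points.map f.hom d)
  obtain ⟨W, g, fst, sq, -, hg⟩ := hf hV b
  have hfst : RepWith @Etale fst := repWith_of_isPullback sq.flip hb
  obtain ⟨q, hq, hq'⟩ := exists_point_of_isPullback sq (x := d) (y := Points.ofScheme V v)
    (by rw [← Points.ofPt_eq_map_ofScheme, hv])
  obtain ⟨w, rfl⟩ := (Points.schemeHomeo W).surjective q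
  have hwd : Points.ofPt fst w = d := (Points.ofPt_eq_map_ofScheme _ _).trans hq
  obtain ⟨w', hw', hwc⟩ := exists_specializes_lift_of_isDecent hY hfst (u := w) (x' := c) (hwd ▸ h)
  have hm : ∀ p : ↥W.left, Points.ofPt b (g.left p) = Points.map f.hom (Points.ofPt fst p) := fun p => by
    rw [Points.map_ofPt, sq.w, ofPt_comp]
  have hgg : g.left w = g.left w' :=
    eq_of_specializes_of_isDecent hX hb (by rw [hm, hm, hwd, hwc, he]) (hw'.map g.left.continuous)
  haveI : IsFinite g.left := hg
  haveI := isDiscrete_iff_discreteTopology.1 (g.left.isDiscrete_preimage_singleton (g.left w))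
  have : (⟨w', hgg.symm⟩ : ↥(g.left ⁻¹' {g.left w})) = ⟨w, rfl⟩ :=
    ((subtype_specializes_iff _ _).2 hw').eq
  rw [← hwd, ← hwc]
  exact congrArg (fun p => Points.ofPt fst p.1) this

theorem dimFun_of_finite_surjective {X Y : Space S} (f : Y ⟶ X) (hf : IsFiniteMor f.hom)
    (hs : Function.Surjective (Points.map f.hom)) (hX : IsDecent X.obj) (hY : IsDecent Y.obj)
    (δ : Points X.obj → ℤ)
    (hδ : ∀ a b : Points Y.obj, a ⤳ b → a ≠ b → (δ ∘ Points.map f.hom) b < (δ ∘ Points.map f.hom) a ∧
      ((∀ c : Points Y.obj, a ⤳ c → c ⤳ b → c = a ∨ c = b) →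
        (δ ∘ Points.map f.hom) a = (δ ∘ Points.map f.hom) b + 1)) :
    ∀ a b : Points X.obj, a ⤳ b → a ≠ b →
      δ b < δ a ∧ ((∀ c : Points X.obj, a ⤳ c → c ⤳ b → c = a ∨ c = b) → δ a = δ b + 1) := by
  intro a b hab hne
  obtain ⟨a', rfl⟩ := hs a
  have hc : IsClosedMap (Points.map f.hom) :=
    ((isFiniteMor_iff_affine_proper X.property).1 hf).2.2.2 X.property (𝟙 _) (𝟙 _) f.hom
      (IsPullback.of_horiz_isIso ⟨by simp⟩)
  obtain ⟨b', hab', rfl⟩ := hc.specializingMap hab
  obtain ⟨h1, h2⟩ := hδ a' b' hab' fun e => hne (congrArg _ e)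
  refine ⟨h1, fun H => h2 fun c hc₁ hc₂ => ?_⟩
  rcases H _ (hc₁.map (Points.continuous_map _)) (hc₂.map (Points.continuous_map _)) with e | e
  · exact Or.inl (eq_of_specializes_of_finite f hf hX hY hc₁ e.symm).symm
  · exact Or.inr (eq_of_specializes_of_finite f hf hX hY hc₂ e)

end Groth.Agent.Dsp6
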