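import Groth.Agent.AlgSpDec.MonoPoint
import Groth.Prelude.Def_AlgSpDec

/-!
# Elementary etale neighbourhoods form a cofiltered category
-/

set_option autoImplicit false
set_option backward.isDefEq.respectTransparency false
set_option backward.isDefEq.respectTransparency.types false

universe u

open CategoryTheory CategoryTheory.Limits AlgebraicGeometry AlgSp Groth.Agent.AlgSpLib Groth.Agent.AlgSpPts
open Groth.Agent.AlgSpDec

namespace Groth.Agent.Dsp6

variable {S : Scheme.{u}} {X : Sp S}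

/-- The inclusion of a point. -/
noncomputable def ptι {U : Over S} (a : (yon S).obj U ⟶ X) (u : ↥U.left) : (FieldPt.ofPt a u).pt ⟶ U :=
  Over.homMk (U.left.fromSpecResidueField u) rfl

theorem ptι_comp {U : Over S} (a : (yon S).obj U ⟶ X) (u : ↥U.left) :
    (yon S).map (ptι a u) ≫ a = (FieldPt.ofPt a u).toHom :=
  (FieldPt.toHom_ofPt a u).symm

theorem ptι_apply {U : Over S} (a : (yon S).obj U ⟶ X) (u : ↥U.left) (t : ↥(FieldPt.ofPt a u).pt.left) :
    (ptι a u).left t = u :=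
  Scheme.fromSpecResidueField_apply _ _

theorem mono_ofPt_of_lift {U : Over S} (a : (yon S).obj U ⟶ X) (q : FieldPt X) [Mono q.toHom]
    (w : q.pt ⟶ U) (hw : (yon S).map w ≫ a = q.toHom) (c : ↥q.pt.left) :
    Mono (FieldPt.ofPt a (w.left c)).toHom := by
  haveI : IsReduced q.pt.left := inferInstanceAs (IsReduced (Spec (CommRingCat.of q.K)))
  haveI : Subsingleton ↥q.pt.left := inferInstanceAs (Subsingleton (PrimeSpectrum q.K))
  obtain ⟨l₀, hl₀⟩ := exists_factor_residueField w.left (w.left c) fun t => congrArg _ (Subsingleton.elim _ _)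
  let v := w.left c
  let l : q.pt ⟶ (FieldPt.ofPt a v).pt := Over.homMk l₀ (by
    change l₀ ≫ U.left.fromSpecResidueField v ≫ U.hom = q.pt.hom
    rw [reassoc_of% hl₀, Over.w])
  have hl : l ≫ ptι a v = w := Over.OverMorphism.ext hl₀
  have hlq : (yon S).map l ≫ (FieldPt.ofPt a v).toHom = q.toHom := by
    rw [← ptι_comp, ← Category.assoc, ← Functor.map_comp, hl, hw]
  haveI : Mono ((yon S).map l) := by
    haveI : Mono ((yon S).map l ≫ (FieldPt.ofPt a v).toHom) := by rw [hlq]; infer_instance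
    exact mono_of_mono _ (FieldPt.ofPt a v).toHom
  haveI : IsIso ((yon S).map l) := isIso_of_mono_field (K := (FieldPt.ofPt a v).K) (str := (FieldPt.ofPt a v).str)
    (IsAlgSpace.yon_obj _) ((yon S).map l) (Points.ofScheme q.pt c)
  have : (FieldPt.ofPt a v).toHom = inv ((yon S).map l) ≫ q.toHom := by rw [← hlq, IsIso.inv_hom_id_assoc]
  rw [this]
  infer_instance

theorem exists_factor_mono_point (hX : IsAlgSpace X) (p q : FieldPt X) [Mono p.toHom] [Mono q.toHom]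
    (h : Points.mk p = Points.mk q) : ∃ m : q.pt ⟶ p.pt, (yon S).map m ≫ p.toHom = q.toHom := by
  obtain ⟨w, -, -⟩ := exists_point_of_isPullback (IsPullback.of_hasPullback p.toHom q.toHom)
    (x := Points.ofScheme p.pt (IsLocalRing.closedPoint p.K))
    (y := Points.ofScheme q.pt (IsLocalRing.closedPoint q.K))
    (((Points.ofPt_eq_map_ofScheme p.toHom _).symm.trans (Points.ofPt_toHom p _)).trans
      (h.trans ((Points.ofPt_eq_map_ofScheme q.toHom _).symm.trans (Points.ofPt_toHom q _)).symm))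
  haveI := isIso_of_mono_field (str := q.str)
    (isAlgSpace_pullback (IsAlgSpace.yon_obj p.pt) (IsAlgSpace.yon_obj q.pt) hX p.toHom q.toHom)
    (pullback.snd p.toHom q.toHom) w
  obtain ⟨m, hm⟩ := (yon S).map_surjective (inv (pullback.snd p.toHom q.toHom) ≫ pullback.fst p.toHom q.toHom)
  exact ⟨m, by rw [hm, Category.assoc, pullback.condition, IsIso.inv_hom_id_assoc]⟩

variable {x : Points X}

theorem exists_elem_dominating (hX : IsAlgSpace X) {U₁ U₂ : Over S} (a₁ : (yon S).obj U₁ ⟶ X)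
    (a₂ : (yon S).obj U₂ ⟶ X) (u₁ : ↥U₁.left) (u₂ : ↥U₂.left) (h₁ : IsElemEtaleNbhd a₁ u₁ x)
    (h₂ : IsElemEtaleNbhd a₂ u₂ x) :
    ∃ (U : Over S) (a : (yon S).obj U ⟶ X) (v : ↥U.left) (g₁ : U ⟶ U₁) (g₂ : U ⟶ U₂),
      IsElemEtaleNbhd a v x ∧ (yon S).map g₁ ≫ a₁ = a ∧ (yon S).map g₂ ≫ a₂ = a ∧
        g₁.left v = u₁ ∧ g₂.left v = u₂ := by
  haveI := h₁.mono
  haveI := h₂.mono
  obtain ⟨m, hm⟩ := exists_factor_mono_point hX (FieldPt.ofPt a₁ u₁) (FieldPt.ofPt a₂ u₂)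
    (h₁.ofPt_eq.trans h₂.ofPt_eq.symm)
  let R := h₁.etale.rep.pullback a₂
  let g₁ : R ⟶ U₁ := h₁.etale.rep.fst' a₂
  let g₂ : R ⟶ U₂ := h₁.etale.rep.snd a₂
  have sq : IsPullback ((yon S).map g₁) ((yon S).map g₂) a₁ a₂ := h₁.etale.rep.isPullback' a₂
  haveI : Etale g₂.left := h₁.etale.property_snd a₂
  obtain ⟨w₀, e₁, e₂⟩ := sq.exists_lift ((yon S).map (m ≫ ptι a₁ u₁)) ((yon S).map (ptι a₂ u₂)) (by
    rw [Functor.map_comp, Category.assoc, ptι_comp, ptι_comp, hm])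
  obtain ⟨w, rfl⟩ := (yon S).map_surjective w₀
  rw [← Functor.map_comp] at e₁ e₂
  have f₁ := (yon S).map_injective e₁
  have f₂ := (yon S).map_injective e₂
  let c : ↥(FieldPt.ofPt a₂ u₂).pt.left := IsLocalRing.closedPoint (FieldPt.ofPt a₂ u₂).K
  have hg₁ : g₁.left (w.left c) = u₁ := by
    rw [← Scheme.Hom.comp_apply, ← Over.comp_left, f₁, Over.comp_left, Scheme.Hom.comp_apply, ptι_apply]
  have hg₂ : g₂.left (w.left c) = u₂ := by
    rw [← Scheme.Hom.comp_apply, ← Over.comp_left, f₂, ptι_apply]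
  refine ⟨R, (yon S).map g₂ ≫ a₂, w.left c, g₁, g₂,
    ⟨repWith_comp ((repWith_yon_map_iff _ g₂).2 ‹_›) h₂.etale, ?_, ?_⟩, sq.w, rfl, hg₁, hg₂⟩
  · rw [ofPt_comp, hg₂]; exact h₂.ofPt_eq
  · refine mono_ofPt_of_lift _ (FieldPt.ofPt a₂ u₂) w ?_ c
    rw [← Functor.map_comp_assoc, f₂, ptι_comp]

theorem exists_elem_equalizing {U₁ U₂ : Over S} (a₁ : (yon S).obj U₁ ⟶ X)
    (a₂ : (yon S).obj U₂ ⟶ X) (u₁ : ↥U₁.left) (u₂ : ↥U₂.left) (b c : U₁ ⟶ U₂)
    (h₁ : IsElemEtaleNbhd a₁ u₁ x) (h₂ : IsElemEtaleNbhd a₂ u₂ x) (hb : (yon S).map b ≫ a₂ = a₁)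
    (hc : (yon S).map c ≫ a₂ = a₁) (hbu : b.left u₁ = u₂) (hcu : c.left u₁ = u₂) :
    ∃ (U : Over S) (a : (yon S).obj U ⟶ X) (v : ↥U.left) (h : U ⟶ U₁),
      IsElemEtaleNbhd a v x ∧ (yon S).map h ≫ a₁ = a ∧ h.left v = u₁ ∧ h ≫ b = h ≫ c := by
  haveI := h₁.mono
  haveI := h₂.mono
  let q := FieldPt.ofPt a₁ u₁
  haveI : IsReduced q.pt.left := inferInstanceAs (IsReduced (Spec (CommRingCat.of q.K)))
  have hfac : ∀ e : U₁ ⟶ U₂, e.left u₁ = u₂ → ∃ l : q.pt ⟶ (FieldPt.ofPt a₂ u₂).pt,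
      l ≫ ptι a₂ u₂ = ptι a₁ u₁ ≫ e := by
    intro e he
    obtain ⟨l, hl⟩ := exists_factor_residueField (ptι a₁ u₁ ≫ e).left u₂ fun t => by
      rw [Over.comp_left, Scheme.Hom.comp_apply, show (ptι a₁ u₁).left t = u₁ from
        Scheme.fromSpecResidueField_apply _ _, he]
    exact ⟨Over.homMk l (by
      change l ≫ U₂.left.fromSpecResidueField u₂ ≫ U₂.hom = q.pt.hom
      rw [reassoc_of% hl, Over.w]), Over.OverMorphism.ext hl⟩
  obtain ⟨lb, hlb⟩ := hfac b hbu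
  obtain ⟨lc, hlc⟩ := hfac c hcu
  have hl : lb = lc := (yon S).map_injective ((cancel_mono (FieldPt.ofPt a₂ u₂).toHom).1 (by
    rw [← ptι_comp, ← Functor.map_comp_assoc, ← Functor.map_comp_assoc, hlb, hlc, Functor.map_comp,
      Functor.map_comp, Category.assoc, Category.assoc, hb, hc]))
  have hbc : ptι a₁ u₁ ≫ b = ptι a₁ u₁ ≫ c := by rw [← hlb, ← hlc, hl]
  -- the equalizer of the two maps
  let R := h₂.etale.rep.pullback a₂
  let t : R ⟶ U₂ := h₂.etale.rep.fst' a₂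
  let s : R ⟶ U₂ := h₂.etale.rep.snd a₂
  have sq : IsPullback ((yon S).map t) ((yon S).map s) a₂ a₂ := h₂.etale.rep.isPullback' a₂
  haveI : Etale s.left := h₂.etale.property_snd a₂
  obtain ⟨δ₀, d₁, d₂⟩ := sq.exists_lift (𝟙 _) (𝟙 _) rfl
  obtain ⟨δ, rfl⟩ := (yon S).map_surjective δ₀
  rw [← Functor.map_comp, ← (yon S).map_id] at d₁ d₂
  have δt := (yon S).map_injective d₁
  have δs := (yon S).map_injective d₂
  obtain ⟨l₀, l₁, l₂⟩ := sq.exists_lift ((yon S).map b) ((yon S).map c) (hb.trans hc.symm)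
  obtain ⟨l, rfl⟩ := (yon S).map_surjective l₀
  rw [← Functor.map_comp] at l₁ l₂
  have lt := (yon S).map_injective l₁
  have ls := (yon S).map_injective l₂
  haveI : Etale δ.left := by
    haveI : Etale (δ.left ≫ s.left) := by rw [← Over.comp_left, δs]; exact inferInstanceAs (Etale (𝟙 U₂.left))
    exact Etale.of_comp δ.left s.left
  have sqE := IsPullback.of_hasPullback l δ
  let h : pullback l δ ⟶ U₁ := pullback.fst l δ
  haveI : Etale h.left :=
    MorphismProperty.of_isPullback (P := @Etale) (sqE.flip.map (Over.forget S)) ‹Etale δ.left›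
  let w : q.pt ⟶ pullback l δ := pullback.lift (ptι a₁ u₁) (ptι a₁ u₁ ≫ b) (by
    refine (yon S).map_injective (sq.hom_ext ?_ ?_) <;> rw [← Functor.map_comp, ← Functor.map_comp]
    · rw [Category.assoc, lt, Category.assoc, δt, Category.comp_id]
    · rw [Category.assoc, ls, Category.assoc, δs, Category.comp_id, hbc])
  have hw : w ≫ h = ptι a₁ u₁ := pullback.lift_fst _ _ _
  let p : ↥q.pt.left := IsLocalRing.closedPoint q.K
  have hp : h.left (w.left p) = u₁ := by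
    rw [← Scheme.Hom.comp_apply, ← Over.comp_left, hw, ptι_apply]
  refine ⟨pullback l δ, (yon S).map h ≫ a₁, w.left p, h,
    ⟨repWith_comp ((repWith_yon_map_iff _ h).2 ‹_›) h₁.etale, ?_, ?_⟩, rfl, hp, ?_⟩
  · rw [ofPt_comp, hp]; exact h₁.ofPt_eq
  · refine mono_ofPt_of_lift _ q w ?_ p
    rw [← Functor.map_comp_assoc, hw, ptι_comp]
  · rw [← lt, ← ls, pullback.condition_assoc, pullback.condition_assoc, δt, δs]

end Groth.Agent.Dsp6
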