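import Groth.Agent.AlgSpLib.EtaleSmoothLocal
import Groth.Agent.AlgSpDec.MonoRep
import Groth.Prelude.Def_AlgSpCov
import Groth.Prelude.Def_AlgSpEt

/-!
# The small etale site and the big etale site of algebraic spaces
-/

set_option autoImplicit false
set_option backward.isDefEq.respectTransparency false
set_option backward.isDefEq.respectTransparency.types false

universe u

open CategoryTheory CategoryTheory.Limits AlgebraicGeometry AlgSp Groth.Agent.AlgSpLib Groth.Agent.AlgSpPts
open Groth.Agent.AlgSpDec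

namespace Groth.Agent.Dsp6

variable {S : Scheme.{u}}

theorem exists_etale_refinement {Z : Space S} {T : Sieve Z} (hT : T ∈ spacesTop S IsEtaleMor Z) :
    ∀ (U : Over S) (h : (AlgSp.ofScheme S).obj U ⟶ Z) (u : ↥U.left),
      ∃ (V : Over S) (g : V ⟶ U) (v : ↥V.left), Etale g.left ∧ g.left v = u ∧
        T ((AlgSp.ofScheme S).map g ≫ h) := by
  induction hT with
  | of Z R hR =>
    intro U h u
    obtain ⟨Y, g, hgR, y, hy⟩ := hR.2 (Points.ofPt h.hom u)
    have hge : IsEtaleMor g.hom := hR.1 g hgR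
    let P := pullback g.hom h.hom
    have hP : IsAlgSpace P := isAlgSpace_pullback Y.property (IsAlgSpace.yon_obj U) Z.property g.hom h.hom
    have hsnd : IsEtaleMor (pullback.snd g.hom h.hom) :=
      isEtaleMor_of_isPullback (IsPullback.of_hasPullback g.hom h.hom) Y.property Z.property
        (IsAlgSpace.yon_obj U) hge
    obtain ⟨w, -, hw⟩ := exists_point_of_isPullback (IsPullback.of_hasPullback g.hom h.hom)
      (x := y) (y := Points.ofScheme U u) (hy.trans (Points.ofPt_eq_map_ofScheme h.hom u))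
    obtain ⟨V, a, v, -, ha, hv⟩ := exists_affine_chart_at hP w
    obtain ⟨k, hk⟩ := (yon S).map_surjective (a ≫ pullback.snd g.hom h.hom)
    have hke : RepWith @Etale ((yon S).map k) := by rw [hk]; exact hsnd a ha
    refine ⟨V, k, v, (repWith_yon_map_iff _ k).1 hke, (Points.schemeEquiv U).injective ?_, ?_⟩
    · change Points.ofScheme U (k.left v) = Points.ofScheme U u
      rw [← hw, ← hv, Points.map_ofPt, ← hk]
      rw [Points.ofPt_eq_map_ofScheme]
      exact (Points.map_yon_map_apply k v).symm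
    · refine ⟨Y, ObjectProperty.homMk (a ≫ pullback.fst g.hom h.hom), g, hgR, ObjectProperty.hom_ext _ ?_⟩
      change (a ≫ pullback.fst g.hom h.hom) ≫ g.hom = (yon S).map k ≫ h.hom
      rw [Category.assoc, pullback.condition, ← Category.assoc, ← hk]
  | top Z =>
    intro U h u
    exact ⟨U, 𝟙 U, u, inferInstanceAs (Etale (𝟙 U.left)), rfl, trivial⟩
  | pullback Z T hT Y f ih =>
    intro U h u
    obtain ⟨V, g, v, hg, hv, hT'⟩ := ih U (h ≫ f) u
    exact ⟨V, g, v, hg, hv, by simpa only [Sieve.pullback_apply, Category.assoc] using hT'⟩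
  | transitive Z T R hT hR ih ih' =>
    intro U h u
    obtain ⟨V, g, v, hg, hv, hT'⟩ := ih U h u
    obtain ⟨W, g', w, hg', hw, hR'⟩ := ih' hT' V (𝟙 _) v
    haveI := hg
    haveI := hg'
    refine ⟨W, g' ≫ g, w, inferInstanceAs (Etale (g'.left ≫ g.left)), ?_, ?_⟩
    · rw [Over.comp_left, Scheme.Hom.comp_apply, hw, hv]
    · simpa only [Sieve.pullback_apply, Category.assoc, Category.id_comp, Functor.map_comp] using hR'

variable {X Y : Space S} (f : Y ⟶ X)

theorem isCocontinuous_toSpacesOver :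
    (EtOver.toEtSpOver Y ⋙ ObjectProperty.ι (fun E : Over Y => IsEtaleMor E.hom.hom) ⋙
        Over.map f).IsCocontinuous (etTop Y.obj) (spacesTopOver IsEtaleMor X) := by
  constructor
  let F := EtOver.toEtSpOver Y ⋙ ObjectProperty.ι (fun E : Over Y => IsEtaleMor E.hom.hom) ⋙ Over.map f
  intro E T hT
  have key := exists_etale_refinement hT E.obj.left (𝟙 _)
  choose V g v hge hv hgT using key
  have he : ∀ u, RepWith @Etale ((yon S).map (g u) ≫ E.obj.hom) := fun u =>
    repWith_comp ((repWith_yon_map_iff _ (g u)).2 (hge u)) E.property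
  let Z : ↥E.obj.left.left → EtOver Y.obj := fun u => EtOver.mk _ (he u)
  let g' : ∀ u, Z u ⟶ E := fun u => EtOver.homMk (g u) rfl
  refine GrothendieckTopology.superset_covering _ ?_ (ofArrows_mem_etTop Z g' fun u => ⟨u, v u, hv u⟩)
  rw [Sieve.ofArrows, Sieve.generate_le_iff]
  rintro _ _ ⟨u⟩
  rw [Sieve.functorPullback_apply, Presieve.functorPullback_mem]
  have hu := hgT u
  rw [Category.comp_id] at hu
  have hu' := (Sieve.overEquiv_iff T _).1 hu
  let k : F.obj (Z u) ⟶ Over.mk ((AlgSp.ofScheme S).map (g u) ≫ (F.obj E).hom) := Over.homMk (𝟙 _) (by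
    refine ObjectProperty.hom_ext _ ?_
    change 𝟙 _ ≫ (yon S).map (g u) ≫ E.obj.hom ≫ f.hom = ((yon S).map (g u) ≫ E.obj.hom) ≫ f.hom
    rw [Category.id_comp, Category.assoc])
  have hk : F.map (g' u) = k ≫ (Over.homMk (V := F.obj E) ((AlgSp.ofScheme S).map (g u)) rfl :
      Over.mk ((AlgSp.ofScheme S).map (g u) ≫ (F.obj E).hom) ⟶ F.obj E) :=
    Over.OverMorphism.ext (Category.id_comp _).symm
  change T (F.map (g' u))
  rw [hk]
  exact T.downward_closed hu' k

theorem preservesPullback_toSpacesOver {E₁ E₂ E₀ : EtOver Y.obj} (g₁ : E₁ ⟶ E₀) (g₂ : E₂ ⟶ E₀) :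
    PreservesLimit (cospan g₁ g₂) (EtOver.toEtSpOver Y ⋙
      ObjectProperty.ι (fun E : Over Y => IsEtaleMor E.hom.hom) ⋙ Over.map f) := by
  refine preservesLimit_of_preserves_limit_cone (EtOver.pullbackIsLimit g₁ g₂)
    ((isLimitMapConePullbackConeEquiv _ _).symm ?_)
  have sq := (IsPullback.of_hasPullback g₁.hom.left g₂.hom.left).map (yon S)
  refine PullbackCone.IsLimit.mk _
    (fun s => Over.homMk (ObjectProperty.homMk (sq.lift s.fst.left.hom s.snd.left.hom
      (congrArg (fun k => k.left.hom) s.condition))) ?_)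
    (fun s => Over.OverMorphism.ext (ObjectProperty.hom_ext _ (sq.lift_fst _ _ _)))
    (fun s => Over.OverMorphism.ext (ObjectProperty.hom_ext _ (sq.lift_snd _ _ _)))
    (fun s m h₁ h₂ => Over.OverMorphism.ext (ObjectProperty.hom_ext _ (sq.hom_ext
      ((congrArg (fun k => k.left.hom) h₁).trans (sq.lift_fst _ _ _).symm)
      ((congrArg (fun k => k.left.hom) h₂).trans (sq.lift_snd _ _ _).symm))))
  refine ObjectProperty.hom_ext _ ?_
  change sq.lift _ _ _ ≫ ((yon S).map _ ≫ E₁.obj.hom) ≫ f.hom = s.pt.hom.hom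
  rw [← Category.assoc, ← Category.assoc, sq.lift_fst, Category.assoc]
  exact congrArg (fun k => k.hom) (Over.w s.fst)

theorem isContinuous_toSpacesOver :
    (EtOver.toEtSpOver Y ⋙ ObjectProperty.ι (fun E : Over Y => IsEtaleMor E.hom.hom) ⋙
        Over.map f).IsContinuous (etTop Y.obj) (spacesTopOver IsEtaleMor X) := by
  let F := EtOver.toEtSpOver Y ⋙ ObjectProperty.ι (fun E : Over Y => IsEtaleMor E.hom.hom) ⋙ Over.map f
  have hpres : ∀ {E₁ E₂ E₀ : EtOver Y.obj} (g₁ : E₁ ⟶ E₀) (g₂ : E₂ ⟶ E₀),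
      PreservesLimit (cospan g₁ g₂) F := preservesPullback_toSpacesOver f
  constructor
  rintro ⟨G, H⟩
  rw [isSheaf_iff_isSheaf_of_type] at H
  first | rw [isSheaf_iff_isSheaf_of_type] | skip
  unfold etTop
  rw [← Precoverage.toGrothendieck_toCoverage, Presieve.isSheaf_coverage]
  intro E R hR
  haveI : R.HasPairwisePullbacks := (etPre Y.obj).hasPairwisePullbacks_of_mem hR
  haveI : F.PreservesPairwisePullbacks R := ⟨fun {_ _} g₁ g₂ _ _ => hpres g₁ g₂⟩
  change Presieve.IsSheafFor (F.op ⋙ G) R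
  rw [Presieve.IsSheafFor.comp_iff_of_preservesPairwisePullbacks]
  refine (Presieve.isSheafFor_iff_generate _).2 (H _ ?_)
  obtain ⟨ι, Z, g, rfl⟩ := R.exists_eq_ofArrows
  rw [Presieve.map_ofArrows, GrothendieckTopology.mem_over_iff]
  have hsurj := (ofArrows_mem_etPre_iff Z g).1 hR
  have hmem : Presieve.ofArrows _ (fun i => (F.map (g i)).left) ∈ spacesPre S IsEtaleMor (F.obj E).left := by
    refine ⟨?_, fun x => ?_⟩
    · rintro _ _ ⟨i⟩
      exact (isEtaleMor_yon_map_iff (g i).hom.left).2 (EtOver.etale_left (g i))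
    · obtain ⟨u, rfl⟩ := (Points.schemeEquiv E.obj.left).surjective x
      obtain ⟨i, z, hz⟩ := hsurj u
      exact ⟨_, _, ⟨i⟩, Points.ofScheme _ z, (Points.map_yon_map_apply _ z).trans (congrArg _ hz)⟩
  refine GrothendieckTopology.superset_covering _ ?_ (Precoverage.generate_mem_toGrothendieck hmem)
  rw [Sieve.generate_le_iff]
  rintro _ _ ⟨i⟩
  rw [Sieve.overEquiv_iff]
  refine ⟨F.obj (Z i), Over.homMk (𝟙 _) (by
    rw [Category.id_comp]; exact (Over.w (F.map (g i))).symm), F.map (g i), ⟨i⟩,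
    Over.OverMorphism.ext (Category.id_comp _)⟩

end Groth.Agent.Dsp6
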