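import Mathlib.RingTheory.Etale.Descent
import Mathlib.RingTheory.Etale.Locus
import Mathlib.RingTheory.MvPolynomial.Localization
import Mathlib.RingTheory.Localization.BaseChange
import Mathlib.RingTheory.Flat.FaithfullyFlat.Algebra
import Mathlib.RingTheory.Flat.Stability
import Mathlib.RingTheory.Localization.LocalizationLocalization
import Mathlib.RingTheory.FinitePresentation

/-!
# An etale model near a prime of a flat algebra which becomes etale over itself

For a flat algebra `B` over `A` such that `B ⊗[A] B` is etale over `B`, and a prime `p` of `A` below a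
prime of `B`, the localization `B_p` is etale over `A_p` and comes from an etale algebra over some `A_g`,
which becomes isomorphic to `B` after tensoring with `B`.
-/

set_option autoImplicit false
set_option maxHeartbeats 400000

universe u

open TensorProduct

namespace Groth.Agent.Dsp6.EtaleModel

variable {A B : Type u} [CommRing A] [CommRing B] [Algebra A B] (p : Ideal A) [p.IsPrime]

/-- The submonoid of `B` of the elements of `A` outside `p`. -/
abbrev M : Submonoid B := Algebra.algebraMapSubmonoid B p.primeCompl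

/-- The local ring of `A` at `p`. -/
abbrev As : Type u := Localization.AtPrime p

/-- The localization of `B` over `p`. -/
abbrev Bs (B : Type u) [CommRing B] [Algebra A B] : Type u :=
  Localization (Algebra.algebraMapSubmonoid B p.primeCompl)

noncomputable instance : Algebra (As p) (Bs p B) := localizationAlgebra p.primeCompl B

instance : IsScalarTower A (As p) (Bs p B) :=
  IsScalarTower.of_algebraMap_eq fun a => by
    rw [IsScalarTower.algebraMap_apply A B (Bs p B)]
    exact (IsLocalization.map_eq _ a).symm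

instance : Algebra.IsPushout A (As p) B (Bs p B) :=
  Algebra.IsPushout.symm (Algebra.isPushout_of_isLocalization p.primeCompl (As p) B (Bs p B))

variable [Module.Flat A B] [Algebra.Etale B (B ⊗[A] B)] (q : Ideal B) [q.IsPrime]
  (hq : q.comap (algebraMap A B) = p)

include hq in
theorem faithfullyFlat_Bs : Module.FaithfullyFlat (As p) (Bs p B) := by
  haveI : Module.Flat (As p) (Bs p B) :=
    Module.Flat.of_linearEquiv (Algebra.IsPushout.equiv A (As p) B (Bs p B)).toLinearEquiv.symm
  refine { submodule_ne_top := fun m hm htop => ?_ }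
  have hd : Disjoint (Algebra.algebraMapSubmonoid B p.primeCompl : Set B) q := by
    rw [Set.disjoint_left]
    rintro _ ⟨a, ha, rfl⟩ hb
    exact ha (hq ▸ hb)
  rw [IsLocalRing.eq_maximalIdeal hm, ← Localization.AtPrime.map_eq_maximalIdeal,
    Ideal.smul_top_eq_map, Ideal.map_map, ← IsScalarTower.algebraMap_eq] at htop
  · have hle : p.map (algebraMap A (Bs p B)) ≤ q.map (algebraMap B (Bs p B)) := by
      rw [IsScalarTower.algebraMap_eq A B (Bs p B), ← Ideal.map_map]
      exact Ideal.map_mono (Ideal.map_le_iff_le_comap.2 hq.ge)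
    have hp' : (q.map (algebraMap B (Bs p B))).IsPrime :=
      IsLocalization.isPrime_of_isPrime_disjoint (Algebra.algebraMapSubmonoid B p.primeCompl) _ q ‹_› hd
    have : p.map (algebraMap A (Bs p B)) = ⊤ := by
      rw [Submodule.restrictScalars_eq_top_iff] at htop
      exact htop
    exact hp'.ne_top (top_le_iff.1 (this ▸ hle))

include hq in
theorem etale_Bs : Algebra.Etale (As p) (Bs p B) := by
  haveI := faithfullyFlat_Bs p q hq
  haveI : Algebra.Etale (Bs p B) (Bs p B ⊗[A] B) :=
    Algebra.Etale.of_equiv (Algebra.TensorProduct.cancelBaseChange A B (Bs p B) (Bs p B) B)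
  haveI : Algebra.Etale (Bs p B) (Bs p B ⊗[As p] Bs p B) :=
    Algebra.Etale.of_equiv (((Algebra.TensorProduct.congr (AlgEquiv.refl (R := Bs p B) (A₁ := Bs p B))
      (Algebra.IsPushout.equiv A (As p) B (Bs p B)).symm).trans
      (Algebra.TensorProduct.cancelBaseChange A (As p) (Bs p B) (Bs p B) B)).symm)
  exact Algebra.Etale.of_etale_tensorProduct_of_faithfullyFlat (Bs p B)

omit [Module.Flat A B] [Algebra.Etale B (B ⊗[A] B)] in
/-- An element of `B` killed in `B_p` is killed by an element outside `p`. -/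
theorem exists_smul_eq_zero {b : B} (hb : algebraMap B (Bs p B) b = 0) : ∃ t ∈ p.primeCompl, t • b = 0 := by
  obtain ⟨⟨_, t, ht, rfl⟩, h⟩ := (IsLocalization.map_eq_zero_iff (Algebra.algebraMapSubmonoid B p.primeCompl) _ b).1 hb
  exact ⟨t, ht, by rwa [Algebra.smul_def]⟩

attribute [local instance] MvPolynomial.algebraMvPolynomial

include hq in
/-- A finitely presented model of `B` over `p`. -/
theorem exists_model : ∃ (C : Type u) (_ : CommRing C) (_ : Algebra A C) (_ : Algebra.FinitePresentation A C)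
    (σ : C →ₐ[A] B), (∀ b : B, ∃ t ∈ p.primeCompl, t • b ∈ σ.range) ∧
      ∀ c : C, σ c = 0 → ∃ t ∈ p.primeCompl, t • c = 0 := by
  classical
  haveI := etale_Bs p q hq
  obtain ⟨n, φ₀, hφ₀, -⟩ := Algebra.FinitePresentation.out (R := As p) (A := Bs p B)
  choose b s hbs using fun i => IsLocalization.exists_mk'_eq (Algebra.algebraMapSubmonoid B p.primeCompl) (φ₀ (MvPolynomial.X i))
  let φ : MvPolynomial (Fin n) (As p) →ₐ[As p] Bs p B := MvPolynomial.aeval fun i => algebraMap B (Bs p B) (b i)
  have hφ : Function.Surjective φ := by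
    intro x
    obtain ⟨z, rfl⟩ := hφ₀ x
    suffices ∀ i, φ₀ (MvPolynomial.X i) ∈ φ.range by
      have : (MvPolynomial.aeval (fun i => φ₀ (MvPolynomial.X i))).range ≤ φ.range := by
        rw [← Algebra.adjoin_range_eq_range_aeval]
        exact Algebra.adjoin_le (Set.range_subset_iff.2 this)
      have h2 : MvPolynomial.aeval (fun i => φ₀ (MvPolynomial.X i)) z ∈ φ.range := this ⟨z, rfl⟩
      have heq : φ₀ z = MvPolynomial.aeval (fun i => φ₀ (MvPolynomial.X i)) z :=
        DFunLike.congr_fun (MvPolynomial.aeval_unique φ₀) z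
      rw [← heq] at h2
      exact h2
    intro i
    obtain ⟨t, ht, hts⟩ := (s i).2
    have hu : IsUnit (algebraMap A (As p) t) := IsLocalization.map_units _ ⟨t, ht⟩
    refine ⟨MvPolynomial.C ((hu.unit⁻¹ : (As p)ˣ) : As p) * MvPolynomial.X i, ?_⟩
    show φ _ = _
    rw [map_mul, ← MvPolynomial.algebraMap_eq, AlgHom.commutes, MvPolynomial.aeval_X, ← hbs i,
      IsLocalization.eq_mk'_iff_mul_eq, mul_comm _ (algebraMap B (Bs p B) (b i)), mul_assoc, ← hts,
      ← IsScalarTower.algebraMap_apply A B, IsScalarTower.algebraMap_apply A (As p) (Bs p B), ← map_mul,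
      IsUnit.val_inv_mul, map_one, mul_one]
  let π : MvPolynomial (Fin n) A →ₐ[A] B := MvPolynomial.aeval b
  let ι : MvPolynomial (Fin n) A →+* MvPolynomial (Fin n) (As p) := MvPolynomial.map (algebraMap A (As p))
  have hcomm : ∀ z, φ (ι z) = algebraMap B (Bs p B) (π z) := fun z => by
    show MvPolynomial.aeval _ (MvPolynomial.map _ z) = _
    rw [MvPolynomial.aeval_map_algebraMap]
    exact (MvPolynomial.comp_aeval_apply b (IsScalarTower.toAlgHom A B (Bs p B)) z).symm
  obtain ⟨G, hG⟩ := Algebra.FinitePresentation.ker_fG_of_surjective φ hφ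
  let NC : Submonoid (MvPolynomial (Fin n) A) := p.primeCompl.map MvPolynomial.C
  have halg : algebraMap (MvPolynomial (Fin n) A) (MvPolynomial (Fin n) (As p)) = ι := rfl
  have hgen : ∀ w ∈ RingHom.ker φ, ∃ z, π z = 0 ∧ ∃ m : NC, w * ι m = ι z := by
    intro w hw
    obtain ⟨⟨z, m⟩, hz⟩ := IsLocalization.surj (M := NC) w
    rw [halg] at hz
    have h0 : algebraMap B (Bs p B) (π z) = 0 := by
      rw [← hcomm, ← hz, map_mul, RingHom.mem_ker.1 hw, zero_mul]
    obtain ⟨t, ht, htz⟩ := exists_smul_eq_zero p h0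
    refine ⟨MvPolynomial.C t * z, ?_, ⟨MvPolynomial.C t, ⟨t, ht, rfl⟩⟩ * m, ?_⟩
    · rw [map_mul, ← MvPolynomial.algebraMap_eq, AlgHom.commutes, ← Algebra.smul_def, htz]
    · show w * ι (MvPolynomial.C t * (m : MvPolynomial (Fin n) A)) = _
      simp only [] at hz
      rw [map_mul, map_mul, mul_left_comm, hz]
  choose! z hz0 m hm using hgen
  let J : Ideal (MvPolynomial (Fin n) A) := Ideal.span (G.image z : Set (MvPolynomial (Fin n) A))
  have hGk : ∀ w ∈ G, w ∈ RingHom.ker φ := fun w hw => hG ▸ Ideal.subset_span hw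
  have hJ : J ≤ RingHom.ker π := Ideal.span_le.2 (by
    simp only [Finset.coe_image, Set.image_subset_iff]
    exact fun w hw => hz0 w (hGk w hw))
  have hker : RingHom.ker φ ≤ J.map ι := by
    show RingHom.ker φ.toRingHom ≤ _
    rw [← hG]
    refine Ideal.span_le.2 fun w hw => ?_
    have hu : IsUnit (ι (m w : MvPolynomial (Fin n) A)) :=
      halg ▸ IsLocalization.map_units (MvPolynomial (Fin n) (As p)) (m w)
    rw [SetLike.mem_coe, ← Ideal.mul_unit_mem_iff_mem _ hu, hm w (hGk w hw)]
    exact Ideal.mem_map_of_mem _ (Ideal.subset_span (Finset.mem_image_of_mem z hw))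
  let σ : (MvPolynomial (Fin n) A ⧸ J) →ₐ[A] B := Ideal.Quotient.liftₐ J π fun a ha => hJ ha
  refine ⟨_, inferInstance, inferInstance, Algebra.FinitePresentation.quotient ⟨_, rfl⟩, σ, fun x => ?_, fun c => ?_⟩
  · obtain ⟨w, hw⟩ := hφ (algebraMap B (Bs p B) x)
    obtain ⟨⟨z', m'⟩, hz'⟩ := IsLocalization.surj (M := NC) w
    rw [halg] at hz'
    obtain ⟨t', ht', htm'⟩ := m'.2
    have h0 : algebraMap B (Bs p B) (π z' - t' • x) = 0 := by
      rw [map_sub, ← hcomm, ← hz', map_mul, hw, sub_eq_zero, ← htm', hcomm,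
        ← MvPolynomial.algebraMap_eq, AlgHom.commutes, Algebra.smul_def, map_mul, mul_comm]
    obtain ⟨t, ht, htz⟩ := exists_smul_eq_zero p h0
    refine ⟨t * t', p.primeCompl.mul_mem ht ht', Ideal.Quotient.mk J (MvPolynomial.C t * z'), ?_⟩
    show π (MvPolynomial.C t * z') = _
    rw [smul_sub, sub_eq_zero] at htz
    rw [map_mul, ← MvPolynomial.algebraMap_eq, AlgHom.commutes, ← Algebra.smul_def, htz, mul_smul]
  · obtain ⟨y, rfl⟩ := Ideal.Quotient.mk_surjective c
    intro hy
    have hy' : ι y ∈ J.map ι := hker (by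
      rw [RingHom.mem_ker, hcomm, show π y = 0 from hy, map_zero])
    rw [← halg, IsLocalization.algebraMap_mem_map_algebraMap_iff NC] at hy'
    obtain ⟨_, ⟨t, ht, rfl⟩, hty⟩ := hy'
    refine ⟨t, ht, ?_⟩
    rw [← Ideal.Quotient.mkₐ_eq_mk A, ← map_smul, Algebra.smul_def]
    exact Ideal.Quotient.eq_zero_iff_mem.2 (by rwa [MvPolynomial.algebraMap_eq])

variable {p}

omit [Module.Flat A B] [Algebra.Etale B (B ⊗[A] B)] in
theorem exists_isEtaleAt_open [Algebra.Etale (As p) (Bs p B)] {C : Type u} [CommRing C] [Algebra A C]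
    [Algebra.FinitePresentation A C] (σ : C →ₐ[A] B)
    (h₁ : ∀ b : B, ∃ t ∈ p.primeCompl, t • b ∈ σ.range)
    (h₂ : ∀ c : C, σ c = 0 → ∃ t ∈ p.primeCompl, t • c = 0) :
    ∃ t ∈ p.primeCompl, Algebra.Etale A (Localization.Away (algebraMap A C t)) := by
  let N : Submonoid C := Algebra.algebraMapSubmonoid C p.primeCompl
  letI : Algebra C (Bs p B) := ((algebraMap B (Bs p B)).comp σ.toRingHom).toAlgebra
  haveI : IsScalarTower A C (Bs p B) := IsScalarTower.of_algebraMap_eq fun a => by
    show algebraMap A (Bs p B) a = algebraMap B (Bs p B) (σ (algebraMap A C a))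
    rw [AlgHom.commutes, ← IsScalarTower.algebraMap_apply]
  have hσ : ∀ c, algebraMap C (Bs p B) c = algebraMap B (Bs p B) (σ c) := fun _ => rfl
  haveI : IsLocalization N (Bs p B) := by
    refine (isLocalization_iff _ _).2 ⟨?_, ?_, ?_⟩
    · rintro ⟨_, t, ht, rfl⟩
      rw [hσ, AlgHom.commutes]
      exact IsLocalization.map_units (Bs p B) (⟨_, t, ht, rfl⟩ : Algebra.algebraMapSubmonoid B p.primeCompl)
    · intro x
      obtain ⟨b, ⟨_, s, hs, rfl⟩, rfl⟩ := IsLocalization.exists_mk'_eq (Algebra.algebraMapSubmonoid B p.primeCompl) x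
      obtain ⟨t, ht, c, hc⟩ := h₁ b
      refine ⟨(c, ⟨algebraMap A C (s * t), _, p.primeCompl.mul_mem hs ht, rfl⟩), ?_⟩
      rw [hσ, hσ, AlgHom.commutes]
      change _ * _ = algebraMap B (Bs p B) (σ.toRingHom c)
      rw [show σ.toRingHom c = t • b from hc, map_mul, map_mul, ← mul_assoc, IsLocalization.mk'_spec,
        Algebra.smul_def, map_mul, mul_comm]
    · intro x y hxy
      obtain ⟨t, ht, h⟩ := exists_smul_eq_zero p (b := σ (x - y))
        (by rw [map_sub, map_sub, ← hσ, ← hσ, hxy, sub_self])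
      rw [← map_smul] at h
      obtain ⟨s, hs, h'⟩ := h₂ _ h
      refine ⟨⟨_, s * t, p.primeCompl.mul_mem hs ht, rfl⟩, ?_⟩
      rw [← mul_smul, Algebra.smul_def, mul_sub, sub_eq_zero] at h'
      exact h'
  haveI : Algebra.FormallyEtale A (As p) := Algebra.FormallyEtale.of_isLocalization p.primeCompl
  haveI : Algebra.FormallyEtale A (Bs p B) := Algebra.FormallyEtale.comp A (As p) (Bs p B)
  let I : Ideal C := PrimeSpectrum.vanishingIdeal (Algebra.etaleLocus A C)ᶜ
  by_contra! hne
  have hdisj : Disjoint (I : Set C) N := by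
    rw [Set.disjoint_left]
    rintro _ hI ⟨t, ht, rfl⟩
    refine hne t ht ?_
    rw [← Algebra.basicOpen_subset_etaleLocus_iff_etale]
    intro P hP
    by_contra hn
    exact hP (((PrimeSpectrum.mem_vanishingIdeal _ _).1 hI) P hn)
  obtain ⟨P, hP, hIP, hPN⟩ := Ideal.exists_le_prime_disjoint I N hdisj
  have hmem : (⟨P, hP⟩ : PrimeSpectrum C) ∈ (Algebra.etaleLocus A C)ᶜ := by
    rw [← (Algebra.isOpen_etaleLocus (R := A) (A := C)).isClosed_compl.closure_eq,
      ← PrimeSpectrum.zeroLocus_vanishingIdeal_eq_closure]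
    exact hIP
  have hle : N ≤ P.primeCompl := fun x hx hxP => Set.disjoint_left.1 hPN hxP hx
  letI := IsLocalization.localizationAlgebraOfSubmonoidLe (Bs p B) (Localization.AtPrime P) N P.primeCompl hle
  haveI := IsLocalization.localization_isScalarTower_of_submonoid_le (Bs p B) (Localization.AtPrime P) N P.primeCompl hle
  haveI : IsLocalization (P.primeCompl.map (algebraMap C (Bs p B))) (Localization.AtPrime P) :=
    IsLocalization.isLocalization_of_submonoid_le (Bs p B) (Localization.AtPrime P) N P.primeCompl hle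
  haveI : Algebra.FormallyEtale (Bs p B) (Localization.AtPrime P) :=
    Algebra.FormallyEtale.of_isLocalization (P.primeCompl.map (algebraMap C (Bs p B)))
  haveI : IsScalarTower A (Bs p B) (Localization.AtPrime P) := IsScalarTower.of_algebraMap_eq fun a => by
    rw [IsScalarTower.algebraMap_apply A C (Bs p B), ← IsScalarTower.algebraMap_apply C (Bs p B),
      ← IsScalarTower.algebraMap_apply]
  exact hmem (Algebra.FormallyEtale.comp A (Bs p B) (Localization.AtPrime P))

omit [Algebra.Etale B (B ⊗[A] B)] in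
/-- An element killed by `id ⊗ σ` is killed by an element outside `p`. -/
theorem exists_smul_map_eq_zero {C : Type u} [CommRing C] [Algebra A C] (σ : C →ₐ[A] B)
    (h₂ : ∀ c : C, σ c = 0 → ∃ t ∈ p.primeCompl, t • c = 0) (w : B ⊗[A] C)
    (hw : Algebra.TensorProduct.map (AlgHom.id B B) σ w = 0) : ∃ t ∈ p.primeCompl, t • w = 0 := by
  have he : ∀ w, Algebra.TensorProduct.map (AlgHom.id B B) σ w = σ.toLinearMap.lTensor B w := fun w => by
    induction w using TensorProduct.induction_on with
    | zero => simp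
    | tmul => simp
    | add a b ha hb => rw [map_add, map_add, ha, hb]
  have hex := Module.Flat.lTensor_exact B (LinearMap.exact_subtype_ker_map σ.toLinearMap)
  obtain ⟨k, rfl⟩ := (hex w).1 (by rw [← he]; exact hw)
  clear hw
  induction k using TensorProduct.induction_on with
  | zero => exact ⟨1, p.primeCompl.one_mem, by simp⟩
  | tmul b c =>
    obtain ⟨t, ht, h⟩ := h₂ c.1 c.2
    exact ⟨t, ht, by rw [LinearMap.lTensor_tmul, Submodule.subtype_apply, ← TensorProduct.tmul_smul, h, TensorProduct.tmul_zero]⟩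
  | add x y hx hy =>
    obtain ⟨t₁, ht₁, h1⟩ := hx
    obtain ⟨t₂, ht₂, h2⟩ := hy
    exact ⟨t₁ * t₂, p.primeCompl.mul_mem ht₁ ht₂, by
      rw [map_add, smul_add, mul_smul, mul_smul, smul_comm t₁ t₂, h1, h2, smul_zero, smul_zero, add_zero]⟩

omit [Module.Flat A B] [Algebra.Etale B (B ⊗[A] B)] in
theorem exists_smul_mem_range {C : Type u} [CommRing C] [Algebra A C] (σ : C →ₐ[A] B)
    (h₁ : ∀ b : B, ∃ t ∈ p.primeCompl, t • b ∈ σ.range) (w : B ⊗[A] B) :
    ∃ t ∈ p.primeCompl, ∃ z, Algebra.TensorProduct.map (AlgHom.id B B) σ z = t • w := by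
  induction w using TensorProduct.induction_on with
  | zero => exact ⟨1, p.primeCompl.one_mem, 0, by simp⟩
  | tmul b c =>
    obtain ⟨t, ht, d, hd⟩ := h₁ c
    exact ⟨t, ht, b ⊗ₜ d, by
      rw [Algebra.TensorProduct.map_tmul, AlgHom.id_apply, ← TensorProduct.tmul_smul]
      exact congrArg _ hd⟩
  | add x y hx hy =>
    obtain ⟨t₁, ht₁, z₁, h1⟩ := hx
    obtain ⟨t₂, ht₂, z₂, h2⟩ := hy
    exact ⟨t₁ * t₂, p.primeCompl.mul_mem ht₁ ht₂, t₂ • z₁ + t₁ • z₂, by
      rw [map_add, AlgHom.map_smul_of_tower, AlgHom.map_smul_of_tower, h1, h2, smul_add, ← mul_smul,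
        ← mul_smul, mul_comm]⟩

omit [Module.Flat A B] [Algebra.Etale B (B ⊗[A] B)] in
theorem exists_pow_mul_mem_range {C : Type u} [CommRing C] [Algebra A C] (μ : (B ⊗[A] C) →ₐ[B] B ⊗[A] B)
    [Algebra.FiniteType B (B ⊗[A] B)] (h : ∀ w, ∃ t ∈ p.primeCompl, ∃ z, μ z = t • w) :
    ∃ t ∈ p.primeCompl, Function.Surjective
      (Localization.awayMap μ.toRingHom (algebraMap A (B ⊗[A] C) t)) := by
  classical
  obtain ⟨G, hG⟩ := Algebra.FiniteType.out (R := B) (A := B ⊗[A] B)
  choose s hs z hz using h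
  refine ⟨G.prod s, Submonoid.prod_mem _ fun w _ => hs w, Localization.awayMap_surjective_iff.2 fun w => ?_⟩
  have hμ : μ.toRingHom (algebraMap A (B ⊗[A] C) (G.prod s)) = algebraMap A (B ⊗[A] B) (G.prod s) := by
    show μ (algebraMap A (B ⊗[A] C) (G.prod s)) = _
    rw [IsScalarTower.algebraMap_apply A B (B ⊗[A] C), AlgHom.commutes, ← IsScalarTower.algebraMap_apply]
  rw [hμ]
  set r := algebraMap A (B ⊗[A] B) (G.prod s)
  have hw : w ∈ Algebra.adjoin B (G : Set (B ⊗[A] B)) := hG ▸ Algebra.mem_top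
  induction hw using Algebra.adjoin_induction with
  | mem w hw =>
    refine ⟨(G.erase w).prod s • z w, 1, ?_⟩
    show μ _ = _
    rw [AlgHom.map_smul_of_tower, hz, ← mul_smul, Finset.prod_erase_mul _ _ (by simpa using hw), pow_one,
      Algebra.smul_def]
  | algebraMap b => exact ⟨algebraMap B _ b, 0, by rw [pow_zero, one_mul]; exact μ.commutes b⟩
  | add x y _ _ hx hy =>
    obtain ⟨a, m, ha⟩ := hx
    obtain ⟨b, n, hb⟩ := hy
    refine ⟨algebraMap A _ (G.prod s) ^ n * a + algebraMap A _ (G.prod s) ^ m * b, m + n, ?_⟩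
    rw [map_add, map_mul, map_mul, map_pow, map_pow, ha, hb, hμ]
    ring
  | mul x y _ _ hx hy =>
    obtain ⟨a, m, ha⟩ := hx
    obtain ⟨b, n, hb⟩ := hy
    exact ⟨a * b, m + n, by rw [map_mul, ha, hb]; ring⟩

theorem exists_bijective_away {C : Type u} [CommRing C] [Algebra A C] [Algebra.FinitePresentation A C]
    (σ : C →ₐ[A] B) (h₁ : ∀ b : B, ∃ t ∈ p.primeCompl, t • b ∈ σ.range)
    (h₂ : ∀ c : C, σ c = 0 → ∃ t ∈ p.primeCompl, t • c = 0) :
    ∃ t ∈ p.primeCompl, Function.Bijective
      (Localization.awayMap (Algebra.TensorProduct.map (AlgHom.id B B) σ).toRingHom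
        (algebraMap A (B ⊗[A] C) t)) := by
  classical
  set μ := Algebra.TensorProduct.map (AlgHom.id B B) σ with hμdef
  obtain ⟨t₁, ht₁, hsurj⟩ := exists_pow_mul_mem_range μ (exists_smul_mem_range σ h₁)
  let r := algebraMap A (B ⊗[A] C) t₁
  let μ' : Localization.Away r →ₐ[B] Localization.Away (μ r) := Localization.awayMapₐ μ r
  haveI : Algebra.FinitePresentation B (Localization.Away r) := by
    haveI := IsLocalization.Away.finitePresentation r (S := Localization.Away r)
    exact Algebra.FinitePresentation.trans B (B ⊗[A] C) _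
  haveI : Algebra.FinitePresentation B (Localization.Away (μ r)) := by
    haveI := IsLocalization.Away.finitePresentation (μ r) (S := Localization.Away (μ r))
    exact Algebra.FinitePresentation.trans B (B ⊗[A] B) _
  have hμ' : Function.Surjective μ' := hsurj
  obtain ⟨G, hG⟩ := Algebra.FinitePresentation.ker_fG_of_surjective μ' hμ'
  have hc : ∀ a, μ' (algebraMap (B ⊗[A] C) (Localization.Away r) a) =
      algebraMap (B ⊗[A] B) (Localization.Away (μ r)) (μ a) := fun a => by
    simp [μ', Localization.awayMapₐ, IsLocalization.Away.mapₐ, IsLocalization.Away.map]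
  have key : ∀ x ∈ G, ∃ u ∈ p.primeCompl, algebraMap A (Localization.Away r) u * x = 0 := by
    intro x hx
    have hx0 : μ' x = 0 := RingHom.mem_ker.1 (hG ▸ Ideal.subset_span hx)
    obtain ⟨⟨a, ⟨_, n, rfl⟩⟩, ha⟩ := IsLocalization.surj (M := Submonoid.powers r) x
    have h0 : algebraMap (B ⊗[A] B) (Localization.Away (μ r)) (μ a) = 0 := by
      have h := congrArg μ' ha
      rw [map_mul, hx0, zero_mul] at h
      exact (hc a).symm.trans h.symm
    obtain ⟨⟨_, k, rfl⟩, hk⟩ := (IsLocalization.map_eq_zero_iff (Submonoid.powers (μ r)) _ _).1 h0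
    obtain ⟨u, hu, hu0⟩ := exists_smul_map_eq_zero σ h₂ (r ^ k * a) (by rw [map_mul, map_pow]; exact hk)
    refine ⟨u, hu, ?_⟩
    have hr : ∀ j, IsUnit (algebraMap (B ⊗[A] C) (Localization.Away r) (r ^ j)) := fun j =>
      IsLocalization.map_units (M := Submonoid.powers r) _ ⟨_, j, rfl⟩
    rw [← (hr n).mul_left_eq_zero, mul_assoc, show x * algebraMap _ _ (r ^ n) = _ from ha, ← (hr k).mul_right_eq_zero,
      IsScalarTower.algebraMap_apply A (B ⊗[A] C) (Localization.Away r), ← map_mul, ← map_mul,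
      mul_left_comm, ← Algebra.smul_def, hu0, map_zero]
  choose! u hu hux using key
  refine ⟨t₁ * G.prod u, p.primeCompl.mul_mem ht₁ (Submonoid.prod_mem _ fun x hx => hu x hx), ?_, ?_⟩
  · rw [Localization.awayMap_injective_iff]
    intro a ha
    have hmem : algebraMap (B ⊗[A] C) (Localization.Away r) a ∈ Ideal.span (G : Set (Localization.Away r)) := by
      rw [hG]
      refine RingHom.mem_ker.2 ((hc a).trans ?_)
      rw [show μ a = 0 from ha, map_zero]
    have hz : algebraMap A (Localization.Away r) (G.prod u) * algebraMap (B ⊗[A] C) (Localization.Away r) a = 0 := by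
      refine Submodule.span_induction (p := fun y _ => algebraMap A (Localization.Away r) (G.prod u) * y = 0)
        (fun y hy => ?_) (mul_zero _) (fun y y' _ _ h h' => by rw [mul_add, h, h', add_zero])
        (fun c y _ h => by rw [smul_eq_mul, mul_left_comm, h, mul_zero]) hmem
      rw [← Finset.prod_erase_mul _ _ (Finset.mem_coe.1 hy), map_mul, mul_assoc, hux y hy, mul_zero]
    rw [IsScalarTower.algebraMap_apply A (B ⊗[A] C) (Localization.Away r), ← map_mul] at hz
    obtain ⟨⟨_, n, rfl⟩, hn⟩ := (IsLocalization.map_eq_zero_iff (Submonoid.powers r) _ _).1 hz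
    refine ⟨n + 1, ?_⟩
    rw [map_mul, mul_pow, pow_succ (algebraMap A (B ⊗[A] C) (G.prod u)), pow_succ (algebraMap A (B ⊗[A] C) t₁)]
    show r ^ n * r * (_ ^ n * algebraMap A (B ⊗[A] C) (G.prod u)) * a = 0
    linear_combination (r * algebraMap A (B ⊗[A] C) (G.prod u) ^ n) * hn
  · exact Localization.awayMap_surjective_of_dvd _ (map_mul (algebraMap A (B ⊗[A] C)) t₁ (G.prod u) ▸ Dvd.intro _ rfl) hsurj

end Groth.Agent.Dsp6.EtaleModel
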