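import Groth.Agent.Dsp6.EtaleModel
import Mathlib.AlgebraicGeometry.Morphisms.Etale
import Mathlib.AlgebraicGeometry.Morphisms.UniversallyOpen
import Mathlib.AlgebraicGeometry.Pullbacks
import Mathlib.Algebra.Category.Ring.Constructions

/-!
# An etale model of a flat affine morphism which is etale over itself
-/

set_option autoImplicit false
set_option backward.isDefEq.respectTransparency false
set_option backward.isDefEq.respectTransparency.types false
set_option maxHeartbeats 400000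

universe u

open CategoryTheory CategoryTheory.Limits AlgebraicGeometry TensorProduct

namespace Groth.Agent.Dsp6.EtaleModel

theorem exists_data {A B : Type u} [CommRing A] [CommRing B] [Algebra A B] [Module.Flat A B]
    [Algebra.Etale B (B ⊗[A] B)] (q : PrimeSpectrum B) :
    ∃ (C : Type u) (_ : CommRing C) (_ : Algebra A C) (σ : C →ₐ[A] B) (t t₂ : A),
      t ∉ (q.comap (algebraMap A B)).asIdeal ∧ t₂ ∉ (q.comap (algebraMap A B)).asIdeal ∧
        Algebra.Etale A (Localization.Away (algebraMap A C t)) ∧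
        Function.Bijective (Localization.awayMap (Algebra.TensorProduct.map (AlgHom.id B B) σ).toRingHom
          (algebraMap A (B ⊗[A] C) t₂)) := by
  let p := (q.comap (algebraMap A B)).asIdeal
  haveI := etale_Bs p q.asIdeal rfl
  obtain ⟨C, _, _, _, σ, h₁, h₂⟩ := exists_model (B := B) p q.asIdeal rfl
  obtain ⟨t, ht, het⟩ := exists_isEtaleAt_open σ h₁ h₂
  obtain ⟨t₂, ht₂, hbij⟩ := exists_bijective_away σ h₁ h₂
  exact ⟨C, inferInstance, inferInstance, σ, t, t₂, ht, ht₂, het, hbij⟩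

/-- Etaleness of a restriction of `Spec.map` to a basic open, from that of the localization. -/
theorem etale_basicOpen_ι {A C : CommRingCat.{u}} (φ : A ⟶ C) (c : C)
    (h : (φ ≫ CommRingCat.ofHom (algebraMap C (Localization.Away c))).hom.Etale) :
    Etale (Scheme.Opens.ι (X := Spec C) (PrimeSpectrum.basicOpen c) ≫ Spec.map φ) := by
  have e : Scheme.Opens.ι (X := Spec C) (PrimeSpectrum.basicOpen c) =
      (basicOpenIsoSpecAway c).hom ≫ Spec.map (CommRingCat.ofHom (algebraMap C (Localization.Away c))) := by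
    simp [basicOpenIsoSpecAway]
  haveI : Etale (Spec.map (φ ≫ CommRingCat.ofHom (algebraMap C (Localization.Away c)))) :=
    HasRingHomProperty.Spec_iff.2 h
  rw [e, Category.assoc, ← Spec.map_comp]
  infer_instance

variable {A B : CommRingCat.{u}} (φ : A ⟶ B)

theorem exists_etale_model (hfl : φ.hom.Flat)
    (hs : letI := φ.hom.toAlgebra; Algebra.Etale B (B ⊗[A] B)) (u : ↥(Spec B)) :
    ∃ (D : (Spec A).Opens) (E : Scheme.{u}) (π : E ⟶ D.toScheme) (σ : ((Spec.map φ) ⁻¹ᵁ D).toScheme ⟶ E),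
      IsAffineOpen D ∧ IsAffineOpen ((Spec.map φ) ⁻¹ᵁ D) ∧ IsAffine E ∧ Etale π ∧ Surjective π ∧
        Spec.map φ u ∈ D ∧ σ ≫ π = (Spec.map φ) ∣_ D ∧
        IsPullback (pullback.fst ((Spec.map φ) ∣_ D) ((Spec.map φ) ∣_ D))
          (pullback.snd ((Spec.map φ) ∣_ D) ((Spec.map φ) ∣_ D) ≫ σ) ((Spec.map φ) ∣_ D) π := by
  letI := φ.hom.toAlgebra
  haveI : Module.Flat A B := hfl
  haveI : Algebra.Etale B (B ⊗[A] B) := hs
  obtain ⟨C, _, _, σ, t, t₂, ht, ht₂, het, hbij⟩ := exists_data (A := A) (B := B) u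
  let π₀ : Spec (CommRingCat.of C) ⟶ Spec A := Spec.map (CommRingCat.ofHom (algebraMap A C))
  let q : Spec B ⟶ Spec A := Spec.map φ
  let σ₀ : Spec B ⟶ Spec (CommRingCat.of C) := Spec.map (CommRingCat.ofHom σ.toRingHom)
  have hσq : σ₀ ≫ π₀ = q := by
    simp only [σ₀, π₀, q, ← Spec.map_comp]
    exact congrArg Spec.map (CommRingCat.hom_ext (RingHom.ext fun a => σ.commutes a))
  let Ot : (Spec (CommRingCat.of C)).Opens := PrimeSpectrum.basicOpen (algebraMap A C t)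
  haveI hOt : Etale (Ot.ι ≫ π₀) := etale_basicOpen_ι (CommRingCat.ofHom (algebraMap A C)) _ (by
    show ((algebraMap C (Localization.Away (algebraMap A C t))).comp (algebraMap A C)).Etale
    rw [← IsScalarTower.algebraMap_eq]
    exact RingHom.etale_algebraMap.2 het)
  let I : (Spec A).Opens := ⟨Set.range (Ot.ι ≫ π₀), (Ot.ι ≫ π₀).isOpenMap.isOpen_range⟩
  have htu : (q u) ∈ (PrimeSpectrum.basicOpen t : (Spec A).Opens) := ht
  have huI : q u ∈ I := by
    refine ⟨⟨σ₀ u, ?_⟩, ?_⟩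
    · show algebraMap A C t ∉ Ideal.comap σ.toRingHom u.asIdeal
      simpa [σ.commutes] using ht
    · show π₀ (σ₀ u) = q u
      rw [← Scheme.Hom.comp_apply, hσq]
  obtain ⟨_, ⟨_, ⟨g₃, rfl⟩, rfl⟩, hug₃, hg₃⟩ :=
    PrimeSpectrum.isBasis_basic_opens.exists_subset_of_mem_open huI I.isOpen
  let g : A := t * t₂ * g₃
  let D : (Spec A).Opens := PrimeSpectrum.basicOpen g
  have hDt : (D : Set ↥(Spec A)) ⊆ SetLike.coe (PrimeSpectrum.basicOpen t : (Spec A).Opens) :=
    fun x hx => ((PrimeSpectrum.basicOpen_mul_le_left (t) t₂)) ((PrimeSpectrum.basicOpen_mul_le_left (t * t₂) g₃) hx)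
  have huD : q u ∈ D := by
    show g ∉ (q u).asIdeal
    exact fun hh => ((q u).isPrime.mem_or_mem hh).elim (fun h => ((q u).isPrime.mem_or_mem h).elim ht ht₂) hug₃
  have hEle : π₀ ⁻¹ᵁ D ≤ Ot := fun x hx => by
    have := hDt hx
    exact this
  haveI hπ : Etale (π₀ ∣_ D) := by
    haveI : Etale ((π₀ ∣_ D) ≫ D.ι) := by
      rw [morphismRestrict_ι, ← Scheme.homOfLE_ι _ hEle, Category.assoc]
      infer_instance
    exact Etale.of_comp _ D.ι
  have hπs : Surjective (π₀ ∣_ D) := ⟨fun x => by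
    obtain ⟨z, hz⟩ := hg₃ (PrimeSpectrum.basicOpen_mul_le_right _ g₃ x.2)
    refine ⟨⟨z.1, ?_⟩, D.ι.isOpenEmbedding.injective ?_⟩
    · show π₀ z.1 ∈ D
      rw [show π₀ z.1 = x.1 from hz]
      exact x.2
    · rw [← Scheme.Hom.comp_apply, morphismRestrict_ι]
      exact hz⟩
  have hDa : IsAffineOpen D := IsAffineOpen.Spec_basicOpen g
  let σE : (q ⁻¹ᵁ D).toScheme ⟶ (π₀ ⁻¹ᵁ D).toScheme :=
    IsOpenImmersion.lift (π₀ ⁻¹ᵁ D).ι ((q ⁻¹ᵁ D).ι ≫ σ₀) (by
      rw [Scheme.Opens.range_ι]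
      rintro _ ⟨x, rfl⟩
      show π₀ ((_ ≫ σ₀) x) ∈ D
      rw [← Scheme.Hom.comp_apply, Category.assoc, hσq]
      exact x.2)
  have hσι : σE ≫ (π₀ ⁻¹ᵁ D).ι = (q ⁻¹ᵁ D).ι ≫ σ₀ := IsOpenImmersion.lift_fac _ _ _
  have hw : σE ≫ π₀ ∣_ D = q ∣_ D := by
    rw [← cancel_mono D.ι, Category.assoc, morphismRestrict_ι, reassoc_of% hσι, hσq, morphismRestrict_ι]
  refine ⟨D, _, π₀ ∣_ D, σE, hDa, hDa.preimage q, hDa.preimage π₀, hπ, hπs, huD, hw, ?_⟩
  -- the comparison of the fibre products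
  let f := q ∣_ D
  let μ : (B : Type u) ⊗[A] C →+* (B : Type u) ⊗[A] B :=
    (Algebra.TensorProduct.map (AlgHom.id (B : Type u) B) σ).toRingHom
  let P1 : Scheme.{u} := Spec (CommRingCat.of ((B : Type u) ⊗[A] B))
  let P2 : Scheme.{u} := Spec (CommRingCat.of ((B : Type u) ⊗[A] C))
  let a₁ : P1 ⟶ Spec B := Spec.map (CommRingCat.ofHom Algebra.TensorProduct.includeLeftRingHom)
  let b₁ : P1 ⟶ Spec B := Spec.map (CommRingCat.ofHom (Algebra.TensorProduct.includeRight (R := A) (A := B) (B := B)).toRingHom)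
  let a₂ : P2 ⟶ Spec B := Spec.map (CommRingCat.ofHom Algebra.TensorProduct.includeLeftRingHom)
  let b₂ : P2 ⟶ Spec (CommRingCat.of C) :=
    Spec.map (CommRingCat.ofHom (Algebra.TensorProduct.includeRight (R := A) (A := B) (B := C)).toRingHom)
  have sq₁ : IsPullback a₁ b₁ q q :=
    isPullback_SpecMap_of_isPushout _ _ _ _ (CommRingCat.isPushout_tensorProduct A B B)
  have sq₂ : IsPullback a₂ b₂ q π₀ :=
    isPullback_SpecMap_of_isPushout _ _ _ _ (CommRingCat.isPushout_tensorProduct A B C)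
  let m : P1 ⟶ P2 := Spec.map (CommRingCat.ofHom μ)
  have hma : m ≫ a₂ = a₁ := by
    simp only [m, a₁, a₂, ← Spec.map_comp]
    exact congrArg Spec.map (CommRingCat.hom_ext (RingHom.ext fun b => by simp [μ]))
  have hmb : m ≫ b₂ = b₁ ≫ σ₀ := by
    simp only [m, b₁, b₂, σ₀, ← Spec.map_comp]
    exact congrArg Spec.map (CommRingCat.hom_ext (RingHom.ext fun c => by simp [μ]))
  let r : (B : Type u) ⊗[A] C := algebraMap A ((B : Type u) ⊗[A] C) g
  have hdvd : algebraMap A ((B : Type u) ⊗[A] C) t₂ ∣ r := ⟨algebraMap A _ (t * g₃), by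
    rw [← map_mul]; exact congrArg (algebraMap A ((B : Type u) ⊗[A] C)) (show g = t₂ * (t * g₃) by simp only [g]; ring)⟩
  let O : P2.Opens := PrimeSpectrum.basicOpen r
  haveI : IsIso (m ∣_ O) := by
    haveI : IsIso (CommRingCat.ofHom (Localization.awayMap μ r)) :=
      (RingEquiv.ofBijective _ (Localization.awayMap_bijective_of_dvd μ hdvd hbij)).toCommRingCatIso.isIso_hom
    exact ((MorphismProperty.isomorphisms Scheme.{u}).arrow_mk_iso_iff
      (SpecMapRestrictBasicOpenIso (CommRingCat.ofHom μ) r)).2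
        (show IsIso _ from inferInstanceAs (IsIso (Spec.map (CommRingCat.ofHom (Localization.awayMap μ r)))))
  let W1 := pullback f f
  let W2 := pullback f (π₀ ∣_ D)
  let j₂ : W2 ⟶ P2 := sq₂.lift (pullback.fst f _ ≫ (q ⁻¹ᵁ D).ι) (pullback.snd f _ ≫ (π₀ ⁻¹ᵁ D).ι) (by
    rw [Category.assoc, Category.assoc, ← morphismRestrict_ι, ← morphismRestrict_ι, pullback.condition_assoc])
  have hj₂O : ∀ x, j₂ x ∈ O := fun x => by
    show j₂ x ∈ (Spec.map (CommRingCat.ofHom (algebraMap A ((B : Type u) ⊗[A] C)))) ⁻¹ᵁ PrimeSpectrum.basicOpen g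
    have e : Spec.map (CommRingCat.ofHom (algebraMap A ((B : Type u) ⊗[A] C))) = a₂ ≫ q := by
      simp only [a₂, q, ← Spec.map_comp]
      exact congrArg Spec.map (CommRingCat.hom_ext (RingHom.ext fun a => rfl))
    rw [e]
    show (j₂ ≫ a₂ ≫ q) x ∈ D
    rw [sq₂.lift_fst_assoc, Category.assoc, Scheme.Hom.comp_apply]
    exact (pullback.fst f (π₀ ∣_ D) x).2
  let j₂' : W2 ⟶ O.toScheme := IsOpenImmersion.lift O.ι j₂ (by
    rw [Scheme.Opens.range_ι]; rintro _ ⟨x, rfl⟩; exact hj₂O x)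
  obtain ⟨n, hn⟩ : ∃ n : W2 ⟶ P1, n = j₂' ≫ inv (m ∣_ O) ≫ (m ⁻¹ᵁ O).ι := ⟨_, rfl⟩
  have hnm : n ≫ m = j₂ := by
    simp only [hn, Category.assoc]
    rw [← morphismRestrict_ι, IsIso.inv_hom_id_assoc, IsOpenImmersion.lift_fac]
  let v₂ : W2 ⟶ (q ⁻¹ᵁ D).toScheme := IsOpenImmersion.lift (q ⁻¹ᵁ D).ι (n ≫ b₁) (by
    rw [Scheme.Opens.range_ι]
    rintro _ ⟨x, rfl⟩
    show ((n ≫ b₁) ≫ q) x ∈ D
    rw [Category.assoc, ← sq₁.w, ← hma, Category.assoc, reassoc_of% hnm, sq₂.lift_fst_assoc, Category.assoc,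
      Scheme.Hom.comp_apply]
    exact (pullback.fst f (π₀ ∣_ D) x).2)
  have hv₂ : v₂ ≫ (q ⁻¹ᵁ D).ι = n ≫ b₁ := IsOpenImmersion.lift_fac _ _ _
  let back : W2 ⟶ W1 := pullback.lift (pullback.fst f (π₀ ∣_ D)) v₂ (by
    rw [← cancel_mono D.ι, Category.assoc, Category.assoc, morphismRestrict_ι, reassoc_of% hv₂,
      ← sq₁.w, ← hma, Category.assoc, reassoc_of% hnm, sq₂.lift_fst_assoc, Category.assoc])
  obtain ⟨k, hk₁, hk₂⟩ : ∃ k : W1 ⟶ W2, k ≫ pullback.fst _ _ = pullback.fst f f ∧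
      k ≫ pullback.snd _ _ = pullback.snd f f ≫ σE :=
    ⟨pullback.lift (pullback.fst f f) (pullback.snd f f ≫ σE) (by rw [Category.assoc, hw]; exact pullback.condition),
      pullback.lift_fst _ _ _, pullback.lift_snd _ _ _⟩
  have h1 : back ≫ k = 𝟙 W2 := by
    refine pullback.hom_ext (by simp [back, hk₁]) ?_
    rw [← cancel_mono (π₀ ⁻¹ᵁ D).ι]
    simp only [back, Category.assoc, Category.id_comp]
    rw [reassoc_of% hk₂, pullback.lift_snd_assoc, hσι, reassoc_of% hv₂, ← hmb, reassoc_of% hnm, sq₂.lift_snd]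
  have h2 : k ≫ back = 𝟙 W1 := by
    refine pullback.hom_ext (by simp [back, hk₁]) ?_
    rw [← cancel_mono (q ⁻¹ᵁ D).ι]
    simp only [back, Category.assoc, pullback.lift_snd_assoc, Category.id_comp]
    rw [hv₂]
    let j₁ : W1 ⟶ P1 := sq₁.lift (pullback.fst f f ≫ (q ⁻¹ᵁ D).ι) (pullback.snd f f ≫ (q ⁻¹ᵁ D).ι) (by
      rw [Category.assoc, Category.assoc, ← morphismRestrict_ι, pullback.condition_assoc])
    have hj : j₁ ≫ m = k ≫ j₂ := sq₂.hom_ext
      (by rw [Category.assoc, hma, sq₁.lift_fst, Category.assoc, sq₂.lift_fst, reassoc_of% hk₁])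
      (by rw [Category.assoc, hmb, sq₁.lift_snd_assoc, Category.assoc, Category.assoc, sq₂.lift_snd, reassoc_of% hk₂, hσι])
    have hj₁ : ∀ x, j₁ x ∈ m ⁻¹ᵁ O := fun x => by
      show m (j₁ x) ∈ O
      rw [← Scheme.Hom.comp_apply, hj, Scheme.Hom.comp_apply]
      exact hj₂O _
    let j₁' : W1 ⟶ (m ⁻¹ᵁ O).toScheme := IsOpenImmersion.lift (m ⁻¹ᵁ O).ι j₁ (by
      rw [Scheme.Opens.range_ι]; rintro _ ⟨x, rfl⟩; exact hj₁ x)
    have hj' : k ≫ j₂' = j₁' ≫ (m ∣_ O) := by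
      rw [← cancel_mono O.ι, Category.assoc, IsOpenImmersion.lift_fac, Category.assoc, morphismRestrict_ι,
        IsOpenImmersion.lift_fac_assoc, hj]
    simp only [hn, Category.assoc]
    rw [reassoc_of% hj', IsIso.hom_inv_id_assoc, IsOpenImmersion.lift_fac_assoc, sq₁.lift_snd]
  haveI : IsIso k := ⟨back, h2, h1⟩
  refine IsPullback.of_iso_pullback ⟨by rw [Category.assoc, hw]; exact pullback.condition⟩ (asIso k) ?_ ?_
  · exact hk₁
  · exact hk₂

end Groth.Agent.Dsp6.EtaleModel
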