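import Groth.Agent.MorLib.SqZeroSection
import Groth.Agent.CAlgUI.DescentProj
import Mathlib.RingTheory.Flat.FaithfullyFlat.Algebra
import Mathlib.RingTheory.TensorProduct.Quotient
import Mathlib.LinearAlgebra.TensorProduct.RightExactness

/-!
# Sections of augmented algebras with a local model after faithfully flat base change
-/

set_option autoImplicit false
set_option maxHeartbeats 400000
set_option backward.isDefEq.respectTransparency false
set_option backward.isDefEq.respectTransparency.types false

universe u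

open TensorProduct

namespace Groth.Agent.Dsp6

variable {A : Type u} [CommRing A] (I : Ideal A) (B : Type u) [CommRing B] [Algebra A B]

/-- The map `A ⧸ I → B ⧸ I B`. -/
noncomputable def quotToQuot : A ⧸ I →ₐ[A] B ⧸ I.map (algebraMap A B) :=
  Ideal.Quotient.liftₐ I (Algebra.ofId A _) fun a ha => by
    change algebraMap A (B ⧸ I.map (algebraMap A B)) a = 0
    rw [IsScalarTower.algebraMap_apply A B (B ⧸ I.map (algebraMap A B)), Ideal.Quotient.algebraMap_eq,
      Ideal.Quotient.eq_zero_iff_mem]
    exact Ideal.mem_map_of_mem _ ha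

theorem quotToQuot_mk (a : A) : quotToQuot I B (Ideal.Quotient.mk I a) =
    Ideal.Quotient.mk (I.map (algebraMap A B)) (algebraMap A B a) := rfl

variable {I B}

/-- The square zero kernel of an algebra map stays square zero after base change. -/
theorem ker_sq_bot_rTensor {R R' D : Type u} [CommRing R] [CommRing R'] [CommRing D] [Algebra A R]
    [Algebra A R'] [Algebra A D] (f : R →ₐ[A] R') (hf : Function.Surjective f)
    (h : RingHom.ker f ^ 2 = ⊥) :
    RingHom.ker (Algebra.TensorProduct.map f (AlgHom.id A D)) ^ 2 = ⊥ := by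
  rw [show RingHom.ker (Algebra.TensorProduct.map f (AlgHom.id A D)) =
      Ideal.map (Algebra.TensorProduct.includeLeft (R := A) (S := A) (A := R) (B := D)) (RingHom.ker f) from
      Algebra.TensorProduct.rTensor_ker f hf, ← Ideal.map_pow, h, Ideal.map_bot]

/-- An `A`-algebra with an augmentation to `A ⧸ I` has a section compatible with it, if after a faithfully
flat base change it has a local model. -/
theorem exists_algHom_section_descend (hI : I ^ 2 = ⊥) [Module.FaithfullyFlat A B]
    {S : Type u} [CommRing S] [Algebra A S] (π : S →ₐ[A] A ⧸ I)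
    {SB : Type u} [CommRing SB] [Algebra B SB] [Algebra A SB] [IsScalarTower A B SB] (e : B ⊗[A] S ≃ₐ[B] SB)
    (πB : SB →ₐ[B] B ⧸ I.map (algebraMap A B)) (hπ : ∀ s, πB (e (1 ⊗ₜ s)) = quotToQuot I B (π s))
    (hm : MorLib.IsLocalModel (I.map (algebraMap A B)) πB 1) :
    ∃ φ : S →ₐ[A] A, (Ideal.Quotient.mkₐ A I).comp φ = π := by
  let J := I.map (algebraMap A B)
  have hJ : J ^ 2 = ⊥ := by rw [← Ideal.map_pow, hI, Ideal.map_bot]
  have hspan : Ideal.span ({1} : Set B) = ⊤ := Ideal.span_singleton_one
  have hKB := MorLib.mul_eq_zero_of_isLocalModel hspan (fun a ha => by rwa [Set.mem_singleton_iff.1 ha])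
  have hinj := Module.FaithfullyFlat.tensorProduct_mk_injective (A := A) (B := B) S
  have hK : ∀ x y, π x = 0 → π y = 0 → x * y = 0 := fun x y hx hy => hinj (by
    rw [map_zero]
    apply e.injective
    rw [map_zero]
    change e (1 ⊗ₜ (x * y)) = 0
    rw [show (1 : B) ⊗ₜ[A] (x * y) = (1 ⊗ₜ x) * (1 ⊗ₜ y) by simp, map_mul]
    exact hKB _ _ (by rw [hπ, hx, map_zero]) (by rw [hπ, hy, map_zero]))
  let K := LinearMap.ker π.toLinearMap
  let j : I →ₗ[A] K :=
    ((Algebra.linearMap A S).comp I.subtype).codRestrict K fun a => by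
      rw [LinearMap.mem_ker, AlgHom.toLinearMap_apply, LinearMap.comp_apply,
        Algebra.linearMap_apply, AlgHom.commutes]
      exact Ideal.Quotient.eq_zero_iff_mem.mpr a.2
  have hj : Function.Injective j := by
    rw [← LinearMap.ker_eq_bot, eq_bot_iff]
    intro a ha
    have h0 : algebraMap A S (a : A) = 0 := congrArg Subtype.val ha
    refine Submodule.mem_bot A |>.mpr (Subtype.ext ?_)
    have h1 : algebraMap B SB (algebraMap A B (a : A)) = 0 := by
      rw [← e.commutes, Algebra.TensorProduct.algebraMap_apply, Algebra.algebraMap_self, RingHom.id_apply,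
        Algebra.algebraMap_eq_smul_one, TensorProduct.smul_tmul, ← Algebra.algebraMap_eq_smul_one, h0,
        TensorProduct.tmul_zero, map_zero]
    have h2 := MorLib.algebraMap_eq_zero hJ hm _ (Ideal.mem_map_of_mem _ a.2) h1
    have h3 : algebraMap A B (a : A) = 0 :=
      (IsLocalization.atUnits B (Submonoid.powers (1 : B)) (S := Localization.Away (1 : B))
        (by simp [Submonoid.powers_one, IsUnit.mem_submonoid_iff])).injective (by
        rw [map_zero]
        exact (AlgEquiv.commutes _ (algebraMap A B (a : A))).trans h2)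
    exact FaithfulSMul.algebraMap_injective A B (h3.trans (map_zero _).symm)
  have htor : Module.IsTorsionBySet A (K ⧸ LinearMap.range j) (I : Set A) := by
    intro z a
    obtain ⟨k, rfl⟩ := Submodule.Quotient.mk_surjective _ z
    have : (a : A) • k = 0 := Subtype.ext (by
      rw [Submodule.coe_smul, Algebra.smul_def, Submodule.coe_zero]
      exact hK _ _ ((π.commutes _).trans (Ideal.Quotient.eq_zero_iff_mem.mpr a.2)) k.2)
    rw [← Submodule.Quotient.mk_smul, this, Submodule.Quotient.mk_zero]
  let : Module (A ⧸ I) (K ⧸ LinearMap.range j) := htor.module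
  have : IsScalarTower A (A ⧸ I) (K ⧸ LinearMap.range j) := htor.isScalarTower
  -- the kernel after base change
  let i₀ : B ⊗[A] K →ₗ[B] SB := e.toLinearEquiv.toLinearMap ∘ₗ K.subtype.baseChange B
  have hi₀ : ∀ b k, i₀ (b ⊗ₜ k) = e (b ⊗ₜ (k : S)) := fun b k => rfl
  let i : B ⊗[A] K →ₗ[B] LinearMap.ker πB.toLinearMap := i₀.codRestrict _ fun z => by
    induction z using TensorProduct.induction_on with
    | zero => simp
    | add x y hx hy => rw [map_add]; exact add_mem hx hy
    | tmul b k =>
      change πB (i₀ (b ⊗ₜ k)) = 0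
      have : b ⊗ₜ[A] (k : S) = b • ((1 : B) ⊗ₜ[A] (k : S)) := by
        rw [TensorProduct.smul_tmul', smul_eq_mul, mul_one]
      rw [hi₀, this, map_smul, map_smul, hπ, show π (k : S) = 0 from k.2, map_zero, smul_zero]
  have hiInj : Function.Injective i := fun x y h => by
    have h' : i₀ x = i₀ y := congrArg Subtype.val h
    exact Module.Flat.lTensor_preserves_injective_linearMap (M := B) K.subtype Subtype.val_injective
      (e.injective h')
  have hideal : ∀ b ∈ J, ∃ y, i₀ y = algebraMap B SB b ∧
      y ∈ LinearMap.range (j.baseChange B) := by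
    let T : Ideal B := Submodule.map (((TensorProduct.AlgebraTensorModule.rid A B B).toLinearMap) ∘ₗ
      I.subtype.baseChange B) ⊤
    have hT : J ≤ T := Ideal.map_le_iff_le_comap.2 fun a ha =>
      Submodule.mem_map.2 ⟨1 ⊗ₜ ⟨a, ha⟩, trivial, by simp [Algebra.algebraMap_eq_smul_one]⟩
    intro b hb
    obtain ⟨z, -, rfl⟩ := Submodule.mem_map.1 (hT hb)
    refine ⟨j.baseChange B z, ?_, ⟨z, rfl⟩⟩
    clear hb
    induction z using TensorProduct.induction_on with
    | zero => simp
    | add x y hx hy =>
      simp only [map_add, hx, hy]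
    | tmul c a =>
      change e (c ⊗ₜ algebraMap A S (a : A)) = algebraMap B SB ((a : A) • c)
      rw [← e.commutes, Algebra.TensorProduct.algebraMap_apply, Algebra.algebraMap_self, RingHom.id_apply,
        Algebra.algebraMap_eq_smul_one, TensorProduct.tmul_smul, TensorProduct.smul_tmul']
  have hiSurj : Function.Surjective i := by
    rintro ⟨x, hx⟩
    obtain ⟨z, rfl⟩ := e.surjective x
    suffices ∀ z, ∃ (y : B ⊗[A] K) (b : B), e z = i₀ y + algebraMap B SB b by
      obtain ⟨y, b, hyb⟩ := this z
      have hb : b ∈ J := by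
        have : πB (e z) = 0 := hx
        rw [hyb, map_add, show πB (i₀ y) = 0 from (i y).2, zero_add, AlgHom.commutes] at this
        exact Ideal.Quotient.eq_zero_iff_mem.1 this
      obtain ⟨y', hy', -⟩ := hideal b hb
      exact ⟨y + y', Subtype.ext (show i₀ (y + y') = e z by rw [map_add, hy', hyb])⟩
    intro z
    induction z using TensorProduct.induction_on with
    | zero => exact ⟨0, 0, by simp⟩
    | add x y hx hy =>
      obtain ⟨y₁, b₁, h₁⟩ := hx
      obtain ⟨y₂, b₂, h₂⟩ := hy
      exact ⟨y₁ + y₂, b₁ + b₂, by rw [map_add, h₁, h₂, map_add, map_add]; abel⟩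
    | tmul c s =>
      obtain ⟨a, ha⟩ := Ideal.Quotient.mk_surjective (π s)
      have hk : s - algebraMap A S a ∈ K := by
        change π (s - algebraMap A S a) = 0
        rw [map_sub, AlgHom.commutes, Ideal.Quotient.algebraMap_eq, ha, sub_self]
      refine ⟨c ⊗ₜ ⟨_, hk⟩, a • c, ?_⟩
      rw [hi₀, ← e.commutes, ← map_add, Algebra.TensorProduct.algebraMap_apply, Algebra.algebraMap_self,
        RingHom.id_apply, TensorProduct.smul_tmul, ← Algebra.algebraMap_eq_smul_one, ← TensorProduct.tmul_add,
        sub_add_cancel]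
  let iE := LinearEquiv.ofBijective i ⟨hiInj, hiSurj⟩
  -- projectivity of the quotient
  let : Algebra (A ⧸ I) (B ⧸ J) := (quotToQuot I B).toRingHom.toAlgebra
  have : IsScalarTower A (A ⧸ I) (B ⧸ J) :=
    IsScalarTower.of_algebraMap_eq fun a => ((quotToQuot I B).commutes a).symm
  have : Module.FaithfullyFlat (A ⧸ I) (B ⧸ J) := by
    let ε : (B ⧸ J) ≃ₗ[A] ((A ⧸ I) ⊗[A] B) :=
      ((Algebra.TensorProduct.quotIdealMapEquivTensorQuot B I).toLinearEquiv.restrictScalars A).trans
        (TensorProduct.comm A B (A ⧸ I))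
    exact Module.FaithfullyFlat.of_linearEquiv (A ⧸ I) ((A ⧸ I) ⊗[A] B)
      (ε.extendScalarsOfSurjective Ideal.Quotient.mk_surjective)
  have : Module.Projective (B ⧸ J) ((B ⧸ J) ⊗[A ⧸ I] (K ⧸ LinearMap.range j)) := by
    refine Module.Projective.of_lifting_property fun {M N} _ _ _ _ f g hf => ?_
    let : Module B M := Module.compHom M (algebraMap B (B ⧸ J))
    have : IsScalarTower B (B ⧸ J) M := IsScalarTower.of_algebraMap_smul fun _ _ => rfl
    let : Module B N := Module.compHom N (algebraMap B (B ⧸ J))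
    have : IsScalarTower B (B ⧸ J) N := IsScalarTower.of_algebraMap_smul fun _ _ => rfl
    let : Module A M := Module.compHom M (algebraMap A (B ⧸ J))
    have : IsScalarTower A (B ⧸ J) M := IsScalarTower.of_algebraMap_smul fun _ _ => rfl
    have : IsScalarTower A B M := IsScalarTower.of_algebraMap_smul fun _ _ => rfl
    let : Module A N := Module.compHom N (algebraMap A (B ⧸ J))
    have : IsScalarTower A (B ⧸ J) N := IsScalarTower.of_algebraMap_smul fun _ _ => rfl
    have : IsScalarTower A B N := IsScalarTower.of_algebraMap_smul fun _ _ => rfl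
    let : Module (A ⧸ I) M := Module.compHom M (algebraMap (A ⧸ I) (B ⧸ J))
    have : IsScalarTower (A ⧸ I) (B ⧸ J) M := IsScalarTower.of_algebraMap_smul fun _ _ => rfl
    have : IsScalarTower A (A ⧸ I) M := IsScalarTower.of_algebraMap_smul fun r m =>
      congrArg (fun c : B ⧸ J => c • m) (IsScalarTower.algebraMap_apply A (A ⧸ I) (B ⧸ J) r).symm
    let g₀ : K ⧸ LinearMap.range j →ₗ[A] N :=
      (g.restrictScalars A) ∘ₗ ((TensorProduct.mk (A ⧸ I) (B ⧸ J) _ 1).restrictScalars A)
    let G : LinearMap.ker πB.toLinearMap →ₗ[B] N :=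
      (g₀ ∘ₗ (LinearMap.range j).mkQ).liftBaseChange B ∘ₗ iE.symm.toLinearMap
    obtain ⟨k, hk, hk0⟩ := MorLib.exists_lift_kernel hm hKB (C := B ⧸ J) (by rw [map_one]; exact isUnit_one)
      f hf G (fun b hb x hx => by
        obtain ⟨y, hy, z, rfl⟩ := hideal b hb
        have : iE.symm x = j.baseChange B z := by
          rw [LinearEquiv.symm_apply_eq]
          exact Subtype.ext (hx.trans hy.symm)
        change LinearMap.liftBaseChange B (g₀ ∘ₗ (LinearMap.range j).mkQ) (iE.symm x) = 0
        rw [this]
        clear this hy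
        induction z using TensorProduct.induction_on with
        | zero => simp
        | add x y hx hy => rw [map_add, map_add, hx, hy, add_zero]
        | tmul c a =>
          rw [LinearMap.baseChange_tmul, LinearMap.liftBaseChange_tmul, LinearMap.comp_apply,
            (Submodule.mkQ_apply _ _), (Submodule.Quotient.mk_eq_zero (LinearMap.range j)).2 (LinearMap.mem_range_self j a), map_zero, smul_zero])
    let kK : K →ₗ[A] M := (k.restrictScalars A) ∘ₗ (i.restrictScalars A) ∘ₗ (TensorProduct.mk A B K 1)
    let k₀ : K ⧸ LinearMap.range j →ₗ[A] M := Submodule.liftQ _ kK (by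
      rintro _ ⟨a, rfl⟩
      refine hk0 _ (Ideal.mem_map_of_mem _ a.2) _ ?_
      change e (1 ⊗ₜ algebraMap A S (a : A)) = _
      rw [← e.commutes, Algebra.TensorProduct.algebraMap_apply, Algebra.algebraMap_self, RingHom.id_apply,
        Algebra.algebraMap_eq_smul_one, ← TensorProduct.smul_tmul, ← Algebra.algebraMap_eq_smul_one])
    refine ⟨(k₀.extendScalarsOfSurjective Ideal.Quotient.mk_surjective).liftBaseChange (B ⧸ J),
      LinearMap.ext fun x => ?_⟩
    induction x using TensorProduct.induction_on with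
    | zero => rw [map_zero, map_zero]
    | add x y hx hy => rw [map_add, map_add, hx, hy]
    | tmul c q =>
      obtain ⟨q, rfl⟩ := Submodule.Quotient.mk_surjective _ q
      rw [LinearMap.comp_apply, LinearMap.liftBaseChange_tmul, map_smul]
      change c • f (k (i (1 ⊗ₜ q))) = _
      rw [hk]
      change c • LinearMap.liftBaseChange B (g₀ ∘ₗ (LinearMap.range j).mkQ) (iE.symm (iE (1 ⊗ₜ q))) = _
      rw [LinearEquiv.symm_apply_apply, LinearMap.liftBaseChange_tmul, one_smul]
      change c • g ((1 : B ⧸ J) ⊗ₜ Submodule.Quotient.mk q) = _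
      rw [← map_smul, TensorProduct.smul_tmul', smul_eq_mul, mul_one]
  have : Module.Projective (A ⧸ I) (K ⧸ LinearMap.range j) := CAlgUI.projective_descent (S := B ⧸ J)
  have htorK : Module.IsTorsionBySet A K (I : Set A) := fun k a => Subtype.ext (by
    rw [Submodule.coe_smul, Algebra.smul_def, Submodule.coe_zero]
    exact hK _ _ ((π.commutes _).trans (Ideal.Quotient.eq_zero_iff_mem.mpr a.2)) k.2)
  obtain ⟨σ, hσ⟩ := MorLib.exists_section_of_projective I htorK (LinearMap.range j).mkQ
    (Submodule.mkQ_surjective _)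
  let q := (LinearMap.range j).mkQ
  let d : K →ₗ[A] LinearMap.range j :=
    (LinearMap.id - σ ∘ₗ q).codRestrict _ fun k => by
      rw [← Submodule.Quotient.mk_eq_zero]
      change q (k - σ (q k)) = 0
      rw [map_sub, hσ, sub_self]
  let ψ : K →ₗ[A] A := I.subtype ∘ₗ (LinearEquiv.ofInjective j hj).symm.toLinearMap ∘ₗ d
  have hψI : ∀ k, ψ k ∈ I := fun k => ((LinearEquiv.ofInjective j hj).symm (d k)).2
  obtain ⟨φ, hφ⟩ := MorLib.exists_algHom_extend I π hK ψ
    (fun k k' => by
      have := Ideal.mul_mem_mul (hψI k) (hψI k')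
      rwa [← pow_two, hI, Ideal.mem_bot] at this)
    (fun a ha k hk => by
      have h1 : k = j ⟨a, ha⟩ := Subtype.ext hk
      have h2 : q k = 0 := by
        rw [h1]
        exact (Submodule.Quotient.mk_eq_zero _).mpr ⟨_, rfl⟩
      have h3 : d k = LinearEquiv.ofInjective j hj ⟨a, ha⟩ := Subtype.ext (by
        change k - σ (q k) = j ⟨a, ha⟩
        rw [h2, map_zero, sub_zero, h1])
      change ((LinearEquiv.ofInjective j hj).symm (d k)).1 = a
      rw [h3, LinearEquiv.symm_apply_apply])
  refine ⟨φ, AlgHom.ext fun s => ?_⟩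
  obtain ⟨a, ha⟩ := Ideal.Quotient.mk_surjective (π s)
  have hk : s - algebraMap A S a ∈ K := by
    change π (s - algebraMap A S a) = 0
    rw [map_sub, AlgHom.commutes, Ideal.Quotient.algebraMap_eq, ha, sub_self]
  have hs : algebraMap A S a + (⟨_, hk⟩ : K) = s := add_sub_cancel _ _
  conv_lhs => rw [← hs]
  change Ideal.Quotient.mk I (φ _) = π s
  rw [hφ, Algebra.algebraMap_self, RingHom.id_apply, map_add,
    Ideal.Quotient.eq_zero_iff_mem.mpr (hψI _), add_zero, ha]

end Groth.Agent.Dsp6
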