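import Groth.Agent.Dsp6.FSDescAlg
import Groth.Agent.AlgSpLib.Sheaf
import Groth.Prelude.Def_AlgSpInf
import Mathlib.RingTheory.IsTensorProduct

/-!
# Affine schemes over the base of an infinitesimal lifting problem
-/

set_option autoImplicit false
set_option maxHeartbeats 400000
set_option backward.isDefEq.respectTransparency false
set_option backward.isDefEq.respectTransparency.types false

universe u

open CategoryTheory Limits Opposite AlgebraicGeometry AlgSp Groth.Agent.AlgSpLib
open scoped TensorProduct

namespace Groth.Agent.Dsp6.FSDesc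

variable {S : Scheme.{u}} {A : Type u} [CommRing A] (str : Spec (CommRingCat.of A) ⟶ S)

/-- An `A`-algebra as a scheme over `S`. -/
noncomputable abbrev pt (R : Type u) [CommRing R] [Algebra A R] : Over S :=
  Over.mk (Spec.map (CommRingCat.ofHom (algebraMap A R)) ≫ str)

/-- An algebra map as a morphism over `S`. -/
noncomputable def sp {R R' : Type u} [CommRing R] [Algebra A R] [CommRing R'] [Algebra A R'] (f : R →ₐ[A] R') :
    pt str R' ⟶ pt str R :=
  Over.homMk (Spec.map (CommRingCat.ofHom f.toRingHom)) (by
    change _ ≫ Spec.map _ ≫ str = Spec.map _ ≫ str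
    rw [← Spec.map_comp_assoc]
    congr 2
    ext r
    exact f.commutes r)

/-- The map to the base. -/
noncomputable def base (R : Type u) [CommRing R] [Algebra A R] : pt str R ⟶ Over.mk str :=
  Over.homMk (Spec.map (CommRingCat.ofHom (algebraMap A R))) rfl

variable {R R' R'' : Type u} [CommRing R] [Algebra A R] [CommRing R'] [Algebra A R'] [CommRing R''] [Algebra A R'']

theorem sp_comp (f : R →ₐ[A] R') (g : R' →ₐ[A] R'') : sp str g ≫ sp str f = sp str (g.comp f) :=
  Over.OverMorphism.ext (by
    change Spec.map _ ≫ Spec.map _ = Spec.map _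
    rw [← Spec.map_comp]; rfl)

theorem sp_id : sp str (AlgHom.id A R) = 𝟙 _ :=
  Over.OverMorphism.ext (by
    change Spec.map _ = 𝟙 _
    exact Spec.map_id _)

theorem sp_base (f : R →ₐ[A] R') : sp str f ≫ base str R = base str R' :=
  Over.OverMorphism.ext (by
    change Spec.map _ ≫ Spec.map _ = Spec.map _
    rw [← Spec.map_comp]
    congr 1
    ext r
    exact f.commutes r)

/-- The pullback along an algebra map. -/
noncomputable abbrev Y (f : R →ₐ[A] R') : (yon S).obj (pt str R') ⟶ (yon S).obj (pt str R) :=
  (yon S).map (sp str f)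

theorem Y_comp {F : Sp S} (f : R →ₐ[A] R') (g : R' →ₐ[A] R'') (x : (yon S).obj (pt str R) ⟶ F) :
    Y str g ≫ Y str f ≫ x = Y str (g.comp f) ≫ x := by
  rw [← Category.assoc, ← Functor.map_comp, sp_comp]

theorem Y_id {F : Sp S} (x : (yon S).obj (pt str R) ⟶ F) : Y str (AlgHom.id A R) ≫ x = x := by
  rw [show Y str (AlgHom.id A R) = 𝟙 _ by rw [Y, sp_id, (yon S).map_id], Category.id_comp]

theorem Y_base {F : Sp S} (f : R →ₐ[A] R') (x : (yon S).obj (Over.mk str) ⟶ F) :
    Y str f ≫ (yon S).map (base str R) ≫ x = (yon S).map (base str R') ≫ x := by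
  rw [← Category.assoc, ← Functor.map_comp, sp_base]

/-- The square of quotients of a ring map is a pushout. -/
theorem isPushout_quot (I : Ideal A) (B : Type u) [CommRing B] [Algebra A B] :
    IsPushout (CommRingCat.ofHom (algebraMap A (A ⧸ I))) (CommRingCat.ofHom (algebraMap A B))
      (CommRingCat.ofHom (quotToQuot I B).toRingHom) (CommRingCat.ofHom (Ideal.Quotient.mk (I.map (algebraMap A B)))) := by
  refine (CommRingCat.isPushout_tensorProduct A (A ⧸ I) B).of_iso (Iso.refl _) (Iso.refl _) (Iso.refl _)
    (((Algebra.TensorProduct.comm A (A ⧸ I) B).toRingEquiv.trans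
      (Algebra.TensorProduct.quotIdealMapEquivTensorQuot B I).symm.toRingEquiv).toCommRingCatIso)
    (by simp) (by simp) ?_ ?_
  · refine CommRingCat.hom_ext (Ideal.Quotient.ringHom_ext (RingHom.ext fun a => ?_))
    change (Algebra.TensorProduct.quotIdealMapEquivTensorQuot B I).symm
      (Algebra.TensorProduct.comm A (A ⧸ I) B (Ideal.Quotient.mk I a ⊗ₜ (1 : B))) = _
    rw [Algebra.TensorProduct.comm_tmul, AlgEquiv.symm_apply_eq]
    change _ = (Algebra.TensorProduct.quotIdealMapEquivTensorQuot B I) (Ideal.Quotient.mk _ (algebraMap A B a))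
    rw [Algebra.TensorProduct.quotIdealMapEquivTensorQuot_mk, Algebra.algebraMap_eq_smul_one,
      TensorProduct.smul_tmul]
    congr 1
    simp [Algebra.smul_def]
  · refine CommRingCat.hom_ext (RingHom.ext fun x => ?_)
    change (Algebra.TensorProduct.quotIdealMapEquivTensorQuot B I).symm
      (Algebra.TensorProduct.comm A (A ⧸ I) B ((1 : A ⧸ I) ⊗ₜ x)) = _
    rw [Algebra.TensorProduct.comm_tmul, AlgEquiv.symm_apply_eq]
    simp [Algebra.TensorProduct.quotIdealMapEquivTensorQuot_mk]

/-- The fibre product of two affine schemes over the base. -/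
theorem isPullback_sp (R R' : Type u) [CommRing R] [Algebra A R] [CommRing R'] [Algebra A R'] :
    IsPullback (sp str (Algebra.TensorProduct.includeLeft : R →ₐ[A] R ⊗[A] R'))
      (sp str (Algebra.TensorProduct.includeRight : R' →ₐ[A] R ⊗[A] R')) (base str R) (base str R') :=
  IsPullback.of_map (Over.forget S) (by rw [sp_base, sp_base])
    (isPullback_SpecMap_of_isPushout _ _ _ _ (CommRingCat.isPushout_tensorProduct A R R'))

end Groth.Agent.Dsp6.FSDesc
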