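import Groth.Agent.Dsp6.FSDescBase

/-!
# The first order neighbourhood of a lift on a formally smooth chart
-/

set_option autoImplicit false
set_option maxHeartbeats 400000
set_option backward.isDefEq.respectTransparency false
set_option backward.isDefEq.respectTransparency.types false

universe u

open CategoryTheory Limits Opposite AlgebraicGeometry AlgSp Groth.Agent.AlgSpLib
open scoped TensorProduct

namespace Groth.Agent.Dsp6.FSDesc

variable {S : Scheme.{u}} {A : Type u} [CommRing A] (str : Spec (CommRingCat.of A) ⟶ S)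
variable {B C : Type u} [CommRing B] [Algebra A B] [CommRing C] [Algebra A C]

/-- A first order neighbourhood `u : Spec SB ⟶ G` of the given lift over `Spec (B ⧸ I B)`, universal among the
infinitesimal lifts over `B`-algebras. -/
structure Nbhd (I : Ideal A) (B : Type u) [CommRing B] [Algebra A B] {G H : Sp S} (b : G ⟶ H)
    (bot : (yon S).obj (Over.mk str) ⟶ H) (top : (yon S).obj (pt str (A ⧸ I)) ⟶ G)
    (SB : Type u) [CommRing SB] [Algebra B SB] [Algebra A SB] [IsScalarTower A B SB] where
  /-- the augmentation -/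
  π : SB →ₐ[B] B ⧸ I.map (algebraMap A B)
  /-- the map to `G` -/
  u : (yon S).obj (pt str SB) ⟶ G
  u_base : u ≫ b = (yon S).map (base str SB) ≫ bot
  u_top : Y str (π.restrictScalars A) ≫ u = Y str (quotToQuot I B) ≫ top
  surj : Function.Surjective π
  sq_zero : RingHom.ker (π.restrictScalars A) ^ 2 = ⊥
  localModel : MorLib.IsLocalModel (I.map (algebraMap A B)) π 1
  univ : ∀ (R : Type u) [CommRing R] [Algebra A R] (β : B →ₐ[A] R) (R' : Type u) [CommRing R']
      [Algebra A R'] (f : R →ₐ[A] R'), Function.Surjective f → RingHom.ker f ^ 2 = ⊥ →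
      ∀ (g : B ⧸ I.map (algebraMap A B) →ₐ[A] R'),
      g.comp (Ideal.Quotient.mkₐ A (I.map (algebraMap A B))) = f.comp β →
      ∀ (x : (yon S).obj (pt str R) ⟶ G), x ≫ b = (yon S).map (base str R) ≫ bot →
        Y str f ≫ x = Y str (g.comp (quotToQuot I B)) ≫ top →
        ∃! F : SB →ₐ[A] R, F.comp (IsScalarTower.toAlgHom A B SB) = β ∧
          f.comp F = g.comp (π.restrictScalars A) ∧ Y str F ≫ u = x

variable {str}

/-- A formally smooth chart, etale over `G`, gives a first order neighbourhood. -/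
theorem exists_nbhd {G H : Sp S} {b : G ⟶ H} {I : Ideal A}
    {bot : (yon S).obj (Over.mk str) ⟶ H} {top : (yon S).obj (pt str (A ⧸ I)) ⟶ G}
    [Algebra.FormallySmooth A C]
    (c : (yon S).obj (pt str C) ⟶ G) (hc : c ≫ b = (yon S).map (base str C) ≫ bot)
    (huniq : ∀ (R R' : Type u) [CommRing R] [Algebra A R] [CommRing R'] [Algebra A R'] (f : R →ₐ[A] R'),
      Function.Surjective f → RingHom.ker f ^ 2 = ⊥ →
      ∀ (g : C →ₐ[A] R') (x : (yon S).obj (pt str R) ⟶ G),
        x ≫ b = (yon S).map (base str R) ≫ bot → Y str f ≫ x = Y str g ≫ c →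
        ∃! h : C →ₐ[A] R, f.comp h = g ∧ Y str h ≫ c = x)
    (m₀ : C →ₐ[A] B ⧸ I.map (algebraMap A B))
    (hm₀ : Y str m₀ ≫ c = Y str (quotToQuot I B) ≫ top) :
    ∃ (SB : Type u) (_ : CommRing SB) (_ : Algebra B SB) (_ : Algebra A SB) (_ : IsScalarTower A B SB),
      Nonempty (Nbhd str I B b bot top SB) := by
  let J := I.map (algebraMap A B)
  let π' : B ⊗[A] C →ₐ[B] B ⧸ J :=
    Algebra.TensorProduct.lift (Algebra.ofId B _) m₀ (fun _ _ => Commute.all _ _)
  let K₂ : Ideal (B ⊗[A] C) := RingHom.ker π' ^ 2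
  have hK₂ : K₂ ≤ RingHom.ker π' := Ideal.pow_le_self two_ne_zero
  let SB := (B ⊗[A] C) ⧸ K₂
  let mkS : B ⊗[A] C →ₐ[B] SB := Ideal.Quotient.mkₐ B K₂
  have hmkS : Function.Surjective mkS := Ideal.Quotient.mk_surjective
  let πS : SB →ₐ[B] B ⧸ J := Ideal.Quotient.liftₐ K₂ π' fun x hx => hK₂ hx
  let πA : SB →ₐ[A] B ⧸ J := πS.restrictScalars A
  let βS : B →ₐ[A] SB := IsScalarTower.toAlgHom A B SB
  let mC : C →ₐ[A] SB := (mkS.restrictScalars A).comp Algebra.TensorProduct.includeRight
  have hπmC : πA.comp mC = m₀ := AlgHom.ext fun x => by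
    show π' (1 ⊗ₜ x) = _
    rw [Algebra.TensorProduct.lift_tmul, map_one, one_mul]
  have hπsurj : Function.Surjective πA := fun z => by
    obtain ⟨b', rfl⟩ := Ideal.Quotient.mk_surjective z
    exact ⟨algebraMap B SB b', πS.commutes b'⟩
  have hπsq : RingHom.ker πA ^ 2 = ⊥ := by
    have : RingHom.ker πA = (RingHom.ker π').map mkS := by
      refine le_antisymm (fun x hx => ?_) (Ideal.map_le_iff_le_comap.2 fun x hx => hx)
      obtain ⟨x, rfl⟩ := hmkS x
      exact Ideal.mem_map_of_mem _ hx
    rw [this, ← Ideal.map_pow, eq_bot_iff, Ideal.map_le_iff_le_comap]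
    intro x hx
    exact Ideal.Quotient.eq_zero_iff_mem.2 hx
  let u : (yon S).obj (pt str SB) ⟶ G := Y str mC ≫ c
  have hub : ∀ {R : Type u} [CommRing R] [Algebra A R] (F : SB →ₐ[A] R),
      (Y str F ≫ u) ≫ b = (yon S).map (base str R) ≫ bot := fun F => by
    simp only [u, Category.assoc, hc, Y_base]
  refine ⟨SB, inferInstance, inferInstance, inferInstance, inferInstance,
    ⟨⟨πS, u, by simp only [u, Category.assoc, hc, Y_base], ?_, hπsurj, hπsq, ?_, ?_⟩⟩⟩
  · simp only [u, Y_comp]
    rw [show (πS.restrictScalars A).comp mC = m₀ from hπmC, hm₀]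
  · have hu1 : IsUnit (algebraMap B SB (1 : B)) := by rw [map_one]; exact isUnit_one
    let eS := IsLocalization.atUnits SB (Submonoid.powers (algebraMap B SB (1 : B)))
      (S := Localization.Away (algebraMap B SB (1 : B))) (by
        rintro _ ⟨n, rfl⟩
        exact hu1.pow n)
    refine ⟨B ⊗[A] C, inferInstance, inferInstance, inferInstance, (eS.toAlgHom.restrictScalars B).comp mkS,
      eS.surjective.comp hmkS, ?_⟩
    have h1 : Ideal.comap ((eS.toAlgHom.restrictScalars B).comp mkS)
        (Ideal.map (algebraMap SB _) (RingHom.ker πS)) = RingHom.ker π' := by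
      ext x
      rw [Ideal.mem_comap, show algebraMap SB (Localization.Away (algebraMap B SB (1 : B))) =
        eS.toRingEquiv.toRingHom from RingHom.ext fun z => (eS.commutes z).symm]
      rw [Ideal.mem_map_iff_of_surjective eS.toRingEquiv.toRingHom eS.surjective]
      constructor
      · rintro ⟨y, hy, hyx⟩
        rw [show y = mkS x from eS.injective hyx] at hy
        exact hy
      · exact fun hx => ⟨mkS x, hx, rfl⟩
    rw [h1]
    ext x
    rw [RingHom.mem_ker]
    exact (map_eq_zero_iff eS eS.injective).trans Ideal.Quotient.eq_zero_iff_mem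
  · intro R _ _ β R' _ _ f hf hf2 g hg x hxb hx
    obtain ⟨h, ⟨hh₁, hh₂⟩, hh⟩ := huniq R R' f hf hf2 (g.comp m₀) x hxb (by
      rw [← Y_comp, hm₀, Y_comp, hx])
    let F' : B ⊗[A] C →ₐ[A] R := Algebra.TensorProduct.lift β h (fun _ _ => Commute.all _ _)
    have hF' : f.comp F' = g.comp (π'.restrictScalars A) := by
      refine Algebra.TensorProduct.ext ?_ ?_
      · refine AlgHom.ext fun y => ?_
        show f (F' (y ⊗ₜ 1)) = g (π' (y ⊗ₜ 1))
        rw [Algebra.TensorProduct.lift_tmul, Algebra.TensorProduct.lift_tmul, map_one, map_one, mul_one, mul_one]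
        exact (congrArg (fun q => q y) hg).symm
      · refine AlgHom.ext fun y => ?_
        show f (F' (1 ⊗ₜ y)) = g (π' (1 ⊗ₜ y))
        rw [Algebra.TensorProduct.lift_tmul, Algebra.TensorProduct.lift_tmul, map_one, map_one, one_mul, one_mul]
        exact congrArg (fun q => q y) hh₁
    have hK : K₂ ≤ RingHom.ker F' := by
      rw [← Ideal.map_eq_bot_iff_le_ker, Ideal.map_pow, eq_bot_iff, ← hf2]
      refine Ideal.pow_right_mono (Ideal.map_le_iff_le_comap.2 fun y hy => ?_) 2
      rw [Ideal.mem_comap, RingHom.mem_ker]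
      exact ((congrArg (fun q => q y) hF').trans (congrArg g hy)).trans (map_zero g)
    let F : SB →ₐ[A] R := Ideal.Quotient.liftₐ K₂ F' fun y hy => hK hy
    have hFC : F.comp mC = h := AlgHom.ext fun y => by
      show F' (1 ⊗ₜ y) = _
      rw [Algebra.TensorProduct.lift_tmul, map_one, one_mul]
    refine ⟨F, ⟨AlgHom.ext fun y => ?_, AlgHom.ext fun y => ?_, ?_⟩, fun F₁ hF₁ => ?_⟩
    · show F' (algebraMap B (B ⊗[A] C) y) = _
      rw [Algebra.TensorProduct.algebraMap_apply, Algebra.algebraMap_self, RingHom.id_apply,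
        Algebra.TensorProduct.lift_tmul, map_one, mul_one]
    · obtain ⟨y, rfl⟩ := hmkS y
      exact congrArg (fun q => q y) hF'
    · rw [Y_comp, hFC, hh₂]
    · obtain ⟨h₁, h₂, h₃⟩ := hF₁
      have hC : F₁.comp mC = h := by
        refine hh _ ⟨?_, ?_⟩
        · rw [← AlgHom.comp_assoc, h₂, AlgHom.comp_assoc, hπmC]
        · rw [← h₃, Y_comp]
      refine Ideal.Quotient.algHom_ext A (Algebra.TensorProduct.ext ?_ ?_)
      · refine AlgHom.ext fun y => ?_
        have := congrArg (fun q => q y) h₁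
        show F₁ (mkS (y ⊗ₜ 1)) = F' (y ⊗ₜ 1)
        rw [Algebra.TensorProduct.lift_tmul, map_one, mul_one, ← this]
        show _ = F₁ (algebraMap B SB y)
        rw [show algebraMap B SB y = mkS (algebraMap B (B ⊗[A] C) y) from (mkS.commutes y).symm,
          Algebra.TensorProduct.algebraMap_apply, Algebra.algebraMap_self, RingHom.id_apply]
      · refine AlgHom.ext fun y => ?_
        show F₁ (mC y) = F' (1 ⊗ₜ y)
        rw [Algebra.TensorProduct.lift_tmul, map_one, one_mul, ← hC, AlgHom.comp_apply]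
        rfl

end Groth.Agent.Dsp6.FSDesc
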