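import Groth.Agent.Dsp6.FSDescAlg
import Groth.Agent.AlgSpDec.AffineDescent
import Mathlib.RingTheory.TensorProduct.IncludeLeftSubRight

/-!
# Sections compatible with a descent datum
-/

set_option autoImplicit false
set_option maxHeartbeats 400000
set_option backward.isDefEq.respectTransparency false
set_option backward.isDefEq.respectTransparency.types false

universe u

open CategoryTheory Limits Opposite AlgebraicGeometry AlgSp Groth.Agent.AlgSpLib
open scoped TensorProduct

namespace Groth.Agent.Dsp6.FSDesc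

variable {A : Type u} [CommRing A] {B : Type u} [CommRing B] [Algebra A B]

/-- A first order neighbourhood with descent datum has a section compatible with the datum. -/
theorem exists_compatible_section [Module.FaithfullyFlat A B] {I : Ideal A} (hI : I ^ 2 = ⊥)
    {SB : Type u} [CommRing SB] [Algebra B SB] [Algebra A SB] [IsScalarTower A B SB]
    (πS : SB →ₐ[B] B ⧸ I.map (algebraMap A B)) (hm : MorLib.IsLocalModel (I.map (algebraMap A B)) πS 1)
    (α : SB →ₐ[A] SB ⊗[A] B) (hα₁ : ∀ y, α (algebraMap B SB y) = 1 ⊗ₜ y)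
    (hα₂ : ∀ y z, πS y = Ideal.Quotient.mk (I.map (algebraMap A B)) z →
      Algebra.TensorProduct.map (πS.restrictScalars A) (AlgHom.id A B) (α y) = 1 ⊗ₜ z)
    (hcounit : ∀ y, Algebra.TensorProduct.lift (AlgHom.id A SB) (IsScalarTower.toAlgHom A B SB)
      (fun _ _ => Commute.all _ _) (α y) = y)
    (hcoassoc : (Algebra.TensorProduct.map α (AlgHom.id A B)).comp α =
      (Algebra.TensorProduct.map (Algebra.TensorProduct.includeLeft : SB →ₐ[A] SB ⊗[A] B) (AlgHom.id A B)).comp α) :
    ∃ hB : SB →ₐ[B] B, (Algebra.TensorProduct.map (hB.restrictScalars A) (AlgHom.id A B)).comp α =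
        (Algebra.TensorProduct.includeRight : B →ₐ[A] B ⊗[A] B).comp (hB.restrictScalars A) ∧
      (Ideal.Quotient.mkₐ B (I.map (algebraMap A B))).comp hB = πS := by
  let J := I.map (algebraMap A B)
  let πA : SB →ₐ[A] B ⧸ J := πS.restrictScalars A
  let βS : B →ₐ[A] SB := IsScalarTower.toAlgHom A B SB
  let S₀ := AlgSpDec.descentInv α
  let L : B ⊗[A] S₀ →ₐ[B] SB :=
    Algebra.TensorProduct.lift (Algebra.ofId B SB) S₀.val (fun _ _ => Commute.all _ _)
  have hL : Function.Bijective L := by
    have h1 := AlgSpDec.bijective_descent βS α hα₁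
      hcounit (fun a => congrArg (fun q => q a) hcoassoc)
    have h2 : (L : B ⊗[A] S₀ → SB) = (Algebra.TensorProduct.lift S₀.val βS (fun _ _ => Commute.all _ _)) ∘
        (TensorProduct.comm A B S₀) := funext fun z => by
      induction z using TensorProduct.induction_on with
      | zero => simp
      | add x y hx hy => simp only [map_add, Function.comp_apply] at hx hy ⊢; rw [hx, hy]
      | tmul x y => simp [L, βS, mul_comm]
    rw [h2]
    exact h1.comp (TensorProduct.comm A B S₀).bijective
  let e : B ⊗[A] S₀ ≃ₐ[B] SB := AlgEquiv.ofBijective L hL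
  have he : ∀ s : S₀, e (1 ⊗ₜ s) = (s : SB) := fun s => by simp [e, L]
  -- the augmentation
  let gB := quotToQuot I B
  have hgB : Function.Injective gB := by
    rw [injective_iff_map_eq_zero]
    intro z hz
    obtain ⟨a, rfl⟩ := Ideal.Quotient.mk_surjective z
    rw [quotToQuot_mk, Ideal.Quotient.eq_zero_iff_mem, ← Ideal.mem_comap,
      Ideal.comap_map_eq_self_of_faithfullyFlat] at hz
    exact Ideal.Quotient.eq_zero_iff_mem.2 hz
  let : Algebra (A ⧸ I) (B ⧸ J) := gB.toRingHom.toAlgebra
  have : IsScalarTower A (A ⧸ I) (B ⧸ J) := IsScalarTower.of_algebraMap_eq fun a => (gB.commutes a).symm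
  have : Module.FaithfullyFlat (A ⧸ I) (B ⧸ J) := by
    let ε : (B ⧸ J) ≃ₗ[A] ((A ⧸ I) ⊗[A] B) :=
      ((Algebra.TensorProduct.quotIdealMapEquivTensorQuot B I).toLinearEquiv.restrictScalars A).trans
        (TensorProduct.comm A B (A ⧸ I))
    exact Module.FaithfullyFlat.of_linearEquiv (A ⧸ I) ((A ⧸ I) ⊗[A] B)
      (ε.extendScalarsOfSurjective Ideal.Quotient.mk_surjective)
  have hrange : ∀ s : S₀, πA (s : SB) ∈ gB.range := fun s => by
    obtain ⟨y, hy⟩ := Ideal.Quotient.mk_surjective (πA (s : SB))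
    have h1 : (1 : B ⧸ J) ⊗ₜ[A] y = πA (s : SB) ⊗ₜ (1 : B) := by
      rw [← hα₂ (s : SB) y hy.symm, show α (s : SB) = (s : SB) ⊗ₜ (1 : B) from s.2]
      simp [πA]
      rfl
    rw [← hy] at h1 ⊢
    let ν : (B ⧸ J) ⊗[A] B →ₐ[A] (B ⧸ J) ⊗[A ⧸ I] (B ⧸ J) :=
      Algebra.TensorProduct.lift Algebra.TensorProduct.includeLeft
        (((Algebra.TensorProduct.includeRight : B ⧸ J →ₐ[A ⧸ I] _).restrictScalars A).comp (Ideal.Quotient.mkₐ A J))
        (fun _ _ => Commute.all _ _)
    have h2 := congrArg ν h1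
    have h3 := (Algebra.IsEffective.of_faithfullyFlat (A ⧸ I) (B ⧸ J)).eqLocus_includeLeft_includeRight
    obtain ⟨r, hr⟩ := (Set.ext_iff.1 h3 (Ideal.Quotient.mk J y)).1 (by
      simpa [ν] using h2.symm)
    exact ⟨r, hr⟩
  let π₀ : S₀ →ₐ[A] A ⧸ I :=
    (AlgEquiv.ofInjective gB hgB).symm.toAlgHom.comp ((πA.comp S₀.val).codRestrict gB.range hrange)
  have hπ₀ : ∀ s, gB (π₀ s) = πA (s : SB) := fun s =>
    congrArg Subtype.val ((AlgEquiv.ofInjective gB hgB).apply_symm_apply ⟨_, hrange s⟩)
  obtain ⟨φ, hφ⟩ := exists_algHom_section_descend hI π₀ e πS (fun s => by rw [he]; exact (hπ₀ s).symm) hm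
  let hB : SB →ₐ[B] B :=
    (Algebra.TensorProduct.lift (AlgHom.id B B) ((Algebra.ofId A B).comp φ)
      (fun _ _ => Commute.all _ _)).comp e.symm.toAlgHom
  have hBe : ∀ x (s : S₀), hB (e (x ⊗ₜ s)) = x * algebraMap A B (φ s) := fun x s => by
    simp [hB, Algebra.ofId_apply]
  have hx : ∀ x (s : S₀), e (x ⊗ₜ[A] s) = algebraMap B SB x * (s : SB) := fun x s => by
    simp [e, L, Algebra.ofId_apply]
  refine ⟨hB, AlgHom.ext fun y => ?_, AlgHom.ext fun y => ?_⟩
  · obtain ⟨z, rfl⟩ := e.surjective y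
    induction z using TensorProduct.induction_on with
    | zero => simp
    | add x y hx hy => rw [map_add e x y, map_add, map_add, hx, hy]
    | tmul x s =>
      rw [AlgHom.comp_apply, AlgHom.comp_apply, AlgHom.restrictScalars_apply, hBe, hx, map_mul, hα₁,
        show α (s : SB) = (s : SB) ⊗ₜ (1 : B) from s.2, map_mul,
        Algebra.TensorProduct.map_tmul, Algebra.TensorProduct.map_tmul, map_one, map_one,
        Algebra.TensorProduct.tmul_mul_tmul, one_mul, mul_one, AlgHom.restrictScalars_apply,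
        show hB (s : SB) = algebraMap A B (φ s) by rw [← he, hBe, one_mul]]
      simp [Algebra.algebraMap_eq_smul_one, TensorProduct.smul_tmul]
  · obtain ⟨z, rfl⟩ := e.surjective y
    induction z using TensorProduct.induction_on with
    | zero => simp
    | add x y hx hy => rw [map_add e x y, map_add, map_add, hx, hy]
    | tmul x s =>
      rw [AlgHom.comp_apply, hBe, hx, map_mul, map_mul, AlgHom.commutes,
        show πS (s : SB) = πA (s : SB) from rfl, ← hπ₀,
        ← show Ideal.Quotient.mk I (φ s) = π₀ s from congrArg (fun q => q s) hφ]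
      rfl

end Groth.Agent.Dsp6.FSDesc
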