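import Groth.Agent.Dsp6.FSDescDatum
import Groth.Agent.Dsp6.FSDescSect
import Groth.Agent.AlgSpDec.LqfSplitZ

/-!
# Descending infinitesimal lifts along an etale covering with a formally smooth chart
-/

set_option autoImplicit false
set_option maxHeartbeats 400000
set_option backward.isDefEq.respectTransparency false
set_option backward.isDefEq.respectTransparency.types false

universe u

open CategoryTheory Limits Opposite AlgebraicGeometry AlgSp Groth.Agent.AlgSpLib
open scoped TensorProduct

namespace Groth.Agent.Dsp6.FSDesc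

variable {S : Scheme.{u}} {A : Type u} [CommRing A] {str : Spec (CommRingCat.of A) ⟶ S}
variable {B C : Type u} [CommRing B] [Algebra A B] [CommRing C] [Algebra A C]

/-- Infinitesimal lifts exist, if they do on an etale chart which is formally smooth over the base,
compatibly with a faithfully flat covering of the base. -/
theorem exists_lift {G H : Sp S} (b : G ⟶ H) (I : Ideal A) (hI : I ^ 2 = ⊥)
    (bot : (yon S).obj (Over.mk str) ⟶ H) (top : (yon S).obj (pt str (A ⧸ I)) ⟶ G)
    [Algebra.FormallySmooth A C]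
    (c : (yon S).obj (pt str C) ⟶ G) (hc : c ≫ b = (yon S).map (base str C) ≫ bot)
    (huniq : ∀ (R R' : Type u) [CommRing R] [Algebra A R] [CommRing R'] [Algebra A R'] (f : R →ₐ[A] R'),
      Function.Surjective f → RingHom.ker f ^ 2 = ⊥ →
      ∀ (g : C →ₐ[A] R') (x : (yon S).obj (pt str R) ⟶ G),
        x ≫ b = (yon S).map (base str R) ≫ bot → Y str f ≫ x = Y str g ≫ c →
        ∃! h : C →ₐ[A] R, f.comp h = g ∧ Y str h ≫ c = x)
    [Module.FaithfullyFlat A B] (hcov : fppf (base str B).left)
    (m₀ : C →ₐ[A] B ⧸ I.map (algebraMap A B))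
    (hm₀ : Y str m₀ ≫ c = Y str (quotToQuot I B) ≫ top) :
    ∃ l : (yon S).obj (Over.mk str) ⟶ G, (yon S).map (base str (A ⧸ I)) ≫ l = top ∧ l ≫ b = bot := by
  let J := I.map (algebraMap A B)
  obtain ⟨SB, _, _, _, _, ⟨N⟩⟩ := exists_nbhd c hc huniq m₀ hm₀
  obtain ⟨α, hα₁, hα₂, hcounit, hcoassoc, hα₃⟩ := N.exists_datum
  obtain ⟨hB, hBα, hBπ⟩ := exists_compatible_section hI N.π N.localModel α hα₁ hα₂ hcounit hcoassoc
  let hA := hB.restrictScalars A
  let xB : (yon S).obj (pt str B) ⟶ G := Y str hA ≫ N.u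
  have hagree : Y str (Algebra.TensorProduct.includeLeft : B →ₐ[A] B ⊗[A] B) ≫ xB =
      Y str (Algebra.TensorProduct.includeRight : B →ₐ[A] B ⊗[A] B) ≫ xB := by
    simp only [xB]
    rw [Y_comp, show (Algebra.TensorProduct.includeLeft : B →ₐ[A] B ⊗[A] B).comp hA =
      (Algebra.TensorProduct.map hA (AlgHom.id A B)).comp Algebra.TensorProduct.includeLeft from
      AlgHom.ext fun y => by simp [hA], ← Y_comp, ← hα₃, Y_comp, hBα, ← Y_comp]
  have hls : Sheaf.IsLocallySurjective ((yon S).map (base str B)) :=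
    isLocallySurjective_of_repWith ((repWith_yon_map_iff fppf _).2 hcov)
  obtain ⟨l, hl⟩ := AlgSpDec.exists_desc_of_kernelPair ((isPullback_sp str B B).map (yon S)) xB hagree
  refine ⟨l, ?_, ?_⟩
  · let p : pt str (B ⧸ J) ⟶ pt str (A ⧸ I) := sp str (quotToQuot I B)
    have : IsPullback p.left (sp str (Ideal.Quotient.mkₐ A J)).left (base str (A ⧸ I)).left (base str B).left :=
      isPullback_SpecMap_of_isPushout _ _ _ _ (isPushout_quot I B)
    have hp : fppf p.left := MorphismProperty.of_isPullback this.flip hcov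
    refine hom_ext_of_fppf p hp _ _ ?_
    rw [← Category.assoc, ← Functor.map_comp, show p ≫ base str (A ⧸ I) = base str (B ⧸ J) from sp_base str _,
      ← sp_base str (Ideal.Quotient.mkₐ A J), Functor.map_comp, Category.assoc, hl]
    refine (Y_comp str _ _ _).trans ?_
    rw [show (Ideal.Quotient.mkₐ A J).comp hA = N.π.restrictScalars A from
      congrArg (AlgHom.restrictScalars A) hBπ, N.u_top]
  · refine hom_ext_of_fppf (base str B) hcov _ _ ?_
    rw [← Category.assoc, hl]
    simp only [xB, Category.assoc, N.u_base, Y_base]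

end Groth.Agent.Dsp6.FSDesc
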