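import Groth.Agent.EtFound.LiftEtale
import Groth.Agent.MorLib.FormallyEtaleHom
import Groth.Agent.MorLib.Thickening
import Mathlib.AlgebraicGeometry.Morphisms.Etale
import Mathlib.AlgebraicGeometry.Limits

/-!
# Affine etale coverings adapted to a map out of a covering of a thickened scheme
-/

set_option autoImplicit false
set_option maxHeartbeats 400000
set_option backward.isDefEq.respectTransparency false
set_option backward.isDefEq.respectTransparency.types false

universe u

open CategoryTheory Limits AlgebraicGeometry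

namespace Groth.Agent.Dsp6.FSDesc

theorem isFormallySmoothHom_comp {X Y Z : Scheme.{u}} {f : X ⟶ Y} {g : Y ⟶ Z}
    (hf : MoreMor.IsFormallySmoothHom f) (hg : MoreMor.IsFormallySmoothHom g) :
    MoreMor.IsFormallySmoothHom (f ≫ g) := by
  intro A _ I hI a b w
  obtain ⟨l, hl₁, hl₂⟩ := hg A I hI (a ≫ f) b (by rw [Category.assoc, w])
  obtain ⟨m, hm₁, hm₂⟩ := hf A I hI a l hl₁
  exact ⟨m, hm₁, by rw [reassoc_of% hm₂, hl₂]⟩

/-- Given an etale covering of a closed subscheme `T` of an affine scheme `T'` with the same points, mapping to a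
scheme `P`, there are an etale covering of `T'` by an affine scheme and an affine scheme etale over `P` through
which the map factors on the induced covering of `T`. -/
theorem exists_affine_cover {T T' TV P : Scheme.{u}} [CompactSpace T'] (j : T ⟶ T') [IsClosedImmersion j]
    [Surjective j] (p : TV ⟶ T) [Etale p] [Surjective p] (m : TV ⟶ P) :
    ∃ (W Q : Scheme.{u}) (β : W ⟶ T') (κ : Q ⟶ P) (θ : pullback β j ⟶ TV) (μ : pullback β j ⟶ Q),
      IsAffine W ∧ IsAffine Q ∧ Etale β ∧ Surjective β ∧ Etale κ ∧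
        θ ≫ p = pullback.snd β j ∧ μ ≫ κ = θ ≫ m := by
  choose V hV hVf hVo hVu using fun t : TV => EtFound.exists_etale_lift j p t
  have hPu : ∀ t : TV, ∃ U : P.Opens, IsAffineOpen U ∧ m t ∈ U := fun t => by
    obtain ⟨U, hU, ht, -⟩ := exists_isAffineOpen_mem_and_subset (x := m t) (U := (⊤ : P.Opens)) trivial
    exact ⟨U, hU, ht⟩
  choose U hU hmU using hPu
  have hpiece : ∀ t : TV, ∃ O : (V t).left.Opens, IsAffineOpen O ∧
      (j (p t) ∈ Set.range (O.ι ≫ (V t).hom)) ∧
      ∀ z, pullback.fst (V t).hom j z ∈ O → m (hV t z) ∈ U t := by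
    intro t
    obtain ⟨z₀, hz₀⟩ := hVu t
    let fst := pullback.fst (V t).hom j
    have : IsClosedImmersion fst := inferInstance
    have hopen : IsOpen (fst '' ((hV t ≫ m) ⁻¹ᵁ U t : Set _)) :=
      (fst.isClosedEmbedding.toIsEmbedding.toHomeomorphOfSurjective fst.surjective).isOpenMap _
        ((hV t ≫ m) ⁻¹ᵁ U t).isOpen
    obtain ⟨O, hO, hzO, hOsub⟩ := exists_isAffineOpen_mem_and_subset (x := fst z₀) (U := ⟨_, hopen⟩)
      ⟨z₀, by show m (hV t z₀) ∈ U t; rw [hz₀]; exact hmU t, rfl⟩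
    refine ⟨O, hO, ⟨⟨fst z₀, hzO⟩, ?_⟩, fun z hz => ?_⟩
    · show ((O.ι ≫ (V t).hom) ⟨fst z₀, hzO⟩) = _
      rw [Scheme.Hom.comp_apply]
      show (V t).hom (fst z₀) = _
      rw [← Scheme.Hom.comp_apply, pullback.condition, Scheme.Hom.comp_apply, ← hVf t, Scheme.Hom.comp_apply,
        hz₀]
      rfl
    · obtain ⟨z', hz', he⟩ := hOsub hz
      rwa [fst.isClosedEmbedding.injective he] at hz'
  choose O hO hOcov hOm using hpiece
  have : ∀ t, Etale (V t).hom := fun t => (V t).prop
  have hcov : (Set.univ : Set T') ⊆ ⋃ t, Set.range ((O t).ι ≫ (V t).hom) := fun x _ => by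
    obtain ⟨x₀, rfl⟩ := j.surjective x
    obtain ⟨t, rfl⟩ := p.surjective x₀
    exact Set.mem_iUnion.2 ⟨t, hOcov t⟩
  obtain ⟨s, hs⟩ := isCompact_univ.elim_finite_subcover _
    (fun t => ((O t).ι ≫ (V t).hom).isOpenMap.isOpen_range) hcov
  let e := s.equivFin.symm
  let g : ∀ i : Fin s.card, (O (e i).1).toScheme ⟶ T' := fun i => (O (e i).1).ι ≫ (V (e i).1).hom
  let W := ∐ fun i : Fin s.card => (O (e i).1).toScheme
  let Q := ∐ fun i : Fin s.card => (U (e i).1).toScheme
  let β : W ⟶ T' := Sigma.desc g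
  let κ : Q ⟶ P := Sigma.desc fun i => (U (e i).1).ι
  have : ∀ i, IsAffine (O (e i).1).toScheme := fun i => hO _
  have : ∀ i, IsAffine (U (e i).1).toScheme := fun i => hU _
  -- the covering of the pullback
  let Z := pullback β j
  let π := fun i : Fin s.card => Sigma.ι (fun i : Fin s.card => (O (e i).1).toScheme) i
  have hπ : IsIso (Sigma.desc π) := by
    rw [show Sigma.desc π = 𝟙 _ from Sigma.hom_ext _ _ fun i => by simp [π]]
    infer_instance
  let σ : (∐ fun i => pullback (pullback.fst β j) (π i)) ⟶ Z := Sigma.desc fun i => pullback.fst _ _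
  have : IsIso σ := FinitaryPreExtensive.isIso_sigmaDesc_fst π (pullback.fst β j) hπ
  let ρ : ∀ i, pullback (pullback.fst β j) (π i) ⟶ pullback (V (e i).1).hom j := fun i =>
    pullback.lift (pullback.snd _ _ ≫ (O (e i).1).ι) (pullback.fst _ _ ≫ pullback.snd β j) (by
      rw [Category.assoc, Category.assoc, ← pullback.condition, pullback.condition_assoc]
      simp [π, β, g])
  have hρ : ∀ i, Set.range (ρ i ≫ hV (e i).1 ≫ m) ⊆ Set.range (U (e i).1).ι := by
    rintro i _ ⟨z, rfl⟩
    rw [Scheme.Opens.range_ι]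
    show m (hV (e i).1 (ρ i z)) ∈ U (e i).1
    refine hOm _ _ ?_
    rw [← Scheme.Hom.comp_apply, pullback.lift_fst, Scheme.Hom.comp_apply]
    exact (pullback.snd (pullback.fst β j) (π i) z).2
  refine ⟨W, Q, β, κ, inv σ ≫ Sigma.desc fun i => ρ i ≫ hV (e i).1,
    inv σ ≫ Sigma.desc fun i => IsOpenImmersion.lift (U (e i).1).ι _ (hρ i) ≫
      Sigma.ι (fun i : Fin s.card => (U (e i).1).toScheme) i,
    inferInstance, inferInstance, IsZariskiLocalAtSource.sigmaDesc (P := @Etale) fun i => inferInstance,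
    ⟨fun x => ?_⟩, IsZariskiLocalAtSource.sigmaDesc (P := @Etale) fun i => inferInstance, ?_, ?_⟩
  · obtain ⟨t, ht, y, hy⟩ := by simpa using hs (Set.mem_univ x)
    obtain ⟨i, hi⟩ := e.surjective ⟨t, ht⟩
    have ht' : (e i).1 = t := by rw [hi]
    subst ht'
    refine ⟨Sigma.ι (fun i : Fin s.card => (O (e i).1).toScheme) i y, ?_⟩
    rw [← Scheme.Hom.comp_apply, Sigma.ι_desc]
    exact hy
  · rw [← cancel_epi σ]
    simp only [Category.assoc, IsIso.hom_inv_id_assoc]
    refine Sigma.hom_ext _ _ fun i => ?_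
    simp only [Sigma.ι_desc_assoc, Category.assoc, hVf, ρ, pullback.lift_snd, σ]
  · rw [← cancel_epi σ]
    simp only [Category.assoc, IsIso.hom_inv_id_assoc]
    refine Sigma.hom_ext _ _ fun i => ?_
    simp only [Sigma.ι_desc_assoc, Category.assoc, κ, Sigma.ι_desc, IsOpenImmersion.lift_fac]

end Groth.Agent.Dsp6.FSDesc
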