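import Groth.Agent.Dsp6.FSDescChart

/-!
# The descent datum on the first order neighbourhood
-/

set_option autoImplicit false
set_option maxHeartbeats 400000
set_option backward.isDefEq.respectTransparency false
set_option backward.isDefEq.respectTransparency.types false

universe u

open CategoryTheory Limits Opposite AlgebraicGeometry AlgSp Groth.Agent.AlgSpLib
open scoped TensorProduct

namespace Groth.Agent.Dsp6.FSDesc

variable {S : Scheme.{u}} {A : Type u} [CommRing A] {str : Spec (CommRingCat.of A) ⟶ S}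
variable {B : Type u} [CommRing B] [Algebra A B] {I : Ideal A} {G H : Sp S} {b : G ⟶ H}
  {bot : (yon S).obj (Over.mk str) ⟶ H} {top : (yon S).obj (pt str (A ⧸ I)) ⟶ G}
  {SB : Type u} [CommRing SB] [Algebra B SB] [Algebra A SB] [IsScalarTower A B SB]

/-- Two maps out of a neighbourhood agree if they agree on `B`, modulo a square zero ideal, and into `G`. -/
theorem Nbhd.hom_ext (N : Nbhd str I B b bot top SB) {R : Type u} [CommRing R] [Algebra A R]
    {R' : Type u} [CommRing R'] [Algebra A R'] (f : R →ₐ[A] R') (hf : Function.Surjective f)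
    (hf2 : RingHom.ker f ^ 2 = ⊥) (g : B ⧸ I.map (algebraMap A B) →ₐ[A] R') {F F' : SB →ₐ[A] R}
    (h₁ : F.comp (IsScalarTower.toAlgHom A B SB) = F'.comp (IsScalarTower.toAlgHom A B SB))
    (h₂ : f.comp F = g.comp (N.π.restrictScalars A)) (h₂' : f.comp F' = g.comp (N.π.restrictScalars A))
    (h₃ : Y str F ≫ N.u = Y str F' ≫ N.u) : F = F' := by
  refine ExistsUnique.unique (N.univ R (F.comp (IsScalarTower.toAlgHom A B SB)) R' f hf hf2 g ?_ (Y str F ≫ N.u)
    (by rw [Category.assoc, N.u_base, Y_base]) (by rw [Y_comp, h₂, ← Y_comp, N.u_top, Y_comp]))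
    ⟨rfl, h₂, rfl⟩ ⟨h₁.symm, h₂', h₃.symm⟩
  rw [← AlgHom.comp_assoc, h₂]
  exact AlgHom.ext fun y => congrArg g (N.π.commutes y).symm

/-- A map satisfying the defining properties of a datum is coassociative. -/
theorem coassoc_of_hom_ext {Q : Type u} [CommRing Q] [Algebra A Q] (β : B →ₐ[A] SB)
    (π : SB →ₐ[A] Q) (hπ : Function.Surjective π) (hπ2 : RingHom.ker π ^ 2 = ⊥)
    (u : (yon S).obj (pt str SB) ⟶ G)
    (hext : ∀ (R : Type u) [CommRing R] [Algebra A R] (R' : Type u) [CommRing R'] [Algebra A R'] (f : R →ₐ[A] R'),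
      Function.Surjective f → RingHom.ker f ^ 2 = ⊥ → ∀ (g : Q →ₐ[A] R') (F F' : SB →ₐ[A] R),
      F.comp β = F'.comp β → f.comp F = g.comp π → f.comp F' = g.comp π →
      Y str F ≫ u = Y str F' ≫ u → F = F')
    (α : SB →ₐ[A] SB ⊗[A] B) (g : Q →ₐ[A] Q ⊗[A] B)
    (hg : (Algebra.TensorProduct.map g (AlgHom.id A B)).comp g =
      (Algebra.TensorProduct.map (Algebra.TensorProduct.includeLeft : Q →ₐ[A] Q ⊗[A] B) (AlgHom.id A B)).comp g)
    (hα₁ : α.comp β = Algebra.TensorProduct.includeRight)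
    (hα₂ : (Algebra.TensorProduct.map π (AlgHom.id A B)).comp α = g.comp π)
    (hα₃ : Y str α ≫ u = Y str (Algebra.TensorProduct.includeLeft : SB →ₐ[A] SB ⊗[A] B) ≫ u) :
    (Algebra.TensorProduct.map α (AlgHom.id A B)).comp α =
      (Algebra.TensorProduct.map (Algebra.TensorProduct.includeLeft : SB →ₐ[A] SB ⊗[A] B) (AlgHom.id A B)).comp α := by
  let idB := AlgHom.id A B
  let f₁ : SB ⊗[A] B →ₐ[A] Q ⊗[A] B := Algebra.TensorProduct.map π idB
  let inl : SB →ₐ[A] SB ⊗[A] B := Algebra.TensorProduct.includeLeft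
  let inl' : SB ⊗[A] B →ₐ[A] (SB ⊗[A] B) ⊗[A] B := Algebra.TensorProduct.includeLeft
  let inlQ : Q →ₐ[A] Q ⊗[A] B := Algebra.TensorProduct.includeLeft
  have hf₁ : Function.Surjective f₁ := TensorProduct.map_surjective hπ Function.surjective_id
  have hf₂α : (Algebra.TensorProduct.map f₁ idB).comp (Algebra.TensorProduct.map α idB) =
      (Algebra.TensorProduct.map g idB).comp f₁ := by
    rw [← Algebra.TensorProduct.map_comp, hα₂, Algebra.TensorProduct.map_comp]
  have hf₂l : (Algebra.TensorProduct.map f₁ idB).comp (Algebra.TensorProduct.map inl idB) =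
      (Algebra.TensorProduct.map inlQ idB).comp f₁ :=
    Algebra.TensorProduct.ext (AlgHom.ext fun y => by simp [f₁, inl, inlQ, idB])
      (AlgHom.ext fun y => by simp [f₁, inl, inlQ, idB])
  have hpullα : (Algebra.TensorProduct.map α idB).comp inl = inl'.comp α :=
    AlgHom.ext fun y => by simp [inl, inl', idB]
  have hpulll : (Algebra.TensorProduct.map inl idB).comp inl = inl'.comp inl :=
    AlgHom.ext fun y => by simp [inl, inl', idB]
  refine hext _ _ (Algebra.TensorProduct.map f₁ idB) (TensorProduct.map_surjective hf₁ Function.surjective_id)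
    (ker_sq_bot_rTensor f₁ hf₁ (ker_sq_bot_rTensor π hπ hπ2)) ((Algebra.TensorProduct.map inlQ idB).comp g)
    _ _ ?_ ?_ ?_ ?_
  · rw [AlgHom.comp_assoc, hα₁, AlgHom.comp_assoc, hα₁]
    exact AlgHom.ext fun y => by simp
  · rw [← AlgHom.comp_assoc, hf₂α, AlgHom.comp_assoc, hα₂, ← AlgHom.comp_assoc, hg]
  · rw [← AlgHom.comp_assoc, hf₂l, AlgHom.comp_assoc, hα₂, ← AlgHom.comp_assoc]
  · rw [← Y_comp, hα₃, Y_comp, hpullα, ← Y_comp, hα₃, ← Y_comp str α, hα₃, Y_comp, Y_comp, hpulll]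

/-- A neighbourhood carries a descent datum. -/
theorem Nbhd.exists_datum (N : Nbhd str I B b bot top SB) :
    ∃ α : SB →ₐ[A] SB ⊗[A] B,
      (∀ y, α (algebraMap B SB y) = 1 ⊗ₜ y) ∧
      (∀ y z, N.π y = Ideal.Quotient.mk (I.map (algebraMap A B)) z →
        Algebra.TensorProduct.map (N.π.restrictScalars A) (AlgHom.id A B) (α y) = 1 ⊗ₜ z) ∧
      (∀ y, Algebra.TensorProduct.lift (AlgHom.id A SB) (IsScalarTower.toAlgHom A B SB)
        (fun _ _ => Commute.all _ _) (α y) = y) ∧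
      (Algebra.TensorProduct.map α (AlgHom.id A B)).comp α =
        (Algebra.TensorProduct.map (Algebra.TensorProduct.includeLeft : SB →ₐ[A] SB ⊗[A] B) (AlgHom.id A B)).comp α ∧
      Y str α ≫ N.u = Y str (Algebra.TensorProduct.includeLeft : SB →ₐ[A] SB ⊗[A] B) ≫ N.u := by
  let J := I.map (algebraMap A B)
  let πS := N.π
  let πA : SB →ₐ[A] B ⧸ J := N.π.restrictScalars A
  let βS : B →ₐ[A] SB := IsScalarTower.toAlgHom A B SB
  let u := N.u
  have hπsurj : Function.Surjective πA := N.surj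
  have hπsq : RingHom.ker πA ^ 2 = ⊥ := N.sq_zero
  have hutop : Y str πA ≫ u = Y str (quotToQuot I B) ≫ top := N.u_top
  have hub : ∀ {R : Type u} [CommRing R] [Algebra A R] (F : SB →ₐ[A] R),
      (Y str F ≫ u) ≫ b = (yon S).map (base str R) ≫ bot := fun F => by
    rw [Category.assoc, N.u_base, Y_base]
  have huniv := N.univ
  let idB := AlgHom.id A B
  let f₁ : SB ⊗[A] B →ₐ[A] (B ⧸ J) ⊗[A] B := Algebra.TensorProduct.map πA idB
  have hf₁ : Function.Surjective f₁ := TensorProduct.map_surjective hπsurj Function.surjective_id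
  let g₁ : B ⧸ J →ₐ[A] (B ⧸ J) ⊗[A] B :=
    Ideal.Quotient.liftₐ J Algebra.TensorProduct.includeRight fun x hx => by
      refine (Ideal.map_le_iff_le_comap.2 (fun a ha => ?_) : J ≤ RingHom.ker
        (Algebra.TensorProduct.includeRight : B →ₐ[A] (B ⧸ J) ⊗[A] B)) hx
      rw [Ideal.mem_comap, RingHom.mem_ker, AlgHom.commutes, Algebra.TensorProduct.algebraMap_apply,
        IsScalarTower.algebraMap_apply A B (B ⧸ J), Ideal.Quotient.algebraMap_eq,
        Ideal.Quotient.eq_zero_iff_mem.2 (Ideal.mem_map_of_mem _ ha), TensorProduct.zero_tmul]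
  obtain ⟨α, ⟨hα₁, hα₂, hα₃⟩, -⟩ := huniv (SB ⊗[A] B) Algebra.TensorProduct.includeRight _ f₁ hf₁
    (ker_sq_bot_rTensor πA hπsurj hπsq) g₁ (AlgHom.ext fun y => by simp [g₁, f₁, idB]; rfl)
    (Y str (Algebra.TensorProduct.includeLeft : SB →ₐ[A] SB ⊗[A] B) ≫ u) (hub _) (by
      rw [Y_comp, show f₁.comp Algebra.TensorProduct.includeLeft =
        (Algebra.TensorProduct.includeLeft : B ⧸ J →ₐ[A] (B ⧸ J) ⊗[A] B).comp πA from
        AlgHom.ext fun y => by simp [f₁, idB], ← Y_comp, hutop, Y_comp]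
      congr 2
      exact Ideal.Quotient.algHom_ext A (Algebra.ext_id_iff.2 trivial))
  -- counit
  let μ : SB ⊗[A] B →ₐ[A] SB := Algebra.TensorProduct.lift (AlgHom.id A SB) βS (fun _ _ => Commute.all _ _)
  let μ' : (B ⧸ J) ⊗[A] B →ₐ[A] B ⧸ J :=
    Algebra.TensorProduct.lift (AlgHom.id A _) (Ideal.Quotient.mkₐ A J) (fun _ _ => Commute.all _ _)
  have hμf : πA.comp μ = μ'.comp f₁ := Algebra.TensorProduct.ext
    (AlgHom.ext fun y => by simp [μ, μ', f₁, idB, πA])
    (AlgHom.ext fun y => by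
      simp [μ, μ', f₁, idB, πA, βS]
      exact πS.commutes y)
  have hμg : μ'.comp g₁ = AlgHom.id A _ := Ideal.Quotient.algHom_ext A (AlgHom.ext fun y => by simp [μ', g₁])
  have hcounit : μ.comp α = AlgHom.id A SB := by
    refine N.hom_ext πA hπsurj hπsq (AlgHom.id A _) ?_ ?_ ?_ ?_
    · rw [AlgHom.comp_assoc, hα₁]
      exact AlgHom.ext fun y => by simp [μ, βS]
    · rw [← AlgHom.comp_assoc, hμf, AlgHom.comp_assoc, hα₂, ← AlgHom.comp_assoc, hμg]
    · rw [AlgHom.comp_id]
      exact (AlgHom.id_comp _).symm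
    · rw [← Y_comp, hα₃, Y_comp, show μ.comp Algebra.TensorProduct.includeLeft = AlgHom.id A SB from
        AlgHom.ext fun y => by simp [μ]]

  have hg : (Algebra.TensorProduct.map g₁ idB).comp g₁ =
      (Algebra.TensorProduct.map (Algebra.TensorProduct.includeLeft : B ⧸ J →ₐ[A] (B ⧸ J) ⊗[A] B) idB).comp g₁ :=
    Ideal.Quotient.algHom_ext A (AlgHom.ext fun y => by
      show (Algebra.TensorProduct.map g₁ idB) ((1 : B ⧸ J) ⊗ₜ y) =
        (Algebra.TensorProduct.map _ idB) ((1 : B ⧸ J) ⊗ₜ y)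
      rw [Algebra.TensorProduct.map_tmul, Algebra.TensorProduct.map_tmul, map_one, map_one])
  have hcoassoc := coassoc_of_hom_ext βS πA hπsurj hπsq N.u
    (fun R _ _ R' _ _ f hf hf2 g F F' => N.hom_ext f hf hf2 g) α g₁ hg hα₁ hα₂ hα₃
  refine ⟨α, fun y => congrArg (fun q => q y) hα₁, fun y z hyz => ?_,
    fun y => congrArg (fun q => q y) hcounit, hcoassoc, hα₃⟩
  exact (congrArg (fun q => q y) hα₂).trans ((congrArg g₁ hyz).trans rfl)

end Groth.Agent.Dsp6.FSDesc
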