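import Groth.Agent.Dsp6.FSDescCore
import Groth.Agent.Dsp6.FSDescCover
import Groth.Agent.AlgSpLib.InfCharts
import Mathlib.RingTheory.Flat.FaithfullyFlat.Algebra

/-!
# Formal smoothness is etale local on the source
-/

set_option autoImplicit false
set_option maxHeartbeats 800000
set_option backward.isDefEq.respectTransparency false
set_option backward.isDefEq.respectTransparency.types false

universe u

open CategoryTheory Limits Opposite AlgebraicGeometry AlgSp Groth.Agent.AlgSpLib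
open scoped TensorProduct

namespace Groth.Agent.Dsp6.FSDesc

variable {S : Scheme.{u}}

theorem isFormallySmoothHom_of_isFormallySmoothMor {U V : Over S} {h : U ⟶ V}
    (hh : IsFormallySmoothMor ((yon S).map h)) : MoreMor.IsFormallySmoothHom h.left := by
  intro A _ I hI a b w
  obtain ⟨t, β, ht, hβ, hw⟩ := exists_infSq_yon h I hI a b w
  let sq : InfSq ((yon S).map h) :=
    { A := A, I := I, sq_zero := hI, str := b ≫ V.hom, top := (yon S).map t, bot := (yon S).map β, comm := hw }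
  obtain ⟨l, hl₁, hl₂⟩ := hh sq
  obtain ⟨m, rfl⟩ := (yon S).map_surjective l
  exact ⟨m.left, by
    rw [← ht]
    exact congrArg CommaMorphism.left ((yon S).map_injective (((yon S).map_comp _ _).trans hl₁)), by
    rw [← hβ]
    exact congrArg CommaMorphism.left ((yon S).map_injective (((yon S).map_comp _ _).trans hl₂))⟩

theorem isFormallySmoothMor_yon_map {U V : Over S} {h : U ⟶ V} (hh : MoreMor.IsFormallySmoothHom h.left) :
    IsFormallySmoothMor ((yon S).map h) := by
  intro sq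
  obtain ⟨t, ht⟩ := (yon S).map_surjective sq.top
  obtain ⟨β, hβ⟩ := (yon S).map_surjective sq.bot
  have hc : t ≫ h = sq.j ≫ β := (yon S).map_injective (by
    rw [Functor.map_comp, Functor.map_comp, ht, hβ]; exact sq.comm)
  obtain ⟨l, hl₁, hl₂⟩ := hh sq.A sq.I sq.sq_zero t.left β.left (congrArg CommaMorphism.left hc).symm
  let m : sq.ptT' ⟶ U := Over.homMk l (by
    rw [← Over.w h, ← Category.assoc, hl₂]; exact Over.w β)
  refine ⟨(yon S).map m, ?_, ?_⟩
  · rw [← ht, ← Functor.map_comp]; exact congrArg _ (Over.OverMorphism.ext hl₁)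
  · rw [← hβ, ← Functor.map_comp]; exact congrArg _ (Over.OverMorphism.ext hl₂)

section

variable {A : Type u} [CommRing A] {str : Spec (CommRingCat.of A) ⟶ S}
  {R R' C : Type u} [CommRing R] [Algebra A R] [CommRing R'] [Algebra A R'] [CommRing C] [Algebra A C]

theorem exists_algHom_of_base (z : pt str R ⟶ pt str C) (hz : z ≫ base str C = base str R) :
    ∃ h : C →ₐ[A] R, sp str h = z := by
  obtain ⟨h₀, hh₀⟩ := Spec.map_surjective (z.left : Spec (CommRingCat.of R) ⟶ Spec (CommRingCat.of C))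
  have hc : CommRingCat.ofHom (algebraMap A C) ≫ h₀ = CommRingCat.ofHom (algebraMap A R) := by
    apply Spec.map_injective
    rw [Spec.map_comp, hh₀]
    exact congrArg CommaMorphism.left hz
  exact ⟨{ h₀.hom with commutes' := fun a => congrArg (fun q => q.hom a) hc },
    Over.OverMorphism.ext hh₀⟩

theorem sp_injective {h h' : C →ₐ[A] R} (e : sp str h = sp str h') : h = h' := by
  have := congrArg CommRingCat.Hom.hom (Spec.map_injective (congrArg CommaMorphism.left e))
  exact AlgHom.coe_ringHom_injective this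

/-- Lifting along a formally etale morphism, for square zero surjections of algebras. -/
theorem existsUnique_lift {F G : Sp S} {a : F ⟶ G} (ha : IsFormallyEtaleMor a) (f : R →ₐ[A] R')
    (hf : Function.Surjective f) (hf2 : RingHom.ker f ^ 2 = ⊥)
    (y : (yon S).obj (pt str R') ⟶ F) (x : (yon S).obj (pt str R) ⟶ G) (h : Y str f ≫ x = y ≫ a) :
    ∃! l : (yon S).obj (pt str R) ⟶ F, Y str f ≫ l = y ∧ l ≫ a = x := by
  let J : Ideal R := RingHom.ker f
  let ε : CommRingCat.of (R ⧸ J) ≅ CommRingCat.of R' :=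
    (RingHom.quotientKerEquivOfSurjective hf).toCommRingCatIso
  have hε : CommRingCat.ofHom (Ideal.Quotient.mk J) ≫ ε.hom = CommRingCat.ofHom f.toRingHom := by
    ext r
    exact RingHom.quotientKerEquivOfSurjective_apply_mk hf r
  let strR : Spec (CommRingCat.of R) ⟶ S := Spec.map (CommRingCat.ofHom (algebraMap A R)) ≫ str
  let T₀ : Over S := Over.mk (Spec.map (CommRingCat.ofHom (Ideal.Quotient.mk J)) ≫ strR)
  let j₀ : T₀ ⟶ pt str R := Over.homMk (Spec.map (CommRingCat.ofHom (Ideal.Quotient.mk J))) rfl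
  have hb : Spec.map ε.hom ≫ j₀.left = (sp str f).left := by
    show Spec.map _ ≫ Spec.map _ = Spec.map _
    rw [← Spec.map_comp, hε]
  let e₁ : pt str R' ⟶ T₀ := Over.homMk (Spec.map ε.hom) (by
    show Spec.map ε.hom ≫ (Spec.map _ ≫ strR) = _
    rw [← Category.assoc]
    exact (congrArg (· ≫ strR) hb).trans (Over.w (sp str f)))
  have he : e₁ ≫ j₀ = sp str f := Over.OverMorphism.ext hb
  let e₂ : T₀ ⟶ pt str R' := Over.homMk (Spec.map ε.inv) (by
    show Spec.map ε.inv ≫ (pt str R').hom = T₀.hom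
    rw [← Over.w e₁, ← Category.assoc]
    change (Spec.map ε.inv ≫ Spec.map ε.hom) ≫ _ = _
    rw [← Spec.map_comp, ε.hom_inv_id, Spec.map_id, Category.id_comp])
  have he₁₂ : e₁ ≫ e₂ = 𝟙 _ := Over.OverMorphism.ext (by
    show Spec.map ε.hom ≫ Spec.map ε.inv = 𝟙 _
    rw [← Spec.map_comp, ε.inv_hom_id, Spec.map_id])
  have he₂₁ : e₂ ≫ e₁ = 𝟙 _ := Over.OverMorphism.ext (by
    show Spec.map ε.inv ≫ Spec.map ε.hom = 𝟙 _
    rw [← Spec.map_comp, ε.hom_inv_id, Spec.map_id])
  have hj : e₂ ≫ sp str f = j₀ := by rw [← he, reassoc_of% he₂₁]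
  let sq : InfSq a :=
    { A := R, I := J, sq_zero := hf2, str := strR, top := (yon S).map e₂ ≫ y, bot := x
      comm := by
        show ((yon S).map e₂ ≫ y) ≫ a = (yon S).map j₀ ≫ x
        rw [Category.assoc, ← h, ← Category.assoc, ← Functor.map_comp, hj] }
  obtain ⟨l, ⟨hl₁, hl₂⟩, hl⟩ := ha sq
  refine ⟨l, ⟨?_, hl₂⟩, fun l' hl' => hl l' ⟨?_, hl'.2⟩⟩
  · rw [Y, ← he, Functor.map_comp, Category.assoc]
    refine (congrArg (_ ≫ ·) hl₁).trans ?_
    show (yon S).map e₁ ≫ (yon S).map e₂ ≫ y = y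
    rw [← Category.assoc, ← Functor.map_comp, he₁₂, (yon S).map_id, Category.id_comp]
  · show (yon S).map j₀ ≫ l' = (yon S).map e₂ ≫ y
    rw [← hl'.1, ← Category.assoc, Y, ← Functor.map_comp, hj]

end

variable {G H : Sp S} {b : G ⟶ H}

/-- Formal smoothness is etale local on the source, for a scheme mapping onto the source. -/
theorem isFormallySmoothMor_of_comp_etale (hH : IsAlgSpace H) {U : Over S} {a : (yon S).obj U ⟶ G}
    (ha : RepWith @Etale a) (ha' : RepWith @Surjective a) (h : IsFormallySmoothMor (a ≫ b)) :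
    IsFormallySmoothMor b := by
  intro sq
  have hr := hH.representable_from_yon (a ≫ b)
  have hP := hr.isPullback sq.bot
  let P := hr.pullback sq.bot
  let q : P ⟶ sq.ptT' := hr.snd sq.bot
  let π₁ : (yon S).obj P ⟶ (yon S).obj U := hr.fst sq.bot
  have hw : π₁ ≫ a ≫ b = (yon S).map q ≫ sq.bot := hP.w
  have hq : MoreMor.IsFormallySmoothHom q.left :=
    isFormallySmoothHom_of_isFormallySmoothMor (isFormallySmoothMor_of_isPullback hP h)
  have hPT := ha.1.isPullback sq.top
  let TV := ha.1.pullback sq.top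
  let p : TV ⟶ sq.ptT := ha.1.snd sq.top
  let π₂ : (yon S).obj TV ⟶ (yon S).obj U := ha.1.fst sq.top
  have hw₂ : π₂ ≫ a = (yon S).map p ≫ sq.top := hPT.w
  have : Etale p.left := ha.2 sq.top _ _ hPT
  have : Surjective p.left := ha'.2 sq.top _ _ hPT
  obtain ⟨mT, hmT⟩ := (yon S).map_surjective (hP.lift π₂ ((yon S).map (p ≫ sq.j)) (by
    rw [← Category.assoc π₂ a, hw₂, Category.assoc, sq.comm, Functor.map_comp, Category.assoc]))
  have hmT₁ : (yon S).map mT ≫ π₁ = π₂ := by rw [hmT]; exact hP.lift_fst _ _ _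
  have hmT₂ : mT ≫ q = p ≫ sq.j := (yon S).map_injective (by
    rw [Functor.map_comp, hmT]; exact hP.lift_snd _ _ _)
  have hthick := Groth.Agent.MorLib.isFirstOrderThickening_quotientMk sq.A sq.I sq.sq_zero
  have : IsClosedImmersion sq.j.left := hthick.1.1
  have : Surjective sq.j.left := hthick.1.2
  have : CompactSpace sq.ptT'.left := inferInstanceAs (CompactSpace (Spec (CommRingCat.of sq.A)))
  obtain ⟨W, Q, β, κ, θ, μ, _, _, _, _, _, hθ, hμ⟩ := exists_affine_cover sq.j.left p.left mT.left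
  let ψ : CommRingCat.of sq.A ⟶ Γ(W, ⊤) := Spec.preimage (W.isoSpec.inv ≫ β)
  have hψ : Spec.map ψ = W.isoSpec.inv ≫ β := Spec.map_preimage _
  let φ : CommRingCat.of sq.A ⟶ Γ(Q, ⊤) := Spec.preimage (Q.isoSpec.inv ≫ κ ≫ q.left)
  have hφ : Spec.map φ = Q.isoSpec.inv ≫ κ ≫ q.left := Spec.map_preimage _
  let : Algebra sq.A Γ(W, ⊤) := ψ.hom.toAlgebra
  let : Algebra sq.A Γ(Q, ⊤) := φ.hom.toAlgebra
  have hetψ : Etale (Spec.map ψ) := by rw [hψ]; infer_instance
  have hsψ : Surjective (Spec.map ψ) := by rw [hψ]; infer_instance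
  have : Module.FaithfullyFlat sq.A Γ(W, ⊤) := by
    have : Module.Flat sq.A Γ(W, ⊤) :=
      (HasRingHomProperty.Spec_iff (P := @Flat)).1 (inferInstance : Flat (Spec.map ψ))
    exact Module.FaithfullyFlat.of_comap_surjective hsψ.surj
  have hcov : fppf (base sq.str Γ(W, ⊤)).left := fppf_of_etale (Spec.map ψ)
  let kC : pt sq.str Γ(Q, ⊤) ⟶ P := Over.homMk (Q.isoSpec.inv ≫ κ) (by
    show (Q.isoSpec.inv ≫ κ) ≫ P.hom = Spec.map φ ≫ sq.str
    rw [hφ, Category.assoc, Category.assoc, Category.assoc]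
    congr 2
    exact (Over.w q).symm)
  have hkC : kC ≫ q = base sq.str Γ(Q, ⊤) := Over.OverMorphism.ext (by
    show (Q.isoSpec.inv ≫ κ) ≫ q.left = Spec.map φ
    rw [hφ, Category.assoc])
  have hetk : Etale kC.left := inferInstanceAs (Etale (Q.isoSpec.inv ≫ κ))
  have hkfe : IsFormallyEtaleMor ((yon S).map kC) :=
    (formal_of_repWith _).2.1 ((repWith_yon_map_iff _ _).2 hetk)
  have : Algebra.FormallySmooth sq.A Γ(Q, ⊤) := by
    refine MorLib.formallySmooth_of_isFormallySmoothHom_SpecMap φ ?_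
    rw [hφ, ← Category.assoc]
    exact isFormallySmoothHom_comp
      (isFormallySmoothHom_of_isFormallySmoothMor ((isFormallyEtaleMor_iff _).1 hkfe).1) hq
  let c : (yon S).obj (pt sq.str Γ(Q, ⊤)) ⟶ G := (yon S).map kC ≫ π₁ ≫ a
  have hc : c ≫ b = (yon S).map (base sq.str Γ(Q, ⊤)) ≫ sq.bot := by
    simp only [c, Category.assoc, hw, ← Functor.map_comp_assoc, hkC]
  have huniq : ∀ (R R' : Type u) [CommRing R] [Algebra sq.A R] [CommRing R'] [Algebra sq.A R']
      (f : R →ₐ[sq.A] R'), Function.Surjective f → RingHom.ker f ^ 2 = ⊥ →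
      ∀ (g : Γ(Q, ⊤) →ₐ[sq.A] R') (x : (yon S).obj (pt sq.str R) ⟶ G),
        x ≫ b = (yon S).map (base sq.str R) ≫ sq.bot → Y sq.str f ≫ x = Y sq.str g ≫ c →
        ∃! h : Γ(Q, ⊤) →ₐ[sq.A] R, f.comp h = g ∧ Y sq.str h ≫ c = x := by
    intro R R' _ _ _ _ f hf hf2 g x hxb hx
    obtain ⟨l, ⟨hl₁, hl₂⟩, hl⟩ := existsUnique_lift ((formal_of_repWith a).2.1 ha) f hf hf2
      (Y sq.str g ≫ (yon S).map kC ≫ π₁) x (by rw [hx]; simp only [c, Category.assoc])
    let lP : (yon S).obj (pt sq.str R) ⟶ (yon S).obj P := hP.lift l ((yon S).map (base sq.str R)) (by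
      rw [← Category.assoc, hl₂, hxb])
    have hlP₁ : lP ≫ π₁ = l := hP.lift_fst _ _ _
    have hlP₂ : lP ≫ (yon S).map q = (yon S).map (base sq.str R) := hP.lift_snd _ _ _
    have hflP : Y sq.str f ≫ lP = Y sq.str g ≫ (yon S).map kC := by
      refine hP.hom_ext ?_ ?_
      · show (Y sq.str f ≫ lP) ≫ π₁ = (Y sq.str g ≫ (yon S).map kC) ≫ π₁
        rw [Category.assoc, Category.assoc, hlP₁, hl₁]
      · show (Y sq.str f ≫ lP) ≫ (yon S).map q = (Y sq.str g ≫ (yon S).map kC) ≫ (yon S).map q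
        rw [Category.assoc, hlP₂, Category.assoc, ← (yon S).map_comp kC q, hkC, ← Functor.map_comp,
          ← Functor.map_comp, sp_base, sp_base]
    obtain ⟨lC, ⟨hlC₁, hlC₂⟩, hlC⟩ := existsUnique_lift hkfe f hf hf2 (Y sq.str g) lP hflP
    obtain ⟨z, rfl⟩ := (yon S).map_surjective lC
    obtain ⟨h, rfl⟩ := exists_algHom_of_base z ((yon S).map_injective (by
      rw [Functor.map_comp, ← hkC, Functor.map_comp, ← Category.assoc, hlC₂, hlP₂]))
    refine ⟨h, ⟨sp_injective (str := sq.str) ((yon S).map_injective ?_), ?_⟩, fun h' hh' => ?_⟩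
    · rw [← sp_comp, Functor.map_comp]
      exact hlC₁
    · simp only [c, ← Category.assoc]
      rw [hlC₂, hlP₁, hl₂]
    · obtain ⟨h₁, h₂⟩ := hh'
      have hl' : Y sq.str h' ≫ (yon S).map kC ≫ π₁ = l := by
        refine hl _ ⟨?_, ?_⟩
        · rw [Y_comp, h₁]
        · rw [Category.assoc, Category.assoc]; exact h₂
      have hP' : Y sq.str h' ≫ (yon S).map kC = lP := by
        refine hP.hom_ext ?_ ?_
        · show (Y sq.str h' ≫ (yon S).map kC) ≫ π₁ = lP ≫ π₁
          rw [Category.assoc, hl', hlP₁]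
        · show (Y sq.str h' ≫ (yon S).map kC) ≫ (yon S).map q = lP ≫ (yon S).map q
          rw [Category.assoc, ← (yon S).map_comp kC q, hkC, hlP₂, ← Functor.map_comp, sp_base]
      refine sp_injective (str := sq.str) ((yon S).map_injective (hlC _ ⟨?_, hP'⟩))
      rw [← Functor.map_comp, sp_comp, h₁]
  -- the map on the covering of `T`
  let J := sq.I.map (algebraMap sq.A Γ(W, ⊤))
  let gB := quotToQuot sq.I Γ(W, ⊤)
  let i₀ : Spec (CommRingCat.of (Γ(W, ⊤) ⧸ J)) ⟶ pullback β sq.j.left :=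
    pullback.lift (Spec.map (CommRingCat.ofHom (Ideal.Quotient.mk J)) ≫ W.isoSpec.inv) (sp sq.str gB).left (by
      rw [Category.assoc, ← hψ]
      exact (congrArg CommaMorphism.left ((sp_base sq.str gB).trans
        (sp_base sq.str (Ideal.Quotient.mkₐ sq.A J)).symm)).symm)
  let tt : pt sq.str (Γ(W, ⊤) ⧸ J) ⟶ TV := Over.homMk (i₀ ≫ θ) (by
    rw [← Over.w p, Category.assoc, reassoc_of% hθ, ← Category.assoc i₀,
      show i₀ ≫ pullback.snd β sq.j.left = (sp sq.str gB).left from pullback.lift_snd _ _ _]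
    exact Over.w (sp sq.str gB))
  have htt : tt ≫ p = sp sq.str gB := Over.OverMorphism.ext (by
    show (i₀ ≫ θ) ≫ p.left = _
    rw [Category.assoc, hθ]
    exact pullback.lift_snd _ _ _)
  have htk : i₀ ≫ μ ≫ Q.isoSpec.hom ≫ kC.left = (tt ≫ mT).left := by
    show i₀ ≫ μ ≫ Q.isoSpec.hom ≫ Q.isoSpec.inv ≫ κ = (i₀ ≫ θ) ≫ mT.left
    rw [Iso.hom_inv_id_assoc, hμ, Category.assoc]
  let z : pt sq.str (Γ(W, ⊤) ⧸ J) ⟶ pt sq.str Γ(Q, ⊤) := Over.homMk (i₀ ≫ μ ≫ Q.isoSpec.hom) (by
    rw [← Over.w kC, Category.assoc, Category.assoc, ← Category.assoc Q.isoSpec.hom,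
      ← Category.assoc μ, ← Category.assoc i₀, htk]
    exact Over.w (tt ≫ mT))
  have hz : z ≫ kC = tt ≫ mT := Over.OverMorphism.ext (by
    show (i₀ ≫ μ ≫ Q.isoSpec.hom) ≫ kC.left = _
    rw [Category.assoc, Category.assoc, htk])
  obtain ⟨m₀, hm₀⟩ := exists_algHom_of_base z (by
    rw [← hkC, ← Category.assoc, hz, Category.assoc, hmT₂, ← Category.assoc, htt]
    exact sp_base sq.str gB)
  exact exists_lift b sq.I sq.sq_zero sq.bot sq.top c hc huniq hcov m₀ (by
    show (yon S).map (sp sq.str m₀) ≫ (yon S).map kC ≫ π₁ ≫ a = _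
    rw [hm₀, ← Category.assoc, ← Functor.map_comp, hz, Functor.map_comp, Category.assoc,
      ← Category.assoc ((yon S).map mT), hmT₁, hw₂, ← Category.assoc, ← Functor.map_comp, htt])

variable {F : Sp S}

theorem isFormallySmoothMor_of_chart (hH : IsAlgSpace H) (f : F ⟶ H) {U V : Over S}
    (a : (yon S).obj U ⟶ F) (c : (yon S).obj V ⟶ H) (h : U ⟶ V) (ha : RepWith @Etale a)
    (ha' : RepWith @Surjective a) (hc : RepWith @Etale c) (w : a ≫ f = (yon S).map h ≫ c)
    (hh : MoreMor.IsFormallySmoothHom h.left) : IsFormallySmoothMor f := by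
  refine isFormallySmoothMor_of_comp_etale hH ha ha' ?_
  rw [w]
  exact isFormallySmoothMor_comp (isFormallySmoothMor_yon_map hh)
    ((isFormallyEtaleMor_iff c).1 ((formal_of_repWith c).2.1 hc)).1

theorem isFormallySmoothMor_iff_locP (hF : IsAlgSpace F) (hH : IsAlgSpace H) (f : F ⟶ H) :
    IsFormallySmoothMor f ↔ LocP @MoreMor.IsFormallySmoothHom f := by
  refine ⟨fun hf U V a c h ha hc w => ?_, fun hf => ?_⟩
  · apply isFormallySmoothHom_of_isFormallySmoothMor
    refine isFormallySmoothMor_of_comp ((isFormallyEtaleMor_iff c).1 ((formal_of_repWith c).2.1 hc)).2 ?_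
    rw [← w]
    exact isFormallySmoothMor_comp ((isFormallyEtaleMor_iff a).1 ((formal_of_repWith a).2.1 ha)).1 hf
  · obtain ⟨U, V, a, c, h, ha, ha', hc, -, w⟩ := exists_chart hF hH f
    exact isFormallySmoothMor_of_chart hH f a c h ha ha' hc w (hf a c h ha hc w)

end Groth.Agent.Dsp6.FSDesc
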