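import Groth.Agent.Dsp6.DiscreteFibre
import Groth.Agent.AlgSpDec.Basic
import Groth.Agent.AlgSpPts.OpenSub
import Groth.Agent.AlgSpOne.GenFiniteSp
import Groth.Agent.AlgSpDec.PointsSpectral

/-!
# Finite fibres over points of codimension zero
-/

set_option autoImplicit false
set_option backward.isDefEq.respectTransparency false
set_option backward.isDefEq.respectTransparency.types false
set_option maxHeartbeats 400000

universe u

open CategoryTheory CategoryTheory.Limits AlgebraicGeometry AlgSp Groth.Agent.AlgSpLib Groth.Agent.AlgSpPts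
open Groth.Agent.AlgSpDec

namespace Groth.Agent.Dsp6

theorem fibreDimAt_zero_of_finite_fibre {U V : Scheme.{u}} (h : U ⟶ V) [LocallyOfFiniteType h] (u : U)
    (hf : (h ⁻¹' {h u}).Finite) : FlatMor.fibreDimAt h u = 0 := by
  rw [Groth.Agent.AlgSpDec.fibreDimAt_eq_zero_iff]
  haveI : LocallyOfFiniteType (h.fiberToSpecResidueField (h u)) :=
    MorphismProperty.pullback_snd (P := @LocallyOfFiniteType) _ _ ‹_›
  haveI := hf.to_subtype
  haveI : Finite ↥(h.fiber (h u)) := Finite.of_equiv _ (h.fiberHomeo (h u)).symm.toEquiv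
  haveI : LocallyQuasiFinite (h.fiberToSpecResidueField (h u)) :=
    LocallyQuasiFinite.of_finite_preimage_singleton _ fun _ => Set.toFinite _
  haveI := discreteTopology_of_lqf_field (K := ↥(V.residueField (h u))) (h.fiberToSpecResidueField (h u))
  exact isOpen_discrete _

variable {S : Scheme.{u}} {X Y : Space S}

/-- A point of a finite fibre of a morphism of decent spaces is a point of quasi-finiteness. -/
theorem qfAt_of_finite_fibre (f : X ⟶ Y) (hft : LocP @LocallyOfFiniteType f.hom) (hX : IsDecent X.obj)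
    (x : Points X.obj) (hfin : (Points.map f.hom ⁻¹' {Points.map f.hom x}).Finite) :
    HasAtMor QFQ f.hom x := by
  obtain ⟨V, b, v, hVa, hb, hv⟩ := exists_affine_chart_at Y.property (Points.map f.hom x)
  let P := pullback f.hom b
  have sq : IsPullback (pullback.fst f.hom b) (pullback.snd f.hom b) f.hom b := IsPullback.of_hasPullback _ _
  have hP : IsAlgSpace P := isAlgSpace_pullback X.property (IsAlgSpace.yon_obj _) Y.property _ _
  obtain ⟨z, hz, hz'⟩ := exists_point_of_isPullback sq (x := x) (y := Points.ofScheme V v)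
    (by rw [← hv, Points.ofPt_eq_map_ofScheme])
  obtain ⟨U, a, u, hUa, ha, hu⟩ := exists_affine_chart_at hP z
  obtain ⟨h, hh⟩ := (yon S).map_surjective (a ≫ pullback.snd f.hom b)
  have hae : RepWith @Etale (a ≫ pullback.fst f.hom b) :=
    repWith_comp ha (repWith_of_isPullback sq.flip hb)
  have hw : (a ≫ pullback.fst f.hom b) ≫ f.hom = (yon S).map h ≫ b := by
    rw [Category.assoc, sq.w, ← Category.assoc, hh]
  have hx : Points.ofPt (a ≫ pullback.fst f.hom b) u = x := by
    rw [← Points.map_ofPt, hu, hz]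
  haveI : IsAffine U.left := hUa
  haveI : LocallyOfFiniteType h.left := hft _ b h hae hb hw
  rw [← hx, qfAt_iff_chart hft hae hb hw u]
  have hhu : h.left u = v := by
    refine (Points.schemeHomeo V).injective ?_
    rw [← Groth.Agent.AlgSpOne.ofPt_yon_map, hh, ← Points.map_ofPt, hu, hz']
    rfl
  refine fibreDimAt_zero_of_finite_fibre h.left u ?_
  have hfib : ∀ x' : Points X.obj, (Points.ofPt (a ≫ pullback.fst f.hom b) ⁻¹' {x'}).Finite := fun x' => by
    obtain ⟨p, hp, -, hq⟩ := hX x'
    exact hp ▸ finite_fibre_of_repWith hae p hq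
  refine (hfin.biUnion fun x' _ => hfib x').subset fun u' hu' => ?_
  refine Set.mem_iUnion₂.2 ⟨_, ?_, rfl⟩
  show Points.map f.hom (Points.ofPt (a ≫ pullback.fst f.hom b) u') = Points.map f.hom x
  rw [Points.map_ofPt, hw, ofPt_comp, show h.left u' = v from (show h.left u' = h.left u from hu').trans hhu, hv]

/-- An open subspace of a quasi-separated space is quasi-separated. -/
theorem isQuasiSeparatedSp_of_mono {F G : Sp S} (j : F ⟶ G) [Mono j] (h : IsQuasiSeparatedSp G) :
    IsQuasiSeparatedSp F := by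
  haveI := isIso_diagonal_of_mono j
  rw [isQuasiSeparatedSp_iff_mor, (isTerminalYon S).hom_ext ((isTerminalYon S).from F)
    (j ≫ (isTerminalYon S).from G)]
  exact isQuasiSeparatedMor_comp (repWith_of_isIso _ _) ((isQuasiSeparatedSp_iff_mor _).1 h)

theorem exists_qc_open_containing' (X : Space S) {C : Set (Points X.obj)} (hC : IsCompact C) :
    ∃ (Q : Space S) (jQ : Q ⟶ X), RepWith @IsOpenImmersion jQ.hom ∧ IsQuasiCompactSp Q.obj ∧
      C ⊆ Set.range (Points.map jQ.hom) := by
  choose U a u hU ha hu using fun x : Points X.obj => exists_affine_chart_at X.property x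
  obtain ⟨s, hs⟩ := hC.elim_finite_subcover (fun x => Set.range (Points.ofPt (a x)))
    (fun x => (isOpenMap_ofPt (ha x)).isOpen_range) fun x _ => Set.mem_iUnion.2 ⟨x, u x, hu x⟩
  obtain ⟨Q, jQ, hQ, hjQ, hr⟩ := exists_open_subspace X.property (W := ⋃ x ∈ s, Set.range (Points.ofPt (a x)))
    (isOpen_biUnion fun x _ => (isOpenMap_ofPt (ha x)).isOpen_range)
  refine ⟨⟨Q, hQ⟩, ObjectProperty.homMk jQ, hjQ, (isQuasiCompactSp_iff hQ).2 ⟨?_⟩, hr ▸ hs⟩
  refine (isOpenEmbedding_map' X.property hjQ).isInducing.isCompact_iff.2 ?_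
  rw [Set.image_univ, hr]
  refine s.finite_toSet.isCompact_biUnion fun x _ => ?_
  have : IsAffine (U x).left := hU x
  exact isCompact_range (Points.continuous_ofPt (a x))

theorem finite_fibre_of_isFiniteMor (f : X ⟶ Y) (hf : IsFiniteMor f.hom) (y : Points Y.obj) :
    (Points.map f.hom ⁻¹' {y}).Finite := by
  obtain ⟨k, rfl⟩ := Points.mk_surjective y
  obtain ⟨W, i, fst, sq, -, hi⟩ := hf (Z := k.pt) (inferInstanceAs (IsAffine (Spec _))) k.toHom
  have : IsFinite i.left := hi
  haveI : Finite ↥W.left := by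
    haveI : Subsingleton ↥k.pt.left := inferInstanceAs (Subsingleton (PrimeSpectrum k.K))
    refine Set.finite_univ_iff.1 ((i.left.finite_preimage_singleton (IsLocalRing.closedPoint k.K)).subset ?_)
    exact fun w _ => Subsingleton.elim (α := ↥k.pt.left) _ _
  refine (Set.finite_range (Points.ofPt fst)).subset fun x hx => ?_
  obtain ⟨z, hz, -⟩ := exists_point_of_isPullback sq (x := x)
    (y := Points.ofScheme k.pt (IsLocalRing.closedPoint k.K))
    (by rw [← Points.ofPt_eq_map_ofScheme, Points.ofPt_toHom]; exact hx)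
  exact ⟨Points.toScheme W z, by rw [Points.ofPt_eq_map_ofScheme, Points.ofScheme_toScheme, hz]⟩

theorem finite_fibre_iff_finite_nhd [QuasiSeparatedSpace ↥S] (f : X ⟶ Y) (hqs : IsQuasiSeparatedMor f.hom)
    (hft : LocP @LocallyOfFiniteType f.hom) (hY : IsQuasiSeparatedSp Y.obj) (y : Points Y.obj)
    (hy : HasAt (fun U u => ringKrullDim ↥(U.presheaf.stalk u) = 0) Y.obj y) :
    (Points.map f.hom ⁻¹' {y}).Finite ↔
      ∃ (X' Y' : Space S) (i : X' ⟶ X) (j : Y' ⟶ Y) (f' : X' ⟶ Y'), RepWith @IsOpenImmersion i.hom ∧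
        RepWith @IsOpenImmersion j.hom ∧ f' ≫ j = i ≫ f ∧ y ∈ Set.range (Points.map j.hom) ∧
          Points.map f.hom ⁻¹' {y} ⊆ Set.range (Points.map i.hom) ∧ IsFiniteMor f'.hom := by
  constructor
  · intro hfin
    have hXqs : IsQuasiSeparatedSp X.obj := by
      rw [isQuasiSeparatedSp_iff_mor, (isTerminalYon S).hom_ext ((isTerminalYon S).from X.obj)
        (f.hom ≫ (isTerminalYon S).from Y.obj)]
      exact isQuasiSeparatedMor_comp hqs ((isQuasiSeparatedSp_iff_mor _).1 hY)
    obtain ⟨Q, jQ, hjQ, hQqc, hsub⟩ := exists_qc_open_containing' X hfin.isCompact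
    haveI : Mono jQ.hom := mono_of_openImm hjQ
    have hQqs := isQuasiSeparatedSp_of_mono jQ.hom hXqs
    let g : Q ⟶ Y := jQ ≫ f
    have hg : LocP @LocallyOfFiniteType g.hom :=
      locP_comp Q.property X.property Y.property
        (locP_of_repWith (repWith_mono (fun _ _ e (_ : IsOpenImmersion e) => (inferInstance : LocallyOfFiniteType e)) _ hjQ)) hft
    have hgq : IsQuasiSeparatedMor g.hom := by
      haveI := isIso_diagonal_of_mono jQ.hom
      exact isQuasiSeparatedMor_comp (repWith_of_isIso _ _) hqs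
    have hginj : Function.Injective (Points.map jQ.hom) := (isOpenEmbedding_map' X.property hjQ).injective
    have hgfin : (Points.map g.hom ⁻¹' {y}).Finite := by
      refine Set.Finite.of_finite_image (hfin.subset ?_) hginj.injOn
      rintro _ ⟨q, hq, rfl⟩
      show Points.map f.hom _ = y
      rw [← Points.map_comp]
      exact hq
    obtain ⟨Y', j, X', fst, snd, hj, hy', sq, hfinite⟩ := Groth.Agent.AlgSpOne.exists_finite_open Q Y g.hom hgq
      ⟨hg, isQuasiCompactMor_of_qc_qs Q.property Y.property hQqc hY g.hom⟩ y hy fun q hq =>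
        qfAt_of_finite_fibre g hg (isDecent_of_isQuasiSeparatedSp Q.property hQqs) q (by rw [hq]; exact hgfin)
    refine ⟨X', Y', ObjectProperty.homMk snd ≫ jQ, j, fst, repWith_comp (repWith_of_isPullback sq hj) hjQ, hj,
      ?_, hy', fun x hx => ?_, hfinite⟩
    · apply ObjectProperty.hom_ext
      show fst.hom ≫ j.hom = (snd ≫ jQ.hom) ≫ f.hom
      rw [sq.w, Category.assoc]; rfl
    · obtain ⟨q, rfl⟩ := hsub hx
      obtain ⟨y', hy''⟩ := hy'
      obtain ⟨z, -, hz⟩ := exists_point_of_isPullback sq (x := y') (y := q) (by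
        rw [hy'', ← hx, ← Points.map_comp]; rfl)
      exact ⟨z, by show Points.map (snd ≫ jQ.hom) z = _; rw [Points.map_comp, hz]⟩
  · rintro ⟨X', Y', i, j, f', hi, hj, w, ⟨y', hy'⟩, hsub, hfinite⟩
    refine ((finite_fibre_of_isFiniteMor f' hfinite y').image (Points.map i.hom)).subset fun x hx => ?_
    obtain ⟨x', rfl⟩ := hsub hx
    refine ⟨x', (isOpenEmbedding_map' Y.property hj).injective ?_, rfl⟩
    rw [hy', ← Points.map_comp, show f'.hom ≫ j.hom = i.hom ≫ f.hom from
      congrArg InducedCategory.Hom.hom w, Points.map_comp]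
    exact hx

end Groth.Agent.Dsp6
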