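import Groth.Agent.Dsp6.OverFieldPt
import Groth.Agent.Dsp6.FiniteFibreNhd
import Groth.Agent.AlgSpC7.FibreDimSp

/-!
# Topology of the fibres of a morphism locally of finite type
-/

set_option autoImplicit false
set_option backward.isDefEq.respectTransparency false
set_option backward.isDefEq.respectTransparency.types false
set_option maxHeartbeats 400000

universe u

open CategoryTheory CategoryTheory.Limits AlgebraicGeometry AlgSp Order TopologicalSpace
open Groth.Agent.AlgSpLib Groth.Agent.AlgSpPts Groth.Agent.AlgSpDec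

namespace Groth.Agent.Dsp6.FibreTop

theorem isOpen_preimage_inter_fibre {U V : Scheme.{u}} (h : U ⟶ V) [LocallyOfFiniteType h] (u : U)
    (h0 : FlatMor.fibreDimAt h u = 0) : ∃ O : Set U, IsOpen O ∧ u ∈ O ∧ ∀ z ∈ O, h z = h u → z = u := by
  obtain ⟨O, hO, e⟩ := (h.fiberι (h u)).isEmbedding.isInducing.isOpen_iff.1
    ((Groth.Agent.AlgSpDec.fibreDimAt_eq_zero_iff h u).1 h0)
  refine ⟨O, hO, ?_, fun z hz hzu => ?_⟩
  · have : h.asFiber u ∈ (h.fiberι (h u)) ⁻¹' O := e.symm ▸ rfl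
    simpa [Scheme.Hom.fiberι_asFiber] using this
  · obtain ⟨φ, hφ⟩ : z ∈ Set.range (h.fiberι (h u)) := by rw [Scheme.Hom.range_fiberι]; exact hzu
    have : φ ∈ ({h.asFiber u} : Set _) := e ▸ (show φ ∈ (h.fiberι (h u)) ⁻¹' O by
      show h.fiberι (h u) φ ∈ O
      rw [hφ]; exact hz)
    rw [← hφ, Set.mem_singleton_iff.1 this, Scheme.Hom.fiberι_asFiber]

/-- A locally closed set in a finite type fibre containing a point contains a point closed in the fibre. -/
theorem exists_closed_in_fibre {U V : Scheme.{u}} (h : U ⟶ V) [LocallyOfFiniteType h] (u : U)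
    {Z : Set U} (hu : u ∈ Z)
    (hZ : IsLocallyClosed ((h.fiberι (h u)) ⁻¹' Z)) :
    ∃ u₀ ∈ Z, h u₀ = h u ∧ FibDim.rd h u₀ = 0 := by
  haveI : LocallyOfFiniteType (h.fiberToSpecResidueField (h u)) :=
    MorphismProperty.pullback_snd (P := @LocallyOfFiniteType) _ _ ‹_›
  haveI : JacobsonSpace ↥(h.fiber (h u)) :=
    LocallyOfFiniteType.jacobsonSpace (h.fiberToSpecResidueField (h u))
  obtain ⟨φ, hφ, hc⟩ := nonempty_inter_closedPoints (Z := (h.fiberι (h u)) ⁻¹' Z)
    ⟨h.asFiber u, by simpa [Scheme.Hom.fiberι_asFiber] using hu⟩ hZ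
  have hf : h (h.fiberι (h u) φ) = h u :=
    (Scheme.Hom.range_fiberι h (h u)).subset ⟨φ, rfl⟩
  refine ⟨_, hφ, hf, DimFormula.rd_eq_zero_of_closed h fun z hz hsp => ?_⟩
  obtain ⟨ψ, rfl⟩ : z ∈ Set.range (h.fiberι (h u)) := by
    rw [Scheme.Hom.range_fiberι]; exact hz.trans hf
  have hs : φ ⤳ ψ := (h.fiberι (h u)).isEmbedding.isInducing.specializes_iff.1 hsp
  exact congrArg _ (hc.closure_eq ▸ hs.mem_closure : ψ ∈ ({φ} : Set _))

variable {S : Scheme.{u}} {X Y : Space S} {f : X ⟶ Y} {y : Points Y.obj}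

/-- Charts by affine schemes through a point. -/
theorem exists_chart_over (f : X ⟶ Y) (x : Points X.obj) :
    ∃ (U V : Over S) (a : (yon S).obj U ⟶ X.obj) (b : (yon S).obj V ⟶ Y.obj) (h : U ⟶ V) (u : ↥U.left),
      IsAffine U.left ∧ IsAffine V.left ∧ RepWith @Etale a ∧ RepWith @Etale b ∧
        a ≫ f.hom = (yon S).map h ≫ b ∧ Points.ofPt a u = x := by
  obtain ⟨V, b, v, hVa, hb, hv⟩ := exists_affine_chart_at Y.property (Points.map f.hom x)
  have sq : IsPullback (pullback.fst f.hom b) (pullback.snd f.hom b) f.hom b := IsPullback.of_hasPullback _ _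
  obtain ⟨z, hz, hz'⟩ := exists_point_of_isPullback sq (x := x) (y := Points.ofScheme V v)
    (by rw [← hv, Points.ofPt_eq_map_ofScheme])
  obtain ⟨U, a, u, hUa, ha, hu⟩ := exists_affine_chart_at
    (isAlgSpace_pullback X.property (IsAlgSpace.yon_obj _) Y.property _ _) z
  obtain ⟨h, hh⟩ := (yon S).map_surjective (a ≫ pullback.snd f.hom b)
  exact ⟨U, V, a ≫ pullback.fst f.hom b, b, h, u, hUa, hVa, repWith_comp ha (repWith_of_isPullback sq.flip hb), hb,
    by rw [Category.assoc, sq.w, ← Category.assoc, hh], by rw [← Points.map_ofPt, hu, hz]⟩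

theorem mem_fibre_iff {U V : Over S} {a : (yon S).obj U ⟶ X.obj} {b : (yon S).obj V ⟶ Y.obj} {h : U ⟶ V}
    (w : a ≫ f.hom = (yon S).map h ≫ b) (z : ↥U.left) :
    Points.map f.hom (Points.ofPt a z) = Points.ofPt b (h.left z) := by
  rw [Points.map_ofPt, w, ofPt_comp]

/-- In a decent target a point of quasi-finiteness is isolated in its fibre. -/
theorem exists_open_inter_fibre (hf : LocP @LocallyOfFiniteType f.hom) (hY : IsDecent Y.obj) (x : Points X.obj)
    (hq : HasAtMor QFQ f.hom x) :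
    ∃ O : Set (Points X.obj), IsOpen O ∧ x ∈ O ∧
      ∀ x' ∈ O, Points.map f.hom x' = Points.map f.hom x → x' = x := by
  obtain ⟨U, V, a, b, h, u, hU, hV, ha, hb, w, rfl⟩ := exists_chart_over f x
  haveI : LocallyOfFiniteType h.left := hf a b h ha hb w
  obtain ⟨O₁, hO₁, huO₁, hO₁u⟩ := isOpen_preimage_inter_fibre h.left u ((qfAt_iff_chart hf ha hb w u).1 hq)
  let Vy : Set ↥V.left := {v | Points.ofPt b v = Points.ofPt b (h.left u) ∧ v ≠ h.left u}
  have hfin : Vy.Finite := by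
    refine Set.Finite.subset ?_ (fun v hv => hv.1 : Vy ⊆ Points.ofPt b ⁻¹' {Points.ofPt b (h.left u)})
    haveI : IsAffine V.left := hV
    exact finite_fibre Y.property hY hb _
  let O₂ : Set ↥U.left := O₁ ∩ h.left ⁻¹' (⋃ v ∈ Vy, closure {v})ᶜ
  have hO₂ : IsOpen O₂ := hO₁.inter
    ((hfin.isClosed_biUnion fun _ _ => isClosed_closure).isOpen_compl.preimage h.left.continuous)
  refine ⟨Points.ofPt a '' O₂, isOpenMap_ofPt ha _ hO₂, ⟨u, ⟨huO₁, fun hm => ?_⟩, rfl⟩, ?_⟩
  · obtain ⟨v, hv, hvu⟩ := Set.mem_iUnion₂.1 hm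
    exact hv.2 (eq_of_specializes_of_isDecent hY hb hv.1.symm (specializes_iff_mem_closure.2 hvu)).symm
  · rintro _ ⟨z, ⟨hz, hz'⟩, rfl⟩ he
    rw [mem_fibre_iff w, mem_fibre_iff w] at he
    by_cases e : h.left z = h.left u
    · rw [hO₁u z hz e]
    · exact absurd (Set.mem_iUnion₂.2 ⟨h.left z, ⟨he, e⟩, subset_closure (Set.mem_singleton _)⟩) hz'

theorem finite_qf_chart_fibre (hf : LocP @LocallyOfFiniteType f.hom) (hY : IsDecent Y.obj) (x : Points X.obj)
    (hq : HasAtMor QFQ f.hom x) {U V : Over S} [IsAffine U.left] [IsAffine V.left]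
    {a : (yon S).obj U ⟶ X.obj} {b : (yon S).obj V ⟶ Y.obj} {h : U ⟶ V} (ha : RepWith @Etale a)
    (hb : RepWith @Etale b) (w : a ≫ f.hom = (yon S).map h ≫ b) : (Points.ofPt a ⁻¹' {x}).Finite := by
  haveI : LocallyOfFiniteType h.left := hf a b h ha hb w
  haveI : QuasiCompact h.left := HasAffineProperty.iff_of_isAffine.2 (inferInstanceAs (CompactSpace ↥U.left))
  refine ((finite_fibre Y.property hY hb (Points.map f.hom x)).biUnion
    fun v _ => FieldFibre.finite_qf_points h.left v).subset fun z hz => ?_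
  refine Set.mem_iUnion₂.2 ⟨h.left z, ?_, rfl, ?_⟩
  · show Points.ofPt b (h.left z) = _
    rw [← mem_fibre_iff w, show Points.ofPt a z = x from hz]
  · rw [← qfAt_iff_chart hf ha hb w z, show Points.ofPt a z = x from hz]
    exact hq

/-- In a decent target a point of quasi-finiteness is closed in its fibre. -/
theorem eq_of_specializes_in_fibre (hf : LocP @LocallyOfFiniteType f.hom) (hY : IsDecent Y.obj) {x x' : Points X.obj}
    (hq : HasAtMor QFQ f.hom x) (hs : x ⤳ x') (he : Points.map f.hom x' = Points.map f.hom x) : x' = x := by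
  obtain ⟨U, V, a, b, h, u, hU, hV, ha, hb, w, rfl⟩ := exists_chart_over f x'
  haveI : LocallyOfFiniteType h.left := hf a b h ha hb w
  haveI : IsAffine U.left := hU
  haveI : IsAffine V.left := hV
  obtain ⟨z, hzu, hzx⟩ := exists_specializes_of_isOpenMap (isOpenMap_ofPt ha)
    (finite_qf_chart_fibre hf hY x hq ha hb w) hs
  have hh : h.left z = h.left u := (eq_of_specializes_of_isDecent hY hb
    (by rw [← mem_fibre_iff w, ← mem_fibre_iff w, hzx, he]) (hzu.map h.left.continuous)).symm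
  have h0 : FibDim.rd h.left z = 0 :=
    rd_eq_zero_of_fibreDimAt h.left z ((qfAt_iff_chart hf ha hb w z).1 (hzx.symm ▸ hq))
  by_contra hne
  have := FibDim.rd_lt (f := h.left) hzu (fun e => hne (by rw [← e, hzx])) hh
  rw [h0] at this
  exact Nat.not_lt_zero _ this

theorem isOpen_singleton_in_fibre (hf : LocP @LocallyOfFiniteType f.hom) (hY : IsDecent Y.obj) {x : Points X.obj}
    (hx : x ∈ Points.map f.hom ⁻¹' {y}) (hq : HasAtMor QFQ f.hom x) :
    IsOpen ({⟨x, hx⟩} : Set ↥(Points.map f.hom ⁻¹' {y})) := by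
  obtain ⟨O, hO, hxO, huniq⟩ := exists_open_inter_fibre hf hY x hq
  convert hO.preimage (continuous_subtype_val (p := fun z => z ∈ Points.map f.hom ⁻¹' {y})) using 1
  ext ⟨z, hz⟩
  refine ⟨fun e => ?_, fun hz' => Subtype.ext (huniq z hz' ((show _ = y from hz).trans (show _ = y from hx).symm))⟩
  show z ∈ O
  rw [show z = x from congrArg Subtype.val e]; exact hxO

theorem isClosed_singleton_in_fibre (hf : LocP @LocallyOfFiniteType f.hom) (hY : IsDecent Y.obj) {x : Points X.obj}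
    (hx : x ∈ Points.map f.hom ⁻¹' {y}) (hq : HasAtMor QFQ f.hom x) :
    IsClosed ({⟨x, hx⟩} : Set ↥(Points.map f.hom ⁻¹' {y})) := by
  refine isClosed_of_closure_subset fun z hz => Subtype.ext (eq_of_specializes_in_fibre hf hY hq ?_
    ((show _ = y from z.2).trans (show _ = y from hx).symm))
  exact (specializes_iff_mem_closure.2 hz).map continuous_subtype_val

theorem rd_eq_zero_of_locClosed (hf : LocP @LocallyOfFiniteType f.hom) {U V : Over S}
    {a : (yon S).obj U ⟶ X.obj} {b : (yon S).obj V ⟶ Y.obj} {h : U ⟶ V} (ha : RepWith @Etale a)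
    (hb : RepWith @Etale b) (w : a ≫ f.hom = (yon S).map h ≫ b) (u : ↥U.left)
    (hu : Points.ofPt a u ∈ Points.map f.hom ⁻¹' {y})
    (hlc : IsLocallyClosed ({⟨_, hu⟩} : Set ↥(Points.map f.hom ⁻¹' {y}))) : FibDim.rd h.left u = 0 := by
  haveI : LocallyOfFiniteType h.left := hf a b h ha hb w
  let φ : ↥(h.left.fiber (h.left u)) → ↥(Points.map f.hom ⁻¹' {y}) := fun z =>
    ⟨Points.ofPt a (h.left.fiberι (h.left u) z), by
      show Points.map f.hom _ = y
      rw [mem_fibre_iff w, show h.left (h.left.fiberι (h.left u) z) = h.left u from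
        (Scheme.Hom.range_fiberι h.left (h.left u)).subset ⟨z, rfl⟩, ← mem_fibre_iff w]
      exact hu⟩
  have hφ : Continuous φ :=
    ((Points.continuous_ofPt a).comp (h.left.fiberι (h.left u)).continuous).subtype_mk _
  obtain ⟨u₀, hu₀, -, h0⟩ := exists_closed_in_fibre h.left u (Z := {z | Points.ofPt a z = Points.ofPt a u}) rfl (by
    convert hlc.preimage hφ using 1
    ext z
    exact ⟨fun e => Subtype.ext e, fun e => congrArg Subtype.val e⟩)
  have h1 := ResTrdeg.rdeg_congr (f := f.hom) (u := u₀) (u' := u) ha hb w ha hb w hu₀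
  have h2 : (FibDim.rd h.left u₀ : Cardinal.{u}) = (FibDim.rd h.left u : Cardinal.{u}) := by
    rw [FibDim.rd_eq_rdeg, FibDim.rd_eq_rdeg]; exact h1
  rw [h0] at h2
  exact_mod_cast h2.symm

theorem qfAt_of_locClosed (hf : LocP @LocallyOfFiniteType f.hom) {x : Points X.obj}
    (hx : x ∈ Points.map f.hom ⁻¹' {y})
    (hlc : ∀ z : ↥(Points.map f.hom ⁻¹' {y}), z ⤳ ⟨x, hx⟩ →
      IsLocallyClosed ({z} : Set ↥(Points.map f.hom ⁻¹' {y}))) : HasAtMor QFQ f.hom x := by
  obtain ⟨U, V, a, b, h, u, -, -, ha, hb, w, rfl⟩ := exists_chart_over f x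
  haveI : LocallyOfFiniteType h.left := hf a b h ha hb w
  rw [qfAt_iff_chart hf ha hb w, FieldFibre.fibreDimAt_eq_zero_iff_rd]
  intro z hz hfz
  have hzy : Points.ofPt a z ∈ Points.map f.hom ⁻¹' {y} := by
    show Points.map f.hom _ = y
    rw [mem_fibre_iff w, hfz, ← mem_fibre_iff w]; exact hx
  refine rd_eq_zero_of_locClosed hf ha hb w z hzy (hlc ⟨_, hzy⟩ ?_)
  exact (Topology.IsInducing.subtypeVal.specializes_iff).1 (hz.map (Points.continuous_ofPt a))

theorem qfAt_iff_isOpen_in_fibre (hf : LocP @LocallyOfFiniteType f.hom) (hY : IsDecent Y.obj) {x : Points X.obj}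
    (hx : x ∈ Points.map f.hom ⁻¹' {y}) :
    IsOpen ({⟨x, hx⟩} : Set ↥(Points.map f.hom ⁻¹' {y})) ↔ HasAtMor QFQ f.hom x := by
  refine ⟨fun h => qfAt_of_locClosed hf hx fun z hz => ?_, isOpen_singleton_in_fibre hf hY hx⟩
  rw [show z = ⟨x, hx⟩ from hz.mem_open h rfl]
  exact h.isLocallyClosed

theorem qfAt_iff_isClosed_in_fibre (hf : LocP @LocallyOfFiniteType f.hom) (hY : IsDecent Y.obj) {x : Points X.obj}
    (hx : x ∈ Points.map f.hom ⁻¹' {y}) :
    (IsClosed ({⟨x, hx⟩} : Set ↥(Points.map f.hom ⁻¹' {y})) ∧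
      ∀ x' : ↥(Points.map f.hom ⁻¹' {y}), x' ⤳ ⟨x, hx⟩ → x' = ⟨x, hx⟩) ↔ HasAtMor QFQ f.hom x := by
  refine ⟨fun h => qfAt_of_locClosed hf hx fun z hz => ?_, fun hq => ?_⟩
  · rw [h.2 z hz]; exact h.1.isLocallyClosed
  · exact ⟨isClosed_singleton_in_fibre hf hY hx hq,
      fun z hz => hz.mem_open (isOpen_singleton_in_fibre hf hY hx hq) rfl⟩

theorem eq_of_specializes_of_dim_le {T : Type*} [TopologicalSpace T] [T0Space T]
    (hd : topologicalKrullDim T ≤ 0) {a b : T} (h : a ⤳ b) : a = b := by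
  have hmin := Order.krullDim_nonpos_iff_forall_isMin.1 hd
    ⟨closure {a}, isIrreducible_singleton.closure, isClosed_closure⟩
  exact (h.antisymm (specializes_iff_mem_closure.2
    (hmin (b := ⟨closure {b}, isIrreducible_singleton.closure, isClosed_closure⟩)
      (specializes_iff_closure_subset.1 h) (subset_closure rfl)))).eq

/-- In a decent space a point where the fibre has local dimension zero is a point of quasi-finiteness. -/
theorem qfAt_of_localDim (hf : LocP @LocallyOfFiniteType f.hom) (hX : IsDecent X.obj) {x : Points X.obj}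
    (hx : x ∈ Points.map f.hom ⁻¹' {y})
    (h : FlatMor.localDim ↥(Points.map f.hom ⁻¹' {y}) ⟨x, hx⟩ = 0) : HasAtMor QFQ f.hom x := by
  haveI := t0Space_points X.property hX
  let F := ↥(Points.map f.hom ⁻¹' {y})
  haveI : Nonempty {U : Opens F // (⟨x, hx⟩ : F) ∈ U} := ⟨⟨⊤, trivial⟩⟩
  obtain ⟨O, hO⟩ := ciInf_mem fun U : {U : Opens F // (⟨x, hx⟩ : F) ∈ U} => topologicalKrullDim (U.1 : Set F)
  have hd0 : topologicalKrullDim (O.1 : Set F) ≤ 0 := hO.trans_le h.le
  have key : ∀ z : F, z ∈ O.1 → ∀ z' : F, z' ∈ O.1 → z ⤳ z' → z = z' := fun z hz z' hz' hs =>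
    congrArg Subtype.val (eq_of_specializes_of_dim_le hd0 (a := (⟨z, hz⟩ : (O.1 : Set F))) (b := ⟨z', hz'⟩)
      (Topology.IsInducing.subtypeVal.specializes_iff.1 hs))
  refine qfAt_of_locClosed hf hx fun z hz => ?_
  rw [key z (hz.mem_open O.1.isOpen O.2) _ O.2 hz]
  refine ⟨O.1, closure {⟨x, hx⟩}, O.1.isOpen, isClosed_closure, Set.Subset.antisymm ?_ ?_⟩
  · rintro z (rfl : z = _)
    exact ⟨O.2, subset_closure rfl⟩
  · rintro z ⟨hz, hxz⟩
    exact (key _ O.2 z hz (specializes_iff_mem_closure.2 hxz)).symm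

theorem isLocallyClosed_singleton_of_finite {T : Type*} [TopologicalSpace T] [T0Space T] [Finite T] (x : T) :
    IsLocallyClosed ({x} : Set T) := by
  refine ⟨(⋃ y ∈ {y | x ⤳ y ∧ y ≠ x}, closure {y})ᶜ, closure {x},
    ((Set.toFinite _).isClosed_biUnion fun _ _ => isClosed_closure).isOpen_compl, isClosed_closure, ?_⟩
  refine Set.Subset.antisymm ?_ ?_
  · rintro _ rfl
    refine ⟨fun hmem => ?_, subset_closure rfl⟩
    obtain ⟨y, ⟨hxy, hne⟩, hyx⟩ := Set.mem_iUnion₂.1 hmem
    exact hne ((hxy.antisymm (specializes_iff_mem_closure.2 hyx)).eq).symm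
  · rintro y ⟨hyC, hy⟩
    by_contra hne
    exact hyC (Set.mem_iUnion₂.2 ⟨y, ⟨specializes_iff_mem_closure.2 hy, hne⟩, subset_closure rfl⟩)

theorem qfAt_of_finite (hf : LocP @LocallyOfFiniteType f.hom) (hX : IsDecent X.obj) {x : Points X.obj}
    (hx : x ∈ Points.map f.hom ⁻¹' {y}) (hfin : (Points.map f.hom ⁻¹' {y}).Finite) :
    HasAtMor QFQ f.hom x := by
  haveI := t0Space_points X.property hX
  haveI := hfin.to_subtype
  exact qfAt_of_locClosed hf hx fun z _ => isLocallyClosed_singleton_of_finite z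

open OverFieldPt in
theorem qfAt_iff_fibre (hf : LocP @LocallyOfFiniteType f.hom) (r : FieldPt Y.obj) {Xk : Space S} {fst : Xk ⟶ X}
    {snd : Xk.obj ⟶ (yon S).obj r.pt} (hsq : IsPullback fst.hom snd f.hom r.toHom) (xt : Points Xk.obj) :
    HasAt (fun U u => FlatMor.localDim ↥U u = 0) Xk.obj xt ↔ HasAtMor QFQ f.hom (Points.map fst.hom xt) := by
  haveI : Subsingleton ↥(Spec (CommRingCat.of r.K)) := inferInstanceAs (Subsingleton (PrimeSpectrum r.K))
  haveI : Subsingleton ↥r.pt.left := inferInstanceAs (Subsingleton (PrimeSpectrum r.K))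
  have hp : LocP @LocallyOfFiniteType snd :=
    locP_of_isPullback hsq X.property Y.property (IsAlgSpace.yon_obj _) hf
  rw [qfAt_iff hf]
  constructor
  · rintro ⟨U, a, u, ha, rfl, hu⟩
    haveI := lft_hom hp ha
    refine FieldFibre.hasAtMor_zero_of_fibre hsq X.property Y.property hf _ a ha _ (map_eq_toPt a) u rfl ?_
    rw [FieldFibre.fibreDimAt_of_subsingleton]
    exact hu
  · intro h
    have h' := RelDimSp.baseChange hsq X.property Y.property (IsAlgSpace.yon_obj _) hf xt 0 h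
    obtain ⟨U, a, u, -, ha, rfl⟩ := exists_affine_chart_at Xk.property xt
    rw [FieldFibre.hasAtMor_iff hp ha (repWith_id _ _) (by rw [Category.comp_id]; exact map_eq_toPt a),
      FieldFibre.fibreDimAt_of_subsingleton] at h'
    exact ⟨U, a, u, ha, rfl, h'⟩

theorem localDim_le (T : Type*) [TopologicalSpace T] (x : T) :
    FlatMor.localDim T x ≤ topologicalKrullDim T :=
  (iInf_le_of_le (a := topologicalKrullDim T) ⟨⊤, trivial⟩ Topology.IsInducing.subtypeVal.topologicalKrullDim_le)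

theorem localDim_nonneg (T : Type*) [TopologicalSpace T] (x : T) : 0 ≤ FlatMor.localDim T x :=
  le_iInf fun U => Order.krullDim_nonneg_iff.2
    ⟨⟨closure {(⟨x, U.2⟩ : (U.1 : Set T))}, isIrreducible_singleton.closure, isClosed_closure⟩⟩

theorem topologicalKrullDim_of_discrete (T : Type*) [TopologicalSpace T] [DiscreteTopology T] [Nonempty T] :
    topologicalKrullDim T = 0 :=
  le_antisymm (topologicalKrullDim_zero_of_discreteTopology T)
    (Order.krullDim_nonneg_iff.2 ⟨⟨closure {Classical.arbitrary T}, isIrreducible_singleton.closure, isClosed_closure⟩⟩)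

end Groth.Agent.Dsp6.FibreTop
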