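import Groth.Agent.AlgSpQ4.ElemCover
import Groth.Agent.AlgSpQ4.Induction
import Groth.Agent.AlgSpDec.Glue
import Groth.Agent.AlgSpDec.LqfQuot
import Groth.Agent.AlgSpDec.RedInduced
import Groth.Agent.AlgSpLib.FpqcDescent
import Groth.Agent.AlgSpLib.CartierRegular

/-!
# Finite filtrations of quasi-compact quasi-separated spaces by schemes
-/

set_option autoImplicit false
set_option maxHeartbeats 400000
set_option backward.isDefEq.respectTransparency false
set_option backward.isDefEq.respectTransparency.types false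

universe u

open CategoryTheory CategoryTheory.Limits AlgebraicGeometry AlgSp Topology
open Groth.Agent.AlgSpLib Groth.Agent.AlgSpPts Groth.Agent.AlgSpDec Groth.Agent.AlgSpQ4

namespace Groth.Agent.Dsp6

variable {S : Scheme.{u}} {X : Sp S}

/-- Chains of quasi-compact opens enlarged by affine charts without double values outside the smaller one. -/
def ElemChain (X : Sp S) (Q : Set (Points X)) : Prop :=
  ∃ (n : ℕ) (W : ℕ → Set (Points X)), W 0 = ∅ ∧ W n = Q ∧ (∀ i, IsOpen (W i) ∧ IsCompact (W i)) ∧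
    ∀ i, i < n → ∃ (V : Over S) (b : (yon S).obj V ⟶ X), IsAffine V.left ∧ RepWith @Etale b ∧
      W (i + 1) = W i ∪ Set.range (Points.ofPt b) ∧ NoDbl b (W i)

theorem elemChain_univ [QuasiSeparatedSpace ↥S] (hX : IsAlgSpace X) (hqc : IsQuasiCompactSp X)
    (hqs : IsQuasiSeparatedSp X) : ElemChain X Set.univ := by
  refine points_induction hX hqc hqs (ElemChain X) ∅ isOpen_empty isCompact_empty
    ⟨0, fun _ => ∅, rfl, rfl, fun _ => ⟨isOpen_empty, isCompact_empty⟩, fun i hi => absurd hi (Nat.not_lt_zero i)⟩ ?_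
  rintro Q₁ Q₂ V b hQ₁ hQ₁c - hV hb rfl hn ⟨n, W, h0, hn', hW, hstep⟩
  have hQ₂ : IsOpen (Q₁ ∪ Set.range (Points.ofPt b)) ∧ IsCompact (Q₁ ∪ Set.range (Points.ofPt b)) :=
    ⟨hQ₁.union (isOpenMap_ofPt hb).isOpen_range,
      hQ₁c.union (isCompact_range (Points.continuous_ofPt b))⟩
  refine ⟨n + 1, fun i => if i ≤ n then W i else Q₁ ∪ Set.range (Points.ofPt b), by simp [h0],
    by simp, fun i => ?_, fun i hi => ?_⟩
  · show IsOpen (if i ≤ n then W i else _) ∧ IsCompact (if i ≤ n then W i else _)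
    split_ifs
    · exact hW i
    · exact hQ₂
  · simp only
    rw [if_pos (Nat.le_of_lt_succ hi)]
    rcases Nat.lt_or_ge i n with h | h
    · rw [if_pos (show i + 1 ≤ n from h)]
      exact hstep i h
    · obtain rfl : i = n := le_antisymm (Nat.le_of_lt_succ hi) h
      rw [if_neg (Nat.not_succ_le_self i), hn']
      exact ⟨V, b, hV, hb, rfl, hn⟩

/-- An étale morphism from a scheme to a space which is a monomorphism over a closed subspace and hits it
restricts to an isomorphism over that subspace. -/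
theorem isIso_fst_of_uniqueLift {U T P : Sp S} (hU : IsAlgSpace U) (hT : IsAlgSpace T) {V : Over S}
    {f : (yon S).obj V ⟶ U} (hf : RepWith @Etale f) {i : T ⟶ U} {fst : P ⟶ T} {snd : P ⟶ (yon S).obj V}
    (sq : IsPullback fst snd i f) (hsurj : Set.range (Points.map i) ⊆ Set.range (Points.ofPt f))
    (huniq : ∀ (Z : Over S) (y y' : Z ⟶ V), (yon S).map y ≫ f = (yon S).map y' ≫ f →
      (∀ z, Points.ofPt ((yon S).map y ≫ f) z ∈ Set.range (Points.map i)) → y = y') : IsIso fst := by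
  have hP : IsAlgSpace P := AlgSpLib.isAlgSpace_of_isPullback sq hT (IsAlgSpace.yon_obj V) hU
  haveI : Mono fst := mono_of_yon_injective fun Z a a' h => by
    refine sq.hom_ext h ?_
    obtain ⟨y, hy⟩ := (yon S).map_surjective (a ≫ snd)
    obtain ⟨y', hy'⟩ := (yon S).map_surjective (a' ≫ snd)
    rw [← hy, ← hy', huniq Z y y' (by
      rw [hy, hy', Category.assoc, Category.assoc, ← sq.w, reassoc_of% h]) fun z => ⟨Points.ofPt (a ≫ fst) z, by
        rw [hy, Category.assoc, ← sq.w, Points.map_ofPt, Category.assoc]⟩]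
  refine isIso_of_mono_of_etale_surjective hP hT fst (locP_of_repWith (repWith_of_isPullback sq.flip hf)) fun t => ?_
  obtain ⟨v, hv⟩ := hsurj ⟨t, rfl⟩
  obtain ⟨p, hp, -⟩ := exists_point_of_isPullback sq (x := t) (y := Points.ofScheme V v)
    (hv.symm.trans (Points.ofPt_eq_map_ofScheme f v))
  exact ⟨p, hp⟩

/-- The chart over one step of the chain. -/
theorem exists_stage_chart [QuasiSeparatedSpace ↥S] (hX : IsAlgSpace X) {Q₁ : Set (Points X)} (hQ₁ : IsOpen Q₁)
    (hQ₁c : IsCompact Q₁) {A : Over S} [IsAffine A.left] (b : (yon S).obj A ⟶ X) (hb : RepWith @Etale b)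
    (hn : NoDbl b Q₁) {U : Sp S} (hU : IsAlgSpace U) {j : U ⟶ X} (hj : RepWith @IsOpenImmersion j)
    (hjr : Set.range (Points.map j) = Q₁ ∪ Set.range (Points.ofPt b)) {T : Sp S} (hT : IsAlgSpace T) {i : T ⟶ U}
    (hi : Set.range (Points.map i) = (Points.map j ⁻¹' Q₁)ᶜ) :
    ∃ (V : Over S) (f : (yon S).obj V ⟶ U), V.left.IsSeparated ∧ CompactSpace ↥V.left ∧
      RepWith @Etale f ∧ RepWith @Surjective f ∧
      ∀ (P : Sp S) (fst : P ⟶ T) (snd : P ⟶ (yon S).obj V), IsPullback fst snd i f → IsIso fst := by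
  haveI : Mono j := AlgSpDec.mono_of_openImmersion hj
  obtain ⟨X₁, j₁, hX₁, hj₁, hj₁r⟩ := exists_open_subspace hX hQ₁
  obtain ⟨A₁, b₁, hA₁, hb₁, hb₁s⟩ := CartierRegular.exists_affine_atlas hX₁
    (isQuasiCompactSp_of_range hX hX₁ hj₁ (hj₁r.symm ▸ hQ₁c))
  let W : ULift.{u} Bool → Over S := fun c => Bool.rec A₁ A c.down
  haveI : ∀ c, IsAffine (W c).left := fun ⟨c⟩ => by cases c <;> [exact hA₁; exact inferInstanceAs (IsAffine A.left)]
  let g : ∀ c, (yon S).obj (W c) ⟶ X := fun ⟨c⟩ => match c with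
    | false => b₁ ≫ j₁
    | true => b
  have hg : ∀ c, RepWith @Etale (g c) := fun ⟨c⟩ => by
    cases c
    · exact repWith_comp hb₁ ⟨hj₁.rep, fun _ _ x a a' sq => by
        haveI : IsOpenImmersion a'.left := hj₁.property x a a' sq
        exact inferInstanceAs (Etale a'.left)⟩
    · exact hb
  obtain ⟨m, hm⟩ := exists_hom_sigma W g
  have hmr : Set.range (Points.ofPt m) = Q₁ ∪ Set.range (Points.ofPt b) := by
    refine Set.Subset.antisymm ?_ ?_
    · rintro _ ⟨w, rfl⟩
      obtain ⟨⟨c⟩, v, rfl⟩ := exists_sigmaι W w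
      rw [← ofPt_comp, hm]
      cases c
      · exact Or.inl (hj₁r ▸ ⟨Points.ofPt b₁ v, Points.map_ofPt b₁ j₁ v⟩)
      · exact Or.inr ⟨v, rfl⟩
    · rintro x (hx | ⟨v, rfl⟩)
      · obtain ⟨x, rfl⟩ := hj₁r.symm.subset hx
        obtain ⟨v, rfl⟩ := surjective_ofPt hb₁s x
        exact ⟨(sigmaι W ⟨false⟩).left v, by rw [← ofPt_comp, hm, Points.map_ofPt]⟩
      · exact ⟨(sigmaι W ⟨true⟩).left v, by rw [← ofPt_comp, hm]⟩
  obtain ⟨f, hf⟩ := exists_factor_sub hX hU (IsAlgSpace.yon_obj _) hj m (by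
    rintro _ ⟨z, rfl⟩
    obtain ⟨v, rfl⟩ := (Points.schemeHomeo (sigmaOver W)).surjective z
    rw [hjr, ← hmr]
    exact ⟨v, Points.ofPt_eq_map_ofScheme m v⟩)
  have hme : RepWith @Etale m :=
    repWith_etale_sigma (hX.representable_from_yon m) fun c => (hm c).symm ▸ hg c
  have hfe : RepWith @Etale f := repWith_of_comp_mono f j (hf.symm ▸ hme)
  have hinj : Function.Injective (Points.map j) := (isEmbedding_map_openImm hX hj).injective
  have hfs : Function.Surjective (Points.ofPt f) := fun x => by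
    obtain ⟨v, hv⟩ := hmr.symm.subset (hjr ▸ Set.mem_range_self x)
    exact ⟨v, hinj (by rw [Points.map_ofPt, hf, hv])⟩
  haveI : IsAffine (∐ fun c => (W c).left) := inferInstance
  haveI : IsAffine (sigmaOver W).left := inferInstanceAs (IsAffine (∐ fun c => (W c).left))
  refine ⟨sigmaOver W, f, inferInstance, inferInstance, hfe,
    repWith_surjective_of_surjective hfe.rep fun x => ?_, fun P fst snd sq => ?_⟩
  · obtain ⟨v, rfl⟩ := hfs x
    exact ⟨_, (Points.ofPt_eq_map_ofScheme f v).symm⟩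
  refine isIso_fst_of_uniqueLift hU hT hfe sq (fun x _ => hfs x) fun Z y y' h hz => ?_
  have hout : ∀ z, Points.ofPt ((yon S).map y ≫ m) z ∉ Q₁ := fun z => by
    have := hz z
    rw [hi, Set.mem_compl_iff, Set.mem_preimage, Points.map_ofPt, Category.assoc, hf] at this
    exact this
  have hlift : ∀ y : Z ⟶ sigmaOver W, (∀ z, Points.ofPt ((yon S).map y ≫ m) z ∉ Q₁) →
      ∃ k : Z ⟶ A, k ≫ sigmaι W ⟨true⟩ = y := fun y hy => by
    have hsub : Set.range y.left ⊆ Set.range (sigmaι W ⟨true⟩).left := by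
      rintro _ ⟨z, rfl⟩
      obtain ⟨⟨c⟩, v, hv⟩ := exists_sigmaι W (y.left z)
      cases c
      · refine absurd ?_ (hy z)
        rw [ofPt_comp, ← hv, ← ofPt_comp, hm]
        exact hj₁r ▸ ⟨Points.ofPt b₁ v, Points.map_ofPt b₁ j₁ v⟩
      · exact ⟨v, hv⟩
    exact ⟨Over.homMk (IsOpenImmersion.lift (sigmaι W ⟨true⟩).left y.left hsub) (by
      rw [← Over.w y, ← Over.w (sigmaι W ⟨true⟩), IsOpenImmersion.lift_fac_assoc]),
      Over.OverMorphism.ext (IsOpenImmersion.lift_fac _ _ _)⟩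
  obtain ⟨k, rfl⟩ := hlift y hout
  obtain ⟨k', rfl⟩ := hlift y' fun z => by
    have e : (yon S).map y' ≫ m = (yon S).map (k ≫ sigmaι W ⟨true⟩) ≫ m := by
      rw [← hf, ← Category.assoc, ← h, Category.assoc]
    rw [e]; exact hout z
  have h' : (yon S).map k ≫ b = (yon S).map k' ≫ b := by
    have := congrArg (· ≫ j) h
    simp only [Functor.map_comp, Category.assoc, hf, hm] at this
    exact this
  rw [hn Z k k' h' fun z => by
    have := hout z
    rwa [Functor.map_comp, Category.assoc, hm] at this]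

/-- A chart of an empty space. -/
theorem exists_stage_chart_empty {U : Sp S} (hU : IsAlgSpace U) (h : IsEmpty (Points U)) {T : Sp S} {i : T ⟶ U} :
    ∃ (V : Over S) (f : (yon S).obj V ⟶ U), V.left.IsSeparated ∧ CompactSpace ↥V.left ∧
      RepWith @Etale f ∧ RepWith @Surjective f ∧
      ∀ (P : Sp S) (fst : P ⟶ T) (snd : P ⟶ (yon S).obj V), IsPullback fst snd i f → IsIso fst := by
  obtain ⟨V, hV, ⟨e⟩⟩ := exists_affine_iso_of_isEmpty hU h
  exact ⟨V, e.hom, inferInstance, inferInstance, repWith_of_isIso _ e.hom, repWith_of_isIso _ e.hom,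
    fun P fst snd sq => sq.isIso_fst_of_isIso⟩

theorem exists_filtration [QuasiSeparatedSpace ↥S] (X : Space S) (hqc : IsQuasiCompactSp X.obj)
    (hqs : IsQuasiSeparatedSp X.obj) :
    ∃ (n : ℕ) (Uo : ℕ → Space S) (j : ∀ p, Uo p ⟶ X) (k : ∀ p, Uo (p + 1) ⟶ Uo p)
      (T : ℕ → Space S) (i : ∀ p, T p ⟶ Uo p),
      (∀ p, RepWith @IsOpenImmersion (j p).hom) ∧ (∀ p, k p ≫ j p = j (p + 1)) ∧ IsIso (j 1) ∧
      IsEmpty (Points (Uo (n + 1)).obj) ∧
      (∀ p, IsRedInduced (Set.range (Points.map (k p).hom))ᶜ (i p).hom) ∧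
      (∀ p, 1 ≤ p → ∃ (V : Over S) (f : (yon S).obj V ⟶ (Uo p).obj), V.left.IsSeparated ∧ CompactSpace ↥V.left ∧
        RepWith @Etale f ∧ RepWith @Surjective f ∧
        ∀ (P : Sp S) (fst : P ⟶ (T p).obj) (snd : P ⟶ (yon S).obj V),
          IsPullback fst snd (i p).hom f → IsIso fst) := by
  obtain ⟨n, W, h0, hn, hW, hstep⟩ := elemChain_univ X.property hqc hqs
  let O : ℕ → Set (Points X.obj) := fun p => if p = 0 then Set.univ else W (n + 1 - p)
  have hO : ∀ p, IsOpen (O p) := fun p => by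
    show IsOpen (if p = 0 then _ else _); split_ifs
    · exact isOpen_univ
    · exact (hW _).1
  have hmono : ∀ p, O (p + 1) ⊆ O p := fun p => by
    simp only [O]
    rw [if_neg p.succ_ne_zero]
    split_ifs with h
    · exact Set.subset_univ _
    · rcases Nat.lt_or_ge n p with hp | hp
      · rw [show n + 1 - (p + 1) = 0 by omega, h0]; exact Set.empty_subset _
      · obtain ⟨_, _, -, -, e, -⟩ := hstep (n + 1 - (p + 1)) (by omega)
        rw [show n + 1 - p = n + 1 - (p + 1) + 1 by omega, e]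
        exact Set.subset_union_left
  have h1 : O 1 = Set.univ := by simp [O, hn]
  choose U j hU hj hjr using fun p => exists_open_subspace X.property (hO p)
  choose k hk using fun p => exists_factor_sub (f := j (p + 1)) X.property (hU p) (hU (p + 1)) (hj p)
    (by rw [hjr, hjr]; exact hmono p)
  have hkr : ∀ p, Set.range (Points.map (k p)) = Points.map (j p) ⁻¹' O (p + 1) := fun p => by
    ext x
    constructor
    · rintro ⟨y, rfl⟩
      rw [Set.mem_preimage]
      rw [← Points.map_comp, hk, ← hjr]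
      exact ⟨y, rfl⟩
    · intro hx
      obtain ⟨y, hy⟩ := (hjr (p + 1)).symm.subset hx
      refine ⟨y, (isEmbedding_map_openImm X.property (hj p)).injective ?_⟩
      rw [← Points.map_comp, hk, hy]
  choose T i hi using fun p => exists_reduced_induced (hU p)
    (T := (Set.range (Points.map (k p)))ᶜ)
    (by rw [isClosed_compl_iff, hkr]; exact (hO (p + 1)).preimage (Points.continuous_map _))
  refine ⟨n, fun p => ⟨U p, hU p⟩, fun p => ObjectProperty.homMk (j p), fun p => ObjectProperty.homMk (k p), T,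
    fun p => ObjectProperty.homMk (i p), hj, fun p => ObjectProperty.hom_ext _ (hk p), ?_, ?_, hi, fun p hp => ?_⟩
  · haveI : IsIso (j 1) := isIso_of_openImm_surjective X.property (hj 1) fun x =>
      (hjr 1).symm.subset (h1.symm ▸ Set.mem_univ x)
    haveI : IsIso ((ObjectProperty.ι _).map (ObjectProperty.homMk (j 1) : (⟨U 1, hU 1⟩ : Space S) ⟶ X)) :=
      inferInstanceAs (IsIso (j 1))
    exact isIso_of_reflects_iso _ (ObjectProperty.ι _)
  · refine ⟨fun x => ?_⟩
    have hx := (hjr (n + 1)).subset ⟨x, rfl⟩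
    simp [O, h0] at hx
  rcases Nat.lt_or_ge n p with hp' | hp'
  · refine exists_stage_chart_empty (hU p) ⟨fun x => ?_⟩
    have hx := (hjr p).subset ⟨x, rfl⟩
    simp [O, show p ≠ 0 by omega, show n + 1 - p = 0 by omega, h0] at hx
  · obtain ⟨A, b, hA, hb, e, hnd⟩ := hstep (n + 1 - (p + 1)) (by omega)
    refine exists_stage_chart X.property (hW _).1 (hW _).2 b hb hnd (hU p) (hj p) ?_ (T p).property ?_
    · rw [hjr, ← e]
      show (if p = 0 then _ else _) = _
      rw [if_neg (by omega : p ≠ 0), show n + 1 - p = n + 1 - (p + 1) + 1 by omega]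
    · refine (hi p).2.1.trans ?_
      rw [hkr]
      show (_ ⁻¹' (if p + 1 = 0 then _ else _))ᶜ = _
      rw [if_neg p.succ_ne_zero]

end Groth.Agent.Dsp6
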