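import Groth.Agent.Dsp6.EtaleModelScheme
import Groth.Agent.AlgSpDec.FppfDescent
import Groth.Agent.AlgSpDec.LqfScheme
import Groth.Agent.AlgSpDec.MonoRep
import Mathlib.AlgebraicGeometry.QuasiAffine

/-!
# Flat monomorphisms of algebraic spaces are representable
-/

set_option autoImplicit false
set_option backward.isDefEq.respectTransparency false
set_option backward.isDefEq.respectTransparency.types false
set_option maxHeartbeats 400000

universe u

open CategoryTheory CategoryTheory.Limits AlgebraicGeometry AlgSp Groth.Agent.AlgSpLib Groth.Agent.AlgSpPts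
open Groth.Agent.AlgSpDec
open TensorProduct

namespace Groth.Agent.Dsp6

variable {S : Scheme.{u}}

theorem isPullback_of_comp_mono {C : Type*} [Category C] {P A B E D : C} {fst : P ⟶ A} {snd : P ⟶ B}
    {f : A ⟶ E} {g : B ⟶ E} {i : E ⟶ D} [Mono i] (h : IsPullback fst snd (f ≫ i) (g ≫ i)) :
    IsPullback fst snd f g :=
  have w : fst ≫ f = snd ≫ g := by
    rw [← cancel_mono i, Category.assoc, Category.assoc, h.w]
  ⟨⟨w⟩, ⟨PullbackCone.IsLimit.mk w (fun c => h.lift c.fst c.snd (by rw [reassoc_of% c.condition]))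
    (fun c => h.lift_fst _ _ _) (fun c => h.lift_snd _ _ _)
    fun c n h1 h2 => h.hom_ext (h1.trans (h.lift_fst _ _ _).symm) (h2.trans (h.lift_snd _ _ _).symm)⟩⟩

theorem isPullback_comp_of_mono {C : Type*} [Category C] {P A B E D : C} {fst : P ⟶ A} {snd : P ⟶ B}
    {f : A ⟶ E} {g : B ⟶ E} (h : IsPullback fst snd f g) (i : E ⟶ D) [Mono i] :
    IsPullback fst snd (f ≫ i) (g ≫ i) :=
  ⟨⟨by rw [← Category.assoc, h.w, Category.assoc]⟩,
    ⟨PullbackCone.IsLimit.mk _ (fun c => h.lift c.fst c.snd ((cancel_mono i).1 (by simpa using c.condition)))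
      (fun c => h.lift_fst _ _ _) (fun c => h.lift_snd _ _ _)
      fun c n h1 h2 => h.hom_ext (h1.trans (h.lift_fst _ _ _).symm) (h2.trans (h.lift_snd _ _ _).symm)⟩⟩

theorem isPullback_yon_map {P A B C : Over S} {f : P ⟶ A} {g : P ⟶ B} {h : A ⟶ C} {i : B ⟶ C}
    (sq : IsPullback f.left g.left h.left i.left) :
    IsPullback ((yon S).map f) ((yon S).map g) ((yon S).map h) ((yon S).map i) :=
  (IsPullback.of_map (Over.forget S) (Over.OverMorphism.ext sq.w) sq : IsPullback f g h i).map (yon S)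

/-- The pullback of schemes over `S`, with chosen projections. -/
noncomputable abbrev fibProd {U V W : Over S} (f : U ⟶ W) (g : V ⟶ W) : Over S :=
  Over.mk (pullback.fst f.left g.left ≫ U.hom)

theorem isPullback_fibProd {U V W : Over S} (f : U ⟶ W) (g : V ⟶ W) :
    IsPullback ((yon S).map (Over.homMk (pullback.fst f.left g.left) rfl : fibProd f g ⟶ U))
      ((yon S).map (Over.homMk (pullback.snd f.left g.left) (by
        show _ = pullback.fst f.left g.left ≫ U.hom
        rw [← Over.w g, ← Over.w f, pullback.condition_assoc]) : fibProd f g ⟶ V))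
      ((yon S).map f) ((yon S).map g) :=
  isPullback_yon_map (IsPullback.of_hasPullback f.left g.left)

theorem exists_scheme_nhd_of_flat_mono {P : Sp S} (hP : IsAlgSpace P) {T : Over S} (q : P ⟶ (yon S).obj T)
    [Mono q] (hq : LocP @Flat q) (x : Points P) :
    ∃ (Q : Over S) (j : (yon S).obj Q ⟶ P) (z : ↥Q.left), RepWith @IsOpenImmersion j ∧ Points.ofPt j z = x := by
  obtain ⟨U, a, u, -, ha, hu⟩ := exists_affine_chart_at hP x
  obtain ⟨ρ, hρ⟩ := (yon S).map_surjective (a ≫ q)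
  obtain ⟨_, ⟨V, hV, rfl⟩, huV, -⟩ := T.left.isBasis_affineOpens.exists_subset_of_mem_open
    (Set.mem_univ (ρ.left u)) isOpen_univ
  obtain ⟨W, hW, huW, hWV⟩ := exists_isAffineOpen_mem_and_subset (U := ρ.left ⁻¹ᵁ V) (x := u) huV
  have hV' : IsAffineOpen V := hV
  have hfl : Flat ρ.left := hq a (𝟙 _) ρ ha (repWith_id _ _) (by rw [Category.comp_id]; exact hρ.symm)
  let φ : Γ(T.left, V) ⟶ Γ(U.left, W) := ρ.left.appLE V W hWV
  have hφ : φ.hom.Flat := Scheme.Hom.flat_appLE ρ.left hV' hW hWV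
  let Tv : Over S := Over.mk (hV'.fromSpec ≫ T.hom)
  let ιT : Tv ⟶ T := Over.homMk hV'.fromSpec rfl
  let Uw : Over S := Over.mk (hW.fromSpec ≫ U.hom)
  let ιU : Uw ⟶ U := Over.homMk hW.fromSpec rfl
  have hsp : Spec.map φ ≫ hV'.fromSpec = hW.fromSpec ≫ ρ.left := hV'.SpecMap_appLE_fromSpec _ hW hWV
  let ρ₀ : Uw ⟶ Tv := Over.homMk (Spec.map φ) (by
    show Spec.map φ ≫ hV'.fromSpec ≫ T.hom = hW.fromSpec ≫ U.hom
    rw [reassoc_of% hsp, Over.w])
  have hρ₀ : ρ₀ ≫ ιT = ιU ≫ ρ := Over.OverMorphism.ext hsp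
  let a₀ : (yon S).obj Uw ⟶ P := (yon S).map ιU ≫ a
  have ha₀ : RepWith @Etale a₀ :=
    repWith_comp ((repWith_yon_map_iff _ ιU).2 (inferInstanceAs (Etale hW.fromSpec))) ha
  obtain ⟨u', hu'⟩ : ∃ u' : ↥Uw.left, Points.ofPt a₀ u' = x := by
    obtain ⟨u', hu'⟩ : u ∈ Set.range hW.fromSpec := hW.range_fromSpec ▸ huW
    exact ⟨u', by rw [ofPt_comp, show ιU.left u' = u from hu', hu]⟩
  obtain ⟨P₀, j, a', hj, hja, ha'e, ha's⟩ := exists_image_chart hP ha₀
  haveI : Mono j := mono_of_openImmersion hj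
  haveI : Mono ((yon S).map ιT) :=
    mono_of_openImmersion ((repWith_yon_map_iff _ _).2 (inferInstanceAs (IsOpenImmersion hV'.fromSpec)))
  obtain ⟨f₀, hf₀⟩ := exists_factor_of_cover ha'e ha's (j ≫ q) (j := (yon S).map ιT) ⟨(yon S).map ρ₀, by
    rw [← Functor.map_comp, hρ₀, Functor.map_comp, hρ, reassoc_of% hja, Category.assoc]⟩
  haveI : Mono (f₀ ≫ (yon S).map ιT) := by rw [hf₀]; infer_instance
  haveI : Mono f₀ := mono_of_mono f₀ ((yon S).map ιT)
  have hρa : (yon S).map ρ₀ = a' ≫ f₀ := (cancel_mono ((yon S).map ιT)).1 (by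
    rw [← Functor.map_comp, hρ₀, Functor.map_comp, hρ, Category.assoc, hf₀, reassoc_of% hja, Category.assoc])
  -- the chart is etale over itself
  have sqR := ha'e.rep.isPullback' a'
  have sqR' : IsPullback ((yon S).map (ha'e.rep.fst' a')) ((yon S).map (ha'e.rep.snd a'))
      ((yon S).map ρ₀) ((yon S).map ρ₀) := by
    rw [hρa]; exact isPullback_comp_of_mono sqR f₀
  have het : letI := φ.hom.toAlgebra
      Algebra.Etale Γ(U.left, W) (Γ(U.left, W) ⊗[Γ(T.left, V)] Γ(U.left, W)) := by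
    letI := φ.hom.toAlgebra
    have sqS : IsPullback _ _ (Spec.map φ) (Spec.map φ) := isPullback_SpecMap_of_isPushout _ _ _ _
      (CommRingCat.isPushout_tensorProduct Γ(T.left, V) Γ(U.left, W) Γ(U.left, W))
    have sq1 : IsPullback (ha'e.rep.fst' a').left (ha'e.rep.snd a').left (Spec.map φ) (Spec.map φ) :=
      isPullback_of_yon sqR'
    haveI : Etale (ha'e.rep.fst' a').left := ha'e.property _ _ _ sqR.flip
    have e : Etale ((sqS.isoIsPullback _ _ sq1).hom ≫ (ha'e.rep.fst' a').left) := inferInstance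
    have e2 := IsPullback.isoIsPullback_hom_fst (h := sqS) (h' := sq1)
    have e' := e2 ▸ e
    exact RingHom.etale_algebraMap.1 ((HasRingHomProperty.Spec_iff (P := @Etale)).1 e')
  obtain ⟨D, E, π, σ, hDa, hUDa, hEa, hπ, hπs, huD, hσπ, sqσ⟩ :=
    EtaleModel.exists_etale_model φ hφ het u'
  let Dv : Over S := Over.mk (D.ι ≫ Tv.hom)
  let ιD : Dv ⟶ Tv := Over.homMk D.ι rfl
  let U₂ : Over S := Over.mk (((Spec.map φ) ⁻¹ᵁ D).ι ≫ Uw.hom)
  let ι₂ : U₂ ⟶ Uw := Over.homMk ((Spec.map φ) ⁻¹ᵁ D).ι rfl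
  let q' : U₂ ⟶ Dv := Over.homMk ((Spec.map φ) ∣_ D) (by
    show _ ≫ D.ι ≫ Tv.hom = ((Spec.map φ) ⁻¹ᵁ D).ι ≫ Uw.hom
    rw [morphismRestrict_ι_assoc, ← Over.w ρ₀]
    rfl)
  let Ev : Over S := Over.mk (π ≫ Dv.hom)
  let πv : Ev ⟶ Dv := Over.homMk π rfl
  let σv : U₂ ⟶ Ev := Over.homMk σ (by
    show σ ≫ π ≫ Dv.hom = _
    rw [reassoc_of% hσπ]
    exact Over.w q')
  have hσv : σv ≫ πv = q' := Over.OverMorphism.ext hσπ
  let X' := pullback f₀ ((yon S).map ιD)
  let g' : X' ⟶ (yon S).obj Dv := pullback.snd f₀ ((yon S).map ιD)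
  haveI : Mono g' := inferInstanceAs (Mono (pullback.snd f₀ ((yon S).map ιD)))
  have sqU : IsPullback ((yon S).map ι₂) ((yon S).map q') ((yon S).map ρ₀) ((yon S).map ιD) :=
    isPullback_yon_map (isPullback_morphismRestrict (Spec.map φ) D).flip
  let a'' : (yon S).obj U₂ ⟶ X' := pullback.lift ((yon S).map ι₂ ≫ a') ((yon S).map q')
    (by rw [Category.assoc, ← hρa, sqU.w])
  have sqa : IsPullback ((yon S).map ι₂) a'' a' (pullback.fst f₀ ((yon S).map ιD)) := by
    refine IsPullback.of_bot ?_ (pullback.lift_fst _ _ _).symm (IsPullback.of_hasPullback f₀ ((yon S).map ιD))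
    rw [pullback.lift_snd, ← hρa]
    exact sqU
  have hae : RepWith @Etale a'' := repWith_of_isPullback sqa ha'e
  have has : RepWith @Surjective a'' := repWith_of_isPullback sqa ha's
  have sqW := isPullback_fibProd q' q'
  let w₁ : (yon S).obj (fibProd q' q') ⟶ (yon S).obj U₂ :=
    (yon S).map (Over.homMk (pullback.fst q'.left q'.left) rfl : fibProd q' q' ⟶ U₂)
  let w₂' : fibProd q' q' ⟶ U₂ := Over.homMk (pullback.snd q'.left q'.left) (by
    show _ = pullback.fst q'.left q'.left ≫ U₂.hom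
    rw [← Over.w q', pullback.condition_assoc])
  let w₂ : (yon S).obj (fibProd q' q') ⟶ (yon S).obj U₂ := (yon S).map w₂'
  have hag : a'' ≫ g' = (yon S).map q' := pullback.lift_snd _ _ _
  have sqA : IsPullback w₁ w₂ a'' a'' := isPullback_of_comp_mono (i := g') (by rw [hag]; exact sqW)
  have sqE : IsPullback w₁ (w₂ ≫ (yon S).map σv) (a'' ≫ g') ((yon S).map πv) := by
    rw [hag, ← Functor.map_comp]
    exact isPullback_yon_map sqσ
  let Z := pullback g' ((yon S).map πv)
  have sqZ : IsPullback (pullback.fst g' ((yon S).map πv)) (pullback.snd g' ((yon S).map πv)) g' ((yon S).map πv) :=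
    IsPullback.of_hasPullback _ _
  let l : (yon S).obj U₂ ⟶ Z := pullback.lift a'' ((yon S).map σv) (by rw [hag, ← Functor.map_comp, hσv])
  have sqL : IsPullback w₁ (w₂ ≫ l) a'' (pullback.fst g' ((yon S).map πv)) := by
    refine IsPullback.of_bot ?_ ?_ sqZ
    · rw [Category.assoc, pullback.lift_snd]
      exact sqE
    · rw [Category.assoc, pullback.lift_fst]
      exact sqA.w
  haveI : Epi (w₂ ≫ l) :=
    epi_of_etale_surjective (repWith_of_isPullback sqL hae) (repWith_of_isPullback sqL has)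
  haveI : Epi l := epi_of_epi w₂ l
  haveI : Mono l := ⟨fun c d e => by
    have hc : c ≫ a'' = d ≫ a'' := by
      rw [← pullback.lift_fst a'' ((yon S).map σv) (by rw [hag, ← Functor.map_comp, hσv]), reassoc_of% e]
    have h := sqL.hom_ext (k := sqA.lift c d hc) (l := sqA.lift c c rfl)
      (by rw [sqA.lift_fst, sqA.lift_fst]) (by rw [sqA.lift_snd_assoc, sqA.lift_snd_assoc, e])
    have h2 := congrArg (· ≫ w₂) h
    simp only [sqA.lift_snd] at h2
    exact h2.symm⟩
  haveI : IsIso l := isIso_of_mono_of_epi l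
  have sqD : IsPullback a'' ((yon S).map σv) g' ((yon S).map πv) :=
    sqZ.of_iso (asIso l).symm (Iso.refl _) (Iso.refl _) (Iso.refl _) (by
      simp only [Iso.refl_hom, Category.comp_id, Iso.symm_hom, asIso_inv]
      rw [IsIso.eq_inv_comp, pullback.lift_fst]) (by
      simp only [Iso.refl_hom, Category.comp_id, Iso.symm_hom, asIso_inv]
      rw [IsIso.eq_inv_comp, pullback.lift_snd]) (by simp) (by simp)
  haveI : IsAffine Dv.left := hDa
  haveI : IsAffine Ev.left := hEa
  haveI : IsAffine U₂.left := hUDa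
  haveI : Flat πv.left := inferInstanceAs (Flat π)
  haveI : LocallyOfFinitePresentation πv.left := inferInstanceAs (LocallyOfFinitePresentation π)
  haveI : Surjective πv.left := hπs
  obtain ⟨Q, ⟨e⟩⟩ := Groth.Agent.AlgSpDec.Fppf.exists_quasiAffine_descent πv sqD
  obtain ⟨k, hk⟩ := (yon S).map_surjective (a'' ≫ e.inv)
  have hD : RepWith @IsOpenImmersion ((yon S).map ιD) :=
    (repWith_yon_map_iff _ _).2 (inferInstanceAs (IsOpenImmersion D.ι))
  have hfst : RepWith @IsOpenImmersion (pullback.fst f₀ ((yon S).map ιD)) :=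
    repWith_of_isPullback (IsPullback.of_hasPullback f₀ ((yon S).map ιD)).flip hD
  refine ⟨Q, e.hom ≫ pullback.fst f₀ ((yon S).map ιD) ≫ j, k.left ⟨u', huD⟩,
    repWith_comp (repWith_of_isIso @IsOpenImmersion e.hom) (repWith_comp hfst hj), ?_⟩
  rw [← ofPt_comp, hk, Category.assoc, Iso.inv_hom_id_assoc, pullback.lift_fst_assoc, Category.assoc, hja,
    ofPt_comp]
  exact hu'

theorem representable_of_flat_mono {X Y : Space S} (f : X ⟶ Y) (hflat : LocP @Flat f.hom) [Mono f.hom] :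
    Representable f.hom := fun T g => by
  have sq := IsPullback.of_hasPullback f.hom g
  have hP : IsAlgSpace (pullback f.hom g) := isAlgSpace_of_isPullback sq X.property (IsAlgSpace.yon_obj T) Y.property
  have hq : LocP @Flat (pullback.snd f.hom g) :=
    locP_of_isPullback sq X.property Y.property (IsAlgSpace.yon_obj T) hflat
  obtain ⟨Q, ⟨e⟩⟩ := exists_rep_of_points hP (exists_scheme_nhd_of_flat_mono hP (pullback.snd f.hom g) hq)
  obtain ⟨k, hk⟩ := (yon S).map_surjective (e.hom ≫ pullback.snd f.hom g)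
  exact ⟨Q, k, e.hom ≫ pullback.fst f.hom g,
    sq.of_iso e.symm (Iso.refl _) (Iso.refl _) (Iso.refl _) (by simp) (by simp [hk]) (by simp) (by simp)⟩

end Groth.Agent.Dsp6
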