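import Groth.Agent.Dsp6.GeomConn
import Groth.Agent.GeomField.Connected
import Groth.Agent.FBaseLib.Components
import Groth.Agent.AlgSpDec.AffineProps
import Mathlib.FieldTheory.KrullTopology

/-!
# Open subsets and connectedness of base changes along algebraic extensions
-/

set_option autoImplicit false
set_option backward.isDefEq.respectTransparency false
set_option backward.isDefEq.respectTransparency.types false

set_option maxHeartbeats 400000

universe u

open CategoryTheory CategoryTheory.Limits AlgebraicGeometry AlgSp Groth.Agent.AlgSpLib Groth.Agent.AlgSpPts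
open Groth.Agent.AlgSpDec Groth.Agent.AlgSpDec.GeomRed

namespace Groth.Agent.Dsp6

variable {k : Type u} [Field k] (L M : Type u) [Field L] [Field M] [Algebra k L] [Algebra k M] [Algebra L M]
  [IsScalarTower k L M]

/-- The transition between two field extensions. -/
noncomputable def extMap : ext (k := k) M ⟶ ext L :=
  Over.homMk (Spec.map (CommRingCat.ofHom (algebraMap L M))) (by
    show Spec.map _ ≫ Spec.map _ = Spec.map _
    rw [← Spec.map_comp, ← CommRingCat.ofHom_comp, ← IsScalarTower.algebraMap_eq])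

theorem extMap_left : (extMap (k := k) L M).left = Spec.map (CommRingCat.ofHom (algebraMap L M)) := rfl

/-- The map `X_M ⟶ X_L`. -/
noncomputable abbrev bcTrans (X : Sp (Spec (CommRingCat.of k))) :
    X ⨯ (yon _).obj (ext M) ⟶ X ⨯ (yon _).obj (ext L) :=
  Limits.prod.map (𝟙 X) ((yon _).map (extMap L M))

theorem isPullback_bcTrans (X : Sp (Spec (CommRingCat.of k))) :
    IsPullback (bcTrans L M X) prod.snd prod.snd ((yon _).map (extMap (k := k) L M)) :=
  isPullback_prod_map X _

theorem surjective_bcTrans {X : Sp (Spec (CommRingCat.of k))} :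
    Function.Surjective (Points.map (bcTrans L M X)) := fun t => by
  obtain ⟨q, hq⟩ := (Points.schemeHomeo (ext (k := k) L)).surjective
    (Points.map (prod.snd : X ⨯ (yon _).obj (ext L) ⟶ _) t)
  obtain ⟨z, hz, -⟩ := exists_point_of_isPullback (isPullback_bcTrans L M X) (x := t)
    (y := Points.ofScheme (ext (k := k) M) (IsLocalRing.closedPoint M)) (by
      rw [← hq]
      show Points.schemeHomeo _ q = _
      haveI : Subsingleton ↥(ext (k := k) L).left := inferInstanceAs (Subsingleton (PrimeSpectrum L))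
      obtain ⟨q', hq'⟩ := (Points.schemeHomeo (ext (k := k) L)).surjective
        (Points.map ((yon _).map (extMap L M)) (Points.ofScheme (ext (k := k) M) (IsLocalRing.closedPoint M)))
      rw [← hq', Subsingleton.elim q q'])
  exact ⟨z, hz⟩

theorem isOpenMap_bcTrans {X : Sp (Spec (CommRingCat.of k))} (hX : IsAlgSpace X) :
    IsOpenMap (Points.map (bcTrans L M X)) :=
  ToFieldFlat.univOpen_of_isPullback (isPullback_bcTrans L M X).flip
    (ToFieldFlat.univOpen (σ := Spec.map (CommRingCat.ofHom (algebraMap k L))) (IsAlgSpace.yon_obj _)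
      ((yon _).map (extMap (k := k) L M)))
    (isAlgSpace_prod hX (IsAlgSpace.yon_obj _)) (𝟙 _) (𝟙 _) (bcTrans L M X)
    (IsPullback.of_horiz_isIso ⟨by simp⟩)

theorem isClosedMap_bcTrans [Algebra.IsIntegral L M] {X : Sp (Spec (CommRingCat.of k))} (hX : IsAlgSpace X) :
    IsClosedMap (Points.map (bcTrans L M X)) := by
  have h1 : IsIntegralHom (extMap (k := k) L M).left :=
    IsIntegralHom.SpecMap_iff.2 (algebraMap_isIntegral_iff.2 ‹_›)
  have h2 : RepWith @UniversallyClosed (bcTrans L M X) :=
    repWith_of_isPullback (isPullback_bcTrans L M X).flip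
      ((repWith_yon_map_iff _ _).2 (inferInstanceAs (UniversallyClosed (extMap (k := k) L M).left)))
  exact isUnivClosedMor_of_repWith_universallyClosed h2 (isAlgSpace_prod hX (IsAlgSpace.yon_obj _)) (𝟙 _) (𝟙 _)
    (bcTrans L M X) (IsPullback.of_horiz_isIso ⟨by simp⟩)

theorem bcChart_bcTrans {X : Sp (Spec (CommRingCat.of k))} {U : Over (Spec (CommRingCat.of k))}
    (a : (yon _).obj U ⟶ X) :
    (yon _).map (prod.map (𝟙 U) (extMap L M)) ≫ bcChart L a = bcChart M a ≫ bcTrans L M X := by
  apply Limits.prod.hom_ext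
  · rw [Category.assoc, Category.assoc, prod.map_fst, Category.comp_id, bcChart, bcChart, prod.lift_fst,
      prod.lift_fst, ← Category.assoc, ← Functor.map_comp, prod.map_fst, Category.comp_id]
  · rw [Category.assoc, Category.assoc, prod.map_snd, bcChart, bcChart, prod.lift_snd, prod.lift_snd_assoc,
      ← Functor.map_comp, ← Functor.map_comp, prod.map_snd]

theorem isPullback_bcChart_bcTrans {X : Sp (Spec (CommRingCat.of k))} {U : Over (Spec (CommRingCat.of k))}
    (a : (yon _).obj U ⟶ X) :
    IsPullback ((yon _).map (prod.map (𝟙 U) (extMap L M))) (bcChart M a) (bcChart L a) (bcTrans L M X) := by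
  refine IsPullback.of_right ?_ (bcChart_bcTrans L M a) (isPullback_bcChart L a)
  rw [← Functor.map_comp, prod.map_fst, Category.comp_id,
    show bcTrans L M X ≫ prod.fst = prod.fst from (prod.map_fst _ _).trans (Category.comp_id _)]
  exact isPullback_bcChart M a

theorem bcIso_bcMap (U : Over (Spec (CommRingCat.of k))) :
    (prod.map (𝟙 U) (extMap L M)).left ≫ (bcIso L U).hom = (bcIso M U).hom ≫ FBaseLib.bcMap U.hom L M := by
  apply pullback.hom_ext
  · show ((prod.map (𝟙 U) (extMap L M)).left ≫ (bcIso L U).hom) ≫ FBase.bcπ U.hom L =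
      ((bcIso M U).hom ≫ FBaseLib.bcMap U.hom L M) ≫ FBase.bcπ U.hom L
    rw [Category.assoc, Category.assoc, bcIso_π, FBaseLib.bcMap_fst, bcIso_π, ← Over.comp_left, prod.map_fst,
      Category.comp_id]
  · show ((prod.map (𝟙 U) (extMap L M)).left ≫ (bcIso L U).hom) ≫ FBase.bcStr U.hom L =
      ((bcIso M U).hom ≫ FBaseLib.bcMap U.hom L M) ≫ FBase.bcStr U.hom L
    rw [Category.assoc, Category.assoc, bcIso_str, FBaseLib.bcMap_snd, ← Over.comp_left, prod.map_snd,
      Over.comp_left, ← bcIso_str, Category.assoc]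
    rfl

theorem isPreconnected_fibre_bcTrans [IsSepClosed L] {X : Sp (Spec (CommRingCat.of k))}
    (t : Points (X ⨯ (yon _).obj (ext L))) : IsPreconnected (Points.map (bcTrans L M X) ⁻¹' {t}) := by
  obtain ⟨p, rfl⟩ := Points.mk_surjective t
  obtain ⟨r, hr⟩ := (yon _).map_surjective (p.toHom ≫ prod.snd)
  letI : Algebra L p.K := (Spec.preimage r.left).hom.toAlgebra
  have hrl : r.left = Spec.map (CommRingCat.ofHom (algebraMap L p.K)) := (Spec.map_preimage r.left).symm
  let e := extMap (k := k) L M
  let P := pullback r e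
  have sqP : IsPullback ((yon _).map (pullback.fst r e)) ((yon _).map (pullback.snd r e)) ((yon _).map r)
      ((yon _).map e) := (IsPullback.of_hasPullback r e).map (yon _)
  haveI : IrreducibleSpace ↥P.left := by
    have h := GeomConn5.geometricallyIrreducible_spec_field L p.K
      (CAlgOdd.GeomIrrField.separable_mem_range L p.K)
    rw [← hrl] at h
    exact h.geometrically_irreducibleSpace _ _ _ ((IsPullback.of_hasPullback r e).map (Over.forget _))
  let l : (yon _).obj P ⟶ X ⨯ (yon _).obj (ext M) := (isPullback_bcTrans L M X).lift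
    ((yon _).map (pullback.fst r e) ≫ p.toHom) ((yon _).map (pullback.snd r e))
    (by rw [Category.assoc, ← hr]; exact sqP.w)
  have sql : IsPullback ((yon _).map (pullback.fst r e)) l p.toHom (bcTrans L M X) := by
    refine IsPullback.of_bot ?_ ((isPullback_bcTrans L M X).lift_fst _ _ _).symm (isPullback_bcTrans L M X)
    rw [show l ≫ prod.snd = (yon _).map (pullback.snd r e) from (isPullback_bcTrans L M X).lift_snd _ _ _, ← hr]
    exact sqP
  have hrange : Points.map (bcTrans L M X) ⁻¹' {Points.mk p} = Set.range (Points.map l) := by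
    ext z
    constructor
    · intro hz
      obtain ⟨q, -, hq⟩ := exists_point_of_isPullback sql
        (x := Points.ofScheme p.pt (IsLocalRing.closedPoint p.K)) (y := z) ((map_toHom_eq p _).trans hz.symm)
      exact ⟨q, hq⟩
    · rintro ⟨q, rfl⟩
      show Points.map _ _ = _
      rw [← Points.map_comp, ← sql.w, Points.map_comp]
      exact map_toHom_eq p _
  haveI : PreconnectedSpace (Points ((yon _).obj P)) := by
    refine ⟨?_⟩
    rw [← (Points.schemeHomeo P).surjective.range_eq]
    exact isPreconnected_range (Points.schemeHomeo P).continuous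
  rw [hrange]
  exact isPreconnected_range (Points.continuous_map _)

variable {K : Type u} [Field K] [Algebra k K] [Algebra.IsAlgebraic k K]

/-- Open sets are, locally, inverse images from finite levels. -/
theorem exists_nhd_saturated {X : Sp (Spec (CommRingCat.of k))} (hX : IsAlgSpace X)
    {V : Set (Points (X ⨯ (yon _).obj (ext K)))} (hV : IsOpen V) {v : Points (X ⨯ (yon _).obj (ext K))}
    (hv : v ∈ V) :
    ∃ F : IntermediateField k K, FiniteDimensional k F ∧
      ∃ O : Set (Points (X ⨯ (yon _).obj (ext K))), IsOpen O ∧ v ∈ O ∧ O ⊆ V ∧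
        ∀ z z', Points.map (bcTrans F K X) z = Points.map (bcTrans F K X) z' → z ∈ O → z' ∈ O := by
  obtain ⟨U, a, ha, has⟩ := hX.atlas
  obtain ⟨w, rfl⟩ := surjective_ofPt (bcChart_surjective K has) v
  letI : U.left.Over (Spec (CommRingCat.of k)) := ⟨U.hom⟩
  let φ := Scheme.homeoOfIso (bcIso K U)
  obtain ⟨F, hF, hFd⟩ := GeomField.exists_open_descend (X := U.left) (K := K)
    (V := φ.symm ⁻¹' (Points.ofPt (bcChart K a) ⁻¹' V))
    ((hV.preimage (Points.continuous_ofPt _)).preimage φ.symm.continuous) (v := φ w)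
    (by show Points.ofPt _ (φ.symm (φ w)) ∈ V; rwa [φ.symm_apply_apply])
  obtain ⟨W, hW, hwW, hWV⟩ := hFd F le_rfl
  let W' : Set ↥(U ⨯ ext K).left := φ ⁻¹' (FBaseLib.bcMap U.hom F K ⁻¹' W)
  refine ⟨F, hF, Points.ofPt (bcChart K a) '' W',
    isOpenMap_ofPt (bcChart_etale K ha) _
      ((hW.preimage (FBaseLib.bcMap U.hom F K).continuous).preimage φ.continuous), ⟨w, hwW, rfl⟩, ?_, ?_⟩
  · rintro _ ⟨z, hz, rfl⟩
    have := hWV hz
    show Points.ofPt (bcChart K a) z ∈ V
    rwa [Set.mem_preimage, Set.mem_preimage, φ.symm_apply_apply] at this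
  · rintro _ z' he ⟨q, hq, rfl⟩
    rw [Points.map_ofPt, ← bcChart_bcTrans, ofPt_comp] at he
    obtain ⟨q', hq'₁, hq'₂⟩ := exists_point_of_isPullback (isPullback_bcChart_bcTrans F K a)
      (x := Points.ofScheme _ ((prod.map (𝟙 U) (extMap (k := k) F K)).left q)) (y := z')
      (by rw [← Points.ofPt_eq_map_ofScheme]; exact he)
    obtain ⟨q', rfl⟩ := (Points.schemeHomeo _).surjective q'
    refine ⟨q', ?_, (Points.ofPt_eq_map_ofScheme _ _).trans hq'₂⟩
    have h2 : (prod.map (𝟙 U) (extMap (k := k) F K)).left q' = (prod.map (𝟙 U) (extMap (k := k) F K)).left q :=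
      (Points.schemeHomeo _).injective (((Points.map_yon_map_apply _ _).symm).trans hq'₁)
    have h3 : ∀ p : ↥(U ⨯ ext K).left, FBaseLib.bcMap U.hom F K (φ p) =
        (bcIso F U).hom ((prod.map (𝟙 U) (extMap (k := k) F K)).left p) := fun p =>
      (congr($(bcIso_bcMap F K U).base p)).symm
    show FBaseLib.bcMap U.hom F K (φ q') ∈ W
    rw [h3, h2, ← h3]
    exact hq

theorem saturated_mono {X : Sp (Spec (CommRingCat.of k))} {F F' : IntermediateField k K} (h : F ≤ F')
    {z z' : Points (X ⨯ (yon _).obj (ext K))}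
    (he : Points.map (bcTrans F' K X) z = Points.map (bcTrans F' K X) z') :
    Points.map (bcTrans F K X) z = Points.map (bcTrans F K X) z' := by
  letI : Algebra F F' := (IntermediateField.inclusion h).toRingHom.toAlgebra
  haveI : IsScalarTower k F F' := IsScalarTower.of_algebraMap_eq fun _ => rfl
  have hE : extMap (k := k) F K = extMap (k := k) F' K ≫ extMap (k := k) F F' := by
    apply Over.OverMorphism.ext
    rw [Over.comp_left, extMap_left, extMap_left, extMap_left, ← Spec.map_comp, ← CommRingCat.ofHom_comp]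
    congr 2
  have e : bcTrans F K X = bcTrans F' K X ≫ bcTrans F F' X := by
    rw [bcTrans, bcTrans, bcTrans, prod.map_map, Category.comp_id, hE, CategoryTheory.Functor.map_comp]
  rw [e, Points.map_comp, Points.map_comp, he]

/-- Quasi-compact opens descend to a finite subextension. -/
theorem exists_descend_qcOpen {X : Sp (Spec (CommRingCat.of k))} (hX : IsAlgSpace X)
    {V : Set (Points (X ⨯ (yon _).obj (ext K)))} (hV : IsOpen V) (hVc : IsCompact V) :
    ∃ F : IntermediateField k K, FiniteDimensional k F ∧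
      ∃ V' : Set (Points (X ⨯ (yon _).obj (ext F))), IsOpen V' ∧ IsCompact V' ∧
        Points.map (bcTrans F K X) ⁻¹' V' = V := by
  choose F hF O hO hvO hOV hsat using fun v : V => exists_nhd_saturated hX hV v.2
  obtain ⟨s, hs⟩ := hVc.elim_finite_subcover O hO fun v hv => Set.mem_iUnion.2 ⟨⟨v, hv⟩, hvO ⟨v, hv⟩⟩
  have hfin : FiniteDimensional k (s.sup F : IntermediateField k K) :=
    Finset.sup_induction (p := fun E : IntermediateField k K => FiniteDimensional k E) inferInstance
      (fun E₁ h₁ E₂ h₂ => IntermediateField.finiteDimensional_sup E₁ E₂) (fun v _ => hF v)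
  refine ⟨s.sup F, hfin, Points.map (bcTrans (s.sup F : IntermediateField k K) K X) '' V,
    isOpenMap_bcTrans _ K hX V hV, hVc.image (Points.continuous_map _),
    Set.Subset.antisymm ?_ (Set.subset_preimage_image _ _)⟩
  rintro z' ⟨z, hz, he⟩
  obtain ⟨v, hvs, hzv⟩ := Set.mem_iUnion₂.1 (hs hz)
  exact hOV v (hsat v z z' (saturated_mono (Finset.le_sup hvs) he) hzv)

theorem bcTrans_conj {X : Sp (Spec (CommRingCat.of k))} (F : IntermediateField k K) {σ : K ≃ₐ[k] K}
    (hσ : σ ∈ F.fixingSubgroup) (g : ext (k := k) K ⟶ ext K)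
    (hg : g.left = Spec.map (CommRingCat.ofHom (σ : K ≃ₐ[k] K).toRingHom)) :
    Limits.prod.map (𝟙 X) ((yon _).map g) ≫ bcTrans F K X = bcTrans F K X := by
  rw [prod.map_map, Category.comp_id, ← Functor.map_comp]
  congr 2
  apply Over.OverMorphism.ext
  rw [Over.comp_left, hg, extMap_left, ← Spec.map_comp]
  congr 1
  ext r
  exact (IntermediateField.mem_fixingSubgroup_iff F σ).1 hσ r r.2

/-- Quasi-compact opens are stable under an open subgroup of the Galois group. -/
theorem exists_stable_subgroup {X : Sp (Spec (CommRingCat.of k))} (hX : IsAlgSpace X)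
    {V : Set (Points (X ⨯ (yon _).obj (ext K)))} (hV : IsOpen V) (hVc : IsCompact V) :
    ∃ H : Subgroup (K ≃ₐ[k] K), IsOpen (H : Set (K ≃ₐ[k] K)) ∧
      ∀ σ ∈ H, ∀ g : ext (k := k) K ⟶ ext K,
        g.left = Spec.map (CommRingCat.ofHom (σ : K ≃ₐ[k] K).toRingHom) →
          Points.map (Limits.prod.map (𝟙 X) ((yon _).map g)) '' V = V := by
  obtain ⟨F, hF, V', -, -, rfl⟩ := exists_descend_qcOpen hX hV hVc
  refine ⟨F.fixingSubgroup, F.fixingSubgroup_isOpen, fun σ hσ g hg => ?_⟩
  let g' : ext (k := k) K ⟶ ext K := Over.homMk (Spec.map (CommRingCat.ofHom σ.symm.toRingHom)) (by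
    show Spec.map _ ≫ Spec.map _ = Spec.map _
    rw [← Spec.map_comp]
    congr 1
    ext r
    exact σ.symm.commutes r)
  have hgg : g' ≫ g = 𝟙 _ := by
    apply Over.OverMorphism.ext
    rw [Over.comp_left, hg, show g'.left = Spec.map (CommRingCat.ofHom σ.symm.toRingHom) from rfl, Over.id_left,
      ← Spec.map_comp]
    refine Eq.trans ?_ (Spec.map_id _)
    congr 1
    ext r
    exact σ.symm_apply_apply r
  apply Set.Subset.antisymm
  · rintro _ ⟨z, hz, rfl⟩
    show Points.map _ _ ∈ V'
    rwa [← Points.map_comp, bcTrans_conj F hσ g hg]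
  · intro z hz
    refine ⟨Points.map (Limits.prod.map (𝟙 X) ((yon _).map g')) z, ?_, ?_⟩
    · show Points.map _ _ ∈ V'
      rwa [← Points.map_comp, bcTrans_conj F (show σ.symm ∈ F.fixingSubgroup from inv_mem hσ) g' rfl]
    · rw [← Points.map_comp, prod.map_map, Category.comp_id, ← Functor.map_comp, hgg,
        CategoryTheory.Functor.map_id, prod.map_id_id, Points.map_id]

/-- Connectedness of all finite levels gives connectedness. -/
theorem connectedSpace_of_finite_levels {X : Sp (Spec (CommRingCat.of k))} (hX : IsAlgSpace X)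
    (h : ∀ F : IntermediateField k K, FiniteDimensional k F →
      ConnectedSpace (Points (X ⨯ (yon _).obj (ext F)))) :
    ConnectedSpace (Points (X ⨯ (yon _).obj (ext K))) := by
  haveI := h ⊥ inferInstance
  haveI : Nonempty (Points (X ⨯ (yon _).obj (ext K))) :=
    (surjective_bcTrans (X := X) (⊥ : IntermediateField k K) K (Classical.arbitrary _)).nonempty
  rw [connectedSpace_iff_clopen]
  refine ⟨inferInstance, fun T hT => ?_⟩
  by_contra hne
  push Not at hne
  obtain ⟨z, hz⟩ := hne.1
  obtain ⟨F, hF, O, -, hzO, hOT, hsat⟩ := exists_nhd_saturated hX hT.isOpen hz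
  haveI := h F hF
  let f := Points.map (bcTrans F K X)
  have ho : IsOpenMap f := isOpenMap_bcTrans F K hX
  haveI : Algebra.IsIntegral F K := Algebra.IsIntegral.tower_top (R := k)
  have hc : IsClosedMap f := isClosedMap_bcTrans F K hX
  have hA : IsClopen (f '' T) := ⟨hc T hT.isClosed, ho T hT.isOpen⟩
  have hB : IsClopen (f '' Tᶜ) := ⟨hc Tᶜ hT.compl.isClosed, ho Tᶜ hT.compl.isOpen⟩
  have hA' : f '' T = Set.univ := hA.eq_univ ⟨f z, z, hz, rfl⟩
  obtain ⟨z', hz'⟩ := Set.nonempty_compl.2 hne.2
  have hB' : f '' Tᶜ = Set.univ := hB.eq_univ ⟨f z', z', hz', rfl⟩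
  obtain ⟨w, hw, hwz⟩ := hB'.ge (Set.mem_univ (f z))
  exact hw (hOT (hsat z w hwz.symm hzO))

theorem geomConnected_of_sepClosed {L : Type u} [Field L] [Algebra k L] [IsSepClosed L]
    {X : Sp (Spec (CommRingCat.of k))} (hX : IsAlgSpace X)
    (h : ConnectedSpace (Points (X ⨯ (yon _).obj (ext L)))) (M : Type u) [Field M] [Algebra k M] :
    ConnectedSpace (Points (X ⨯ (yon _).obj (ext M))) := by
  obtain ⟨Ω, _, _, _, _, _, _⟩ := FBaseLib.exists_field_compositum (k := k) M L
  haveI : ConnectedSpace (Points (X ⨯ (yon _).obj (ext Ω))) :=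
    connectedSpace_of_isOpenMap_fibres (isOpenMap_bcTrans L Ω hX) (surjective_bcTrans L Ω)
      (isPreconnected_fibre_bcTrans L Ω)
  exact (surjective_bcTrans (X := X) M Ω).connectedSpace (Points.continuous_map _)

end Groth.Agent.Dsp6
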