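import Groth.Agent.Dsp6.GeomInt
import Groth.Agent.GeomField.Descend

/-!
# Components and Galois orbits for base changes of algebraic spaces
-/

set_option autoImplicit false
set_option backward.isDefEq.respectTransparency false
set_option backward.isDefEq.respectTransparency.types false

universe u

open CategoryTheory CategoryTheory.Limits AlgebraicGeometry AlgSp Groth.Agent.AlgSpLib Groth.Agent.AlgSpPts
open Groth.Agent.AlgSpDec Groth.Agent.AlgSpDec.GeomRed

namespace Groth.Agent.Dsp6

variable {k : Type u} [Field k]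

theorem isPullback_prod_map {C : Type*} [Category C] [HasBinaryProducts C] (X : C) {Y Y' : C} (p : Y' ⟶ Y) :
    IsPullback (prod.map (𝟙 X) p) prod.snd prod.snd p := by
  refine ⟨⟨by rw [prod.map_snd]⟩, ⟨PullbackCone.IsLimit.mk _ (fun s => prod.lift (s.fst ≫ prod.fst) s.snd)
    (fun s => ?_) (fun s => prod.lift_snd _ _) (fun s m h1 h2 => ?_)⟩⟩
  · apply Limits.prod.hom_ext
    · simp
    · simp [s.condition]
  · apply Limits.prod.hom_ext
    · rw [prod.lift_fst, ← h1, Category.assoc, prod.map_fst, Category.comp_id]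
    · rw [prod.lift_snd, h2]

theorem isOpenMap_prod_snd {X Y : Sp (Spec (CommRingCat.of k))} (hX : IsAlgSpace X) (hY : IsAlgSpace Y) :
    IsOpenMap (Points.map (prod.snd : X ⨯ Y ⟶ Y)) :=
  ToFieldFlat.univOpen_of_isPullback (isPullback_prod_terminal X Y)
    (ToFieldFlat.univOpen (σ := 𝟙 (Spec (CommRingCat.of k))) hX ((isTerminalYon _).from X))
    hY (𝟙 Y) (𝟙 _) prod.snd (IsPullback.of_horiz_isIso ⟨by simp⟩)

theorem map_toHom_eq {F : Sp (Spec (CommRingCat.of k))} (p : FieldPt F) (t : Points ((yon _).obj p.pt)) :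
    Points.map p.toHom t = Points.mk p := by
  obtain ⟨s, rfl⟩ := (Points.schemeHomeo p.pt).surjective t
  haveI : Subsingleton ↥p.pt.left := inferInstanceAs (Subsingleton (PrimeSpectrum p.K))
  show Points.map p.toHom (Points.ofScheme _ s) = _
  rw [← Points.ofPt_eq_map_ofScheme, Subsingleton.elim s (IsLocalRing.closedPoint p.K)]
  exact Points.ofPt_toHom p _

theorem isConnected_fibre_prod_snd {X Y : Sp (Spec (CommRingCat.of k))}
    (hX : ∀ (K : Type u) [Field K] [Algebra k K], ConnectedSpace (Points (X ⨯ (yon _).obj (ext K))))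
    (y : Points Y) : IsConnected (Points.map (prod.snd : X ⨯ Y ⟶ Y) ⁻¹' {y}) := by
  obtain ⟨p, rfl⟩ := Points.mk_surjective y
  letI : Algebra k p.K := (Spec.preimage p.str).hom.toAlgebra
  have hstr : p.str = Spec.map (CommRingCat.ofHom (algebraMap k p.K)) := (Spec.map_preimage p.str).symm
  haveI : ConnectedSpace (Points (X ⨯ (yon _).obj p.pt)) := by
    rw [show p.pt = ext p.K from congrArg Over.mk hstr]
    exact hX p.K
  have hr : Points.map (prod.snd : X ⨯ Y ⟶ Y) ⁻¹' {Points.mk p} =
      Set.range (Points.map (prod.map (𝟙 X) p.toHom)) := by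
    ext z
    constructor
    · intro hz
      obtain ⟨w, hw, -⟩ := exists_point_of_isPullback (isPullback_prod_map X p.toHom)
        (x := z) (y := Points.ofScheme p.pt (IsLocalRing.closedPoint p.K))
        ((show Points.map _ z = _ from hz).trans (map_toHom_eq p _).symm)
      exact ⟨w, hw⟩
    · rintro ⟨w, rfl⟩
      show Points.map _ _ = _
      rw [← Points.map_comp, (isPullback_prod_map X p.toHom).w, Points.map_comp]
      exact map_toHom_eq p _
  rw [hr]
  exact isConnected_range (Points.continuous_map _)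

theorem bijective_connectedComponentsMap_of_isOpenMap {A B : Type*} [TopologicalSpace A] [TopologicalSpace B]
    {f : A → B} (hc : Continuous f) (ho : IsOpenMap f) (hf : ∀ b, IsConnected (f ⁻¹' {b})) :
    Function.Bijective hc.connectedComponentsMap := by
  have hs : Function.Surjective f := fun b => (hf b).nonempty.imp fun _ h => h
  have hq := (ho.isQuotientMap hc hs).isCoinducing
  refine ⟨?_, fun c => ?_⟩
  · intro c c' h
    obtain ⟨a, rfl⟩ := ConnectedComponents.surjective_coe c
    obtain ⟨a', rfl⟩ := ConnectedComponents.surjective_coe c'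
    have h' : ConnectedComponents.mk (f a) = ConnectedComponents.mk (f a') := h
    rw [ConnectedComponents.coe_eq_coe] at h'
    rw [ConnectedComponents.coe_eq_coe, ← hq.preimage_connectedComponent hf a,
      ← hq.preimage_connectedComponent hf a', h']
  · obtain ⟨b, rfl⟩ := ConnectedComponents.surjective_coe c
    obtain ⟨a, rfl⟩ := hs b
    exact ⟨a, rfl⟩

variable (K : Type u) [Field K] [Algebra k K]

theorem exists_conj_of_fst_eq [Normal k K] {X : Sp (Spec (CommRingCat.of k))}
    {z z' : Points (X ⨯ (yon _).obj (ext K))}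
    (h : Points.map (prod.fst : X ⨯ (yon _).obj (ext K) ⟶ X) z = Points.map prod.fst z') :
    ∃ (σ : K ≃ₐ[k] K) (g : ext (k := k) K ⟶ ext K),
      g.left = Spec.map (CommRingCat.ofHom (σ : K ≃ₐ[k] K).toRingHom) ∧
        Points.map (Limits.prod.map (𝟙 X) ((yon _).map g)) z = z' := by
  obtain ⟨p, hp⟩ := Points.mk_surjective (Points.map (prod.fst : X ⨯ (yon _).obj (ext K) ⟶ X) z)
  have hlift : ∀ t, Points.map (prod.fst : X ⨯ (yon _).obj (ext K) ⟶ X) t = Points.mk p →
      ∃ w : ↥(p.pt ⨯ ext K).left, Points.ofPt (bcChart K p.toHom) w = t := fun t ht => by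
    obtain ⟨q, -, hq⟩ := exists_point_of_isPullback (isPullback_bcChart K p.toHom)
      (x := Points.ofScheme p.pt (IsLocalRing.closedPoint p.K)) (y := t) ((map_toHom_eq p _).trans ht.symm)
    obtain ⟨w, rfl⟩ := (Points.schemeHomeo _).surjective q
    exact ⟨w, (Points.ofPt_eq_map_ofScheme _ _).trans hq⟩
  obtain ⟨w, rfl⟩ := hlift z hp.symm
  obtain ⟨w', rfl⟩ := hlift z' (h.symm.trans hp.symm)
  letI : (Spec (CommRingCat.of p.K)).Over (Spec (CommRingCat.of k)) := ⟨p.str⟩
  obtain ⟨σ, hσ⟩ := GeomField.exists_galAct_eq (X := Spec (CommRingCat.of p.K))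
    ((bcIso K p.pt).hom w : ↥(Curv2.bc k (Spec (CommRingCat.of p.K)) K)) ((bcIso K p.pt).hom w')
    (Subsingleton.elim (α := PrimeSpectrum p.K) _ _)
  let g : ext (k := k) K ⟶ ext K := Over.homMk (Spec.map (CommRingCat.ofHom (σ : K ≃ₐ[k] K).toRingHom)) (by
    show Spec.map _ ≫ Spec.map _ = Spec.map _
    rw [← Spec.map_comp]
    congr 1
    ext r
    exact σ.commutes r)
  refine ⟨σ, g, rfl, ?_⟩
  have e : (yon _).map (prod.map (𝟙 p.pt) g) ≫ bcChart K p.toHom =
      bcChart K p.toHom ≫ Limits.prod.map (𝟙 X) ((yon _).map g) := by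
    apply Limits.prod.hom_ext
    · rw [Category.assoc, Category.assoc, prod.map_fst, Category.comp_id, bcChart, prod.lift_fst, ← Category.assoc,
        ← Functor.map_comp, prod.map_fst, Category.comp_id]
    · rw [Category.assoc, Category.assoc, prod.map_snd, bcChart, prod.lift_snd, prod.lift_snd_assoc,
        ← Functor.map_comp, ← Functor.map_comp, prod.map_snd]
  have e' : (prod.map (𝟙 p.pt) g).left ≫ (bcIso K p.pt).hom =
      (bcIso K p.pt).hom ≫ Curv2.galAct k (Spec (CommRingCat.of p.K)) K σ := by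
    apply pullback.hom_ext
    · rw [Category.assoc, Category.assoc]
      show (prod.map (𝟙 p.pt) g).left ≫ (bcIso K p.pt).hom ≫ FBase.bcπ p.pt.hom K =
        (bcIso K p.pt).hom ≫ Curv2.galAct k _ K σ ≫ pullback.fst _ _
      rw [bcIso_π, Curv2.galAct, pullback.lift_fst, Category.comp_id, ← Over.comp_left, prod.map_fst,
        Category.comp_id]
      exact (bcIso_π K p.pt).symm
    · rw [Category.assoc, Category.assoc]
      show (prod.map (𝟙 p.pt) g).left ≫ (bcIso K p.pt).hom ≫ FBase.bcStr p.pt.hom K =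
        (bcIso K p.pt).hom ≫ Curv2.galAct k _ K σ ≫ pullback.snd _ _
      rw [bcIso_str, Curv2.galAct, pullback.lift_snd, ← Over.comp_left, prod.map_snd, Over.comp_left,
        ← bcIso_str, Category.assoc]
      rfl
  have hw : (prod.map (𝟙 p.pt) g).left w = w' := by
    refine (Scheme.homeoOfIso (bcIso K p.pt)).injective ?_
    show ((prod.map (𝟙 p.pt) g).left ≫ (bcIso K p.pt).hom) w = (bcIso K p.pt).hom w'
    rw [e']
    exact hσ
  rw [Points.map_ofPt, ← e, ofPt_comp, hw]

end Groth.Agent.Dsp6
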