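import Groth.Agent.AlgSpDec.GeomRed
import Groth.Agent.AlgSpDec.ToFieldFlat
import Groth.Agent.AlgSpDec.DecentMor
import Groth.Agent.AlgSpPts.Descent
import Groth.Agent.CAlgOdd.GeomIrrField
import Groth.Agent.Dsp6.DiscreteFibre

/-!
# Base change of algebraic spaces along field extensions: integrality and connectedness
-/

set_option autoImplicit false
set_option backward.isDefEq.respectTransparency false
set_option backward.isDefEq.respectTransparency.types false

universe u

open CategoryTheory CategoryTheory.Limits AlgebraicGeometry AlgSp Groth.Agent.AlgSpLib Groth.Agent.AlgSpPts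
open Groth.Agent.AlgSpDec Groth.Agent.AlgSpDec.GeomRed

namespace Groth.Agent.Dsp6

variable {k : Type u} [Field k] (K : Type u) [Field K] [Algebra k K]

theorem isPullback_prod_terminal {S : Scheme.{u}} (F G : Sp S) :
    IsPullback (prod.fst : F ⨯ G ⟶ F) prod.snd ((isTerminalYon S).from F) ((isTerminalYon S).from G) :=
  ⟨⟨(isTerminalYon S).hom_ext _ _⟩, ⟨PullbackCone.IsLimit.mk _ (fun s => prod.lift s.fst s.snd)
    (fun s => by simp) (fun s => by simp) (fun s m h1 h2 => by apply Limits.prod.hom_ext <;> simp [h1, h2])⟩⟩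

theorem isDecent_bc {X : Sp (Spec (CommRingCat.of k))} (hX : IsAlgSpace X) (hd : IsDecent X) :
    IsDecent (X ⨯ (yon _).obj (ext K)) :=
  isDecent_of_isPullback (isPullback_prod_terminal _ _) hX (IsAlgSpace.yon_obj _) (IsAlgSpace.yon_obj _) hd
    (isDecent_yon _)

theorem isOpenMap_bc_fst {X : Sp (Spec (CommRingCat.of k))} (hX : IsAlgSpace X) :
    IsOpenMap (Points.map (prod.fst : X ⨯ (yon _).obj (ext K) ⟶ X)) :=
  ToFieldFlat.univOpen_of_isPullback (isPullback_prod_terminal X ((yon _).obj (ext K))).flip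
    (ToFieldFlat.univOpen (σ := 𝟙 (Spec (CommRingCat.of k))) (IsAlgSpace.yon_obj _)
      ((isTerminalYon _).from ((yon _).obj (ext K))))
    hX (𝟙 X) (𝟙 _) prod.fst (IsPullback.of_horiz_isIso ⟨by simp⟩)

theorem isPreconnected_fibre_bc_fst [IsSepClosed k] {X : Sp (Spec (CommRingCat.of k))} (x : Points X) :
    IsPreconnected (Points.map (prod.fst : X ⨯ (yon _).obj (ext K) ⟶ X) ⁻¹' {x}) := by
  obtain ⟨p, rfl⟩ := Points.mk_surjective x
  letI : Algebra k p.K := (Spec.preimage p.str).hom.toAlgebra
  have hstr : p.str = Spec.map (CommRingCat.ofHom (algebraMap k p.K)) := (Spec.map_preimage p.str).symm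
  haveI : IrreducibleSpace ↥(FBase.bc p.pt.hom K) := by
    have h := GeomConn5.geometricallyIrreducible_spec_field k p.K
      (CAlgOdd.GeomIrrField.separable_mem_range k p.K)
    rw [← hstr] at h
    exact h.geometrically_irreducibleSpace _ _ _ (IsPullback.of_hasPullback _ _)
  haveI : PreconnectedSpace (Points ((yon _).obj (p.pt ⨯ ext K))) := by
    haveI : IrreducibleSpace ↥(p.pt ⨯ ext K).left :=
      (Scheme.homeoOfIso (bcIso K p.pt)).irreducibleSpace_iff.mpr ‹_›
    refine ⟨?_⟩
    rw [← (Points.schemeHomeo (p.pt ⨯ ext K)).surjective.range_eq]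
    exact isPreconnected_range (Points.schemeHomeo _).continuous
  have hone : ∀ t : Points ((yon _).obj p.pt), Points.map p.toHom t = Points.mk p := fun t => by
    obtain ⟨s, rfl⟩ := (Points.schemeHomeo p.pt).surjective t
    haveI : Subsingleton ↥p.pt.left := inferInstanceAs (Subsingleton (PrimeSpectrum p.K))
    show Points.map p.toHom (Points.ofScheme _ s) = _
    rw [← Points.ofPt_eq_map_ofScheme, Subsingleton.elim s (IsLocalRing.closedPoint p.K)]
    exact Points.ofPt_toHom p _
  have hr : Points.map (prod.fst : X ⨯ (yon _).obj (ext K) ⟶ X) ⁻¹' {Points.mk p} =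
      Set.range (Points.map (bcChart K p.toHom)) := by
    ext z
    constructor
    · intro hz
      obtain ⟨w, -, hw⟩ := exists_point_of_isPullback (isPullback_bcChart K p.toHom)
        (x := Points.ofScheme p.pt (IsLocalRing.closedPoint p.K)) (y := z) ((hone _).trans hz.symm)
      exact ⟨w, hw⟩
    · rintro ⟨w, rfl⟩
      show Points.map _ _ = _
      rw [← Points.map_comp, ← (isPullback_bcChart K p.toHom).w, Points.map_comp]
      exact hone _
  rw [hr]
  exact isPreconnected_range (Points.continuous_map _)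

/-- A space mapping openly onto a connected space with connected fibres is connected. -/
theorem connectedSpace_of_isOpenMap_fibres {A B : Type*} [TopologicalSpace A] [TopologicalSpace B]
    [ConnectedSpace B] {f : A → B} (ho : IsOpenMap f) (hs : Function.Surjective f)
    (hf : ∀ b, IsPreconnected (f ⁻¹' {b})) : ConnectedSpace A := by
  haveI : Nonempty A := (hs (Classical.arbitrary B)).nonempty
  rw [connectedSpace_iff_clopen]
  refine ⟨inferInstance, fun s hs' => ?_⟩
  have hside : ∀ a a', f a = f a' → a ∈ s → a' ∈ s := fun a a' he ha =>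
    (hf (f a)).subset_isClopen hs' ⟨a, rfl, ha⟩ he.symm
  have hcl : IsClopen (f '' s) := by
    refine ⟨⟨?_⟩, ho _ hs'.isOpen⟩
    convert ho _ hs'.compl.isOpen using 1
    ext b
    obtain ⟨a, rfl⟩ := hs b
    exact ⟨fun h => ⟨a, fun ha => h ⟨a, ha, rfl⟩, rfl⟩,
      fun ⟨a', ha', he⟩ ⟨a'', ha'', he'⟩ => ha' (hside a'' a' (he'.trans he.symm) ha'')⟩
  rcases isClopen_iff.1 hcl with h | h
  · exact Or.inl (Set.image_eq_empty.1 h)
  · refine Or.inr (Set.eq_univ_of_forall fun a => ?_)
    obtain ⟨a', ha', he⟩ := (h ▸ Set.mem_univ (f a) : f a ∈ f '' s)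
    exact hside a' a he ha'

end Groth.Agent.Dsp6
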