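import Groth.Agent.S10242
import Groth.Agent.AlgSpPts.Dim

/-!
# Global functions on integral algebraic spaces
-/

set_option autoImplicit false
set_option backward.isDefEq.respectTransparency false
set_option backward.isDefEq.respectTransparency.types false

universe u

open CategoryTheory CategoryTheory.Limits AlgebraicGeometry AlgSp Groth.Agent.AlgSpLib Opposite Topology

namespace Groth.Agent.Dsp6

variable {S : Scheme.{u}} {X : Sp S}

/-- Value of a global function on an etale scheme over the space. -/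
noncomputable def gval (E : EtOver X) : ↥(gsectEt (OEt X)) →+* Γ(E.obj.left.left, ⊤) :=
  (ULift.ringEquiv : ULift.{u + 1} Γ(E.obj.left.left, ⊤) ≃+* _).toRingHom.comp
    (limit.π (OEt X).obj (op E)).hom

theorem gval_map {E E' : EtOver X} (g : E ⟶ E') (z : ↥(gsectEt (OEt X))) :
    g.hom.left.left.appTop (gval E' z) = gval E z := by
  have h := congrArg (fun f => f z) (limit.w (OEt X).obj g.op)
  exact congrArg ULift.down h

/-- The locus where a global function is invertible. -/
def nzLocus (z : ↥(gsectEt (OEt X))) : Set (Points X) :=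
  ⋃ E : EtOver X, Points.ofPt E.obj.hom '' (E.obj.left.left.basicOpen (gval E z) : Set ↥E.obj.left.left)

theorem isOpen_nzLocus (z : ↥(gsectEt (OEt X))) : IsOpen (nzLocus z) :=
  isOpen_iUnion fun E => isOpenMap_ofPt E.property _ (Scheme.basicOpen E.obj.left.left (gval E z)).isOpen

theorem preimage_nzLocus (z : ↥(gsectEt (OEt X))) (E : EtOver X) :
    Points.ofPt E.obj.hom ⁻¹' nzLocus z = (E.obj.left.left.basicOpen (gval E z) : Set ↥E.obj.left.left) := by
  refine Set.Subset.antisymm ?_ fun u hu => Set.mem_iUnion.2 ⟨E, u, hu, rfl⟩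
  intro u hu
  obtain ⟨E', u', hu', he⟩ := Set.mem_iUnion.1 hu
  have sq := E'.property.rep.isPullback' E.obj.hom
  obtain ⟨w, hw', hw⟩ := exists_ofPt_of_eq sq he
  let p := E'.property.rep.fst' E.obj.hom
  let q := E'.property.rep.snd E.obj.hom
  haveI : Etale q.left := E'.property.property_snd _
  let E'' : EtOver X := EtOver.mk ((yon S).map q ≫ E.obj.hom)
    (repWith_comp ((repWith_yon_map_iff _ q).2 ‹_›) E.property)
  let g : E'' ⟶ E := EtOver.homMk q rfl
  let g' : E'' ⟶ E' := EtOver.homMk p sq.w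
  have h1 : w ∈ E''.obj.left.left.basicOpen (gval E'' z) := by
    rw [← gval_map g', ← Scheme.preimage_basicOpen_top]
    show p.left w ∈ E'.obj.left.left.basicOpen (gval E' z)
    rw [hw']
    exact hu'
  rw [← gval_map g, ← Scheme.preimage_basicOpen_top] at h1
  have h2 : q.left w ∈ E.obj.left.left.basicOpen (gval E z) := h1
  rw [hw] at h2
  exact h2

theorem eq_zero_of_nzLocus_eq_empty {X : Space S} (hX : IsReducedSp X.obj) (z : ↥(gsectEt (OEt X.obj)))
    (h : nzLocus z = ∅) : z = 0 := by
  refine (Groth.Agent.S10242.result X hX).2 z fun E => ?_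
  refine TopologicalSpace.Opens.coe_eq_empty.1 ?_
  have := preimage_nzLocus z E
  rw [h, Set.preimage_empty] at this
  exact this.symm

theorem isDomain_gsect (X : Space S) (hX : IsIntegralSp X.obj) : IsDomain ↥(gsectEt (OEt X.obj)) := by
  obtain ⟨hr, -, hi⟩ := hX
  have : IrreducibleSpace (Points X.obj) := hi
  have hnz : ∀ z : ↥(gsectEt (OEt X.obj)), z ≠ 0 → (nzLocus z).Nonempty := fun z hz =>
    Set.nonempty_iff_ne_empty.2 fun h => hz (eq_zero_of_nzLocus_eq_empty hr z h)
  have : Nontrivial ↥(gsectEt (OEt X.obj)) := by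
    refine ⟨⟨0, 1, fun h => ?_⟩⟩
    obtain ⟨x⟩ := hi.2
    obtain ⟨U, a, ha, has⟩ := X.property.atlas
    obtain ⟨u, -⟩ := surjective_ofPt has x
    let E : EtOver X.obj := EtOver.mk a ha
    have h1 : gval E 0 = gval E 1 := congrArg _ h
    rw [map_zero, map_one] at h1
    have h2 := congrArg (fun f => u ∈ E.obj.left.left.basicOpen f) h1
    simp only [Scheme.basicOpen_zero, Scheme.basicOpen_of_isUnit _ isUnit_one, eq_iff_iff] at h2
    exact h2.2 trivial
  refine (isDomain_iff_noZeroDivisors_and_nontrivial _).2 ⟨⟨fun {z w} hzw => ?_⟩, this⟩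
  by_contra hne
  push Not at hne
  obtain ⟨x, hx, hx'⟩ := nonempty_preirreducible_inter (isOpen_nzLocus z) (isOpen_nzLocus w)
    (hnz z hne.1) (hnz w hne.2)
  obtain ⟨U, a, ha, has⟩ := X.property.atlas
  obtain ⟨u, rfl⟩ := surjective_ofPt has x
  let E : EtOver X.obj := EtOver.mk a ha
  have h1 : u ∈ E.obj.left.left.basicOpen (gval E z) ⊓ E.obj.left.left.basicOpen (gval E w) :=
    ⟨(preimage_nzLocus z E).subset hx, (preimage_nzLocus w E).subset hx'⟩
  rw [← Scheme.basicOpen_mul, ← map_mul, hzw, map_zero, Scheme.basicOpen_zero] at h1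
  exact h1

end Groth.Agent.Dsp6
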