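import Groth.Agent.Hensel.EtaleLift
import Groth.Agent.AlgSpDec.MonoPoint
import Groth.Prelude.Def_AlgSpDec
import Groth.Prelude.Def_Hensel
import Mathlib.RingTheory.Unramified.LocalRing

/-!
# A henselization of the local ring of an elementary etale neighbourhood
-/

set_option autoImplicit false
set_option backward.isDefEq.respectTransparency false
set_option backward.isDefEq.respectTransparency.types false

universe u

open CategoryTheory CategoryTheory.Limits AlgebraicGeometry AlgSp Groth.Agent.AlgSpLib IsLocalRing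
open Groth.Agent.AlgSpDec

namespace Groth.Agent.Dsp6

/-- Local ring maps out of a local etale algebra with trivial residue extension. -/
theorem existsUnique_lift_of_etale_local {A0 B0 A B T : Type u} [CommRing A0] [CommRing B0] [CommRing A]
    [CommRing B] [CommRing T] [Algebra A0 B0] [Algebra.Etale A0 B0] [IsLocalRing A] [IsLocalRing B]
    [HenselianLocalRing T] [Algebra A0 A] [Algebra B0 B] (M : Submonoid A0) [IsLocalization M A]
    (q : Ideal B0) [q.IsPrime] [IsLocalization.AtPrime B q] (φ : A →+* B) [IsLocalHom φ]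
    (hc : φ.comp (algebraMap A0 A) = (algebraMap B0 B).comp (algebraMap A0 B0))
    (hres : Function.Bijective (ResidueField.map φ))
    (hm : (maximalIdeal A).map φ = maximalIdeal B)
    (f : A →+* T) [IsLocalHom f] : ∃! g : B →+* T, g.comp φ = f := by
  letI : Algebra A0 T := (f.comp (algebraMap A0 A)).toAlgebra
  let e := RingEquiv.ofBijective _ hres
  let τ : ResidueField B →+* ResidueField T := (ResidueField.map f).comp e.symm.toRingHom
  have hτ : ∀ a, τ (residue B (φ a)) = residue T (f a) := fun a => by
    have : e.symm (residue B (φ a)) = residue A a := e.symm_apply_eq.2 rfl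
    show ResidueField.map f (e.symm (residue B (φ a))) = _
    rw [this]
    rfl
  let σ : B0 →ₐ[A0] T ⧸ maximalIdeal T :=
    { τ.comp ((residue B).comp (algebraMap B0 B)) with
      commutes' := fun a => by
        show τ (residue B (algebraMap B0 B (algebraMap A0 B0 a))) = residue T (f (algebraMap A0 A a))
        rw [← hτ]
        exact congrArg (fun z => τ (residue B z)) (RingHom.congr_fun hc a).symm }
  obtain ⟨h, hh, huniq⟩ := Hensel.existsUnique_etale_lift_of_algebra (maximalIdeal T) σ
  have hres' : ∀ b, residue T (h b) = τ (residue B (algebraMap B0 B b)) := fun b => congr($hh b)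
  have hunit : ∀ b : q.primeCompl, IsUnit (h b) := fun b => by
    rw [← residue_ne_zero_iff_isUnit, hres' b, map_ne_zero, residue_ne_zero_iff_isUnit]
    exact IsLocalization.map_units B b
  refine ⟨IsLocalization.lift (M := q.primeCompl) (g := h.toRingHom) hunit,
    IsLocalization.ringHom_ext M ?_, fun g hg => ?_⟩
  · rw [RingHom.comp_assoc, hc, ← RingHom.comp_assoc, IsLocalization.lift_comp]
    exact h.comp_algebraMap
  · have hgf : ∀ a, g (φ a) = f a := RingHom.congr_fun hg
    have hgm : ∀ b ∈ maximalIdeal B, g b ∈ maximalIdeal T := by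
      intro b hb
      rw [← hm] at hb
      have := Ideal.mem_map_of_mem g hb
      rw [Ideal.map_map, hg] at this
      exact (Ideal.map_le_iff_le_comap (K := maximalIdeal T)).2 (fun a ha => map_nonunit f a ha) this
    have hgres : ∀ b, residue T (g b) = τ (residue B b) := fun b => by
      obtain ⟨z, hz⟩ := hres.2 (residue B b)
      obtain ⟨a, rfl⟩ := residue_surjective z
      rw [ResidueField.map_residue] at hz
      have : b - φ a ∈ maximalIdeal B := (residue_eq_zero_iff _).1 (by rw [map_sub, hz, sub_self])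
      have := (residue_eq_zero_iff _).2 (hgm _ this)
      rw [map_sub, map_sub, sub_eq_zero] at this
      rw [this, hgf, ← hz, hτ]
    let g0 : B0 →ₐ[A0] T :=
      { g.comp (algebraMap B0 B) with
        commutes' := fun a => by
          show g (algebraMap B0 B (algebraMap A0 B0 a)) = f (algebraMap A0 A a)
          rw [← hgf]
          exact congrArg g (RingHom.congr_fun hc a).symm }
    have hg0 : g0 = h := huniq g0 (AlgHom.ext fun b => hgres (algebraMap B0 B b))
    refine IsLocalization.ringHom_ext q.primeCompl ?_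
    rw [IsLocalization.lift_comp, ← hg0]

/-- Henselizations descend along local etale maps with trivial residue extension. -/
theorem isHenselization_comp_of_etale_local {A0 B0 A B : Type u} [CommRing A0] [CommRing B0] [CommRing A]
    [CommRing B] [Algebra A0 B0] [Algebra.Etale A0 B0] [IsLocalRing A] [IsLocalRing B]
    [Algebra A0 A] [Algebra B0 B] (M : Submonoid A0) [IsLocalization M A]
    (q : Ideal B0) [q.IsPrime] [IsLocalization.AtPrime B q] (φ : A →+* B) [IsLocalHom φ]
    (hc : φ.comp (algebraMap A0 A) = (algebraMap B0 B).comp (algebraMap A0 B0))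
    (hres : Function.Bijective (ResidueField.map φ))
    (hm : (maximalIdeal A).map φ = maximalIdeal B)
    (R : Type u) [CommRing R] [IsLocalRing R] [Algebra B R] [IsLocalHom (algebraMap B R)]
    [hR : _root_.Hensel.IsHenselization B R] :
    letI : Algebra A R := ((algebraMap B R).comp φ).toAlgebra
    ∃ (_ : IsLocalHom (algebraMap A R)), _root_.Hensel.IsHenselization A R := by
  letI : Algebra A R := ((algebraMap B R).comp φ).toAlgebra
  have hloc : IsLocalHom (algebraMap A R) := inferInstanceAs (IsLocalHom ((algebraMap B R).comp φ))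
  refine ⟨hloc, hR.henselian, fun T _ _ f hf => ?_⟩
  obtain ⟨g, hg, hgu⟩ := existsUnique_lift_of_etale_local M q φ hc hres hm f
  have hgl : IsLocalHom g := ⟨fun b hb => by
    by_contra hb'
    have hb'' : b ∈ maximalIdeal B := hb'
    rw [← hm] at hb''
    have := Ideal.mem_map_of_mem g hb''
    rw [Ideal.map_map, hg] at this
    exact ((Ideal.map_le_iff_le_comap (K := maximalIdeal T)).2 (fun a ha => map_nonunit f a ha) this : g b ∈ maximalIdeal T) hb⟩
  obtain ⟨G, hG, hGu⟩ := hR.universal T g hgl
  refine ⟨G, ?_, fun G' hG' => hGu G' (hgu _ ?_)⟩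
  · show G.comp ((algebraMap B R).comp φ) = f
    rw [← RingHom.comp_assoc, hG, hg]
  · show (G'.comp (algebraMap B R)).comp φ = f
    rw [RingHom.comp_assoc]
    exact hG'

variable {S : Scheme.{u}} {X : Sp S}

theorem bijective_residueFieldMap_of_elem {U U' : Over S} {a : (yon S).obj U ⟶ X} {a' : (yon S).obj U' ⟶ X}
    (g : U' ⟶ U) (u' : ↥U'.left) (hg : (yon S).map g ≫ a = a')
    (ha : Mono (FieldPt.ofPt a (g.left u')).toHom) (ha' : Mono (FieldPt.ofPt a' u').toHom) :
    Function.Bijective (g.left.residueFieldMap u').hom := by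
  let p := FieldPt.ofPt a (g.left u')
  let p' := FieldPt.ofPt a' u'
  let r : p'.pt ⟶ p.pt := Over.homMk (Spec.map (g.left.residueFieldMap u')) (by
    change Spec.map (g.left.residueFieldMap u') ≫ U.left.fromSpecResidueField (g.left u') ≫ U.hom =
      U'.left.fromSpecResidueField u' ≫ U'.hom
    rw [Scheme.Hom.SpecMap_residueFieldMap_fromSpecResidueField_assoc, Over.w])
  have hr : (yon S).map r ≫ p.toHom = p'.toHom := by
    rw [FieldPt.toHom_ofPt, FieldPt.toHom_ofPt, ← hg, ← Category.assoc, ← Category.assoc,
      ← Functor.map_comp, ← Functor.map_comp]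
    congr 2
    exact Over.OverMorphism.ext (Scheme.Hom.SpecMap_residueFieldMap_fromSpecResidueField g.left u')
  haveI : Mono ((yon S).map r) := by
    haveI : Mono ((yon S).map r ≫ p.toHom) := by rw [hr]; exact ha'
    exact mono_of_mono _ p.toHom
  haveI : IsIso ((yon S).map r) := isIso_of_mono_field (K := p.K) (str := p.str)
    (IsAlgSpace.yon_obj _) ((yon S).map r) (Points.ofScheme p'.pt (IsLocalRing.closedPoint p'.K))
  haveI : IsIso r := isIso_of_reflects_iso r (yon S)
  haveI : IsIso (Spec.map (g.left.residueFieldMap u')) := inferInstanceAs (IsIso ((Over.forget S).map r))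
  exact isIso_SpecMap_iff.1 ‹_›

theorem isHenselization_stalk_comp {X Y : Scheme.{u}} (g : X ⟶ Y) [Etale g] (x : X)
    (hres : Function.Bijective (g.residueFieldMap x).hom)
    (R : Type u) [CommRing R] [IsLocalRing R] [Algebra ↥(X.presheaf.stalk x) R]
    [IsLocalHom (algebraMap ↥(X.presheaf.stalk x) R)] [_root_.Hensel.IsHenselization ↥(X.presheaf.stalk x) R] :
    letI : Algebra ↥(Y.presheaf.stalk (g x)) R :=
      ((algebraMap ↥(X.presheaf.stalk x) R).comp (g.stalkMap x).hom).toAlgebra
    ∃ (_ : IsLocalHom (algebraMap ↥(Y.presheaf.stalk (g x)) R)),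
      _root_.Hensel.IsHenselization ↥(Y.presheaf.stalk (g x)) R := by
  obtain ⟨V, hV, hxV, -⟩ := exists_isAffineOpen_mem_and_subset (U := (⊤ : Y.Opens)) (x := g x) trivial
  obtain ⟨W, hW, hxW, hWV⟩ := exists_isAffineOpen_mem_and_subset (U := g ⁻¹ᵁ V) (x := x) hxV
  have het : (g.appLE V W hWV).hom.Etale :=
    HasRingHomProperty.appLE (P := @Etale) g ‹_› ⟨V, hV⟩ ⟨W, hW⟩ hWV
  letI := (g.appLE V W hWV).hom.toAlgebra
  haveI : Algebra.Etale Γ(Y, V) Γ(X, W) := het
  letI := TopCat.Presheaf.algebra_section_stalk Y.presheaf (⟨g x, hxV⟩ : V)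
  letI := TopCat.Presheaf.algebra_section_stalk X.presheaf (⟨x, hxW⟩ : W)
  haveI : IsLocalization.AtPrime (Y.presheaf.stalk (g x)) (hV.primeIdealOf ⟨g x, hxV⟩).asIdeal :=
    hV.isLocalization_stalk ⟨g x, hxV⟩
  haveI : IsLocalization.AtPrime (X.presheaf.stalk x) (hW.primeIdealOf ⟨x, hxW⟩).asIdeal :=
    hW.isLocalization_stalk ⟨x, hxW⟩
  haveI : IsLocalHom (g.stalkMap x).hom := inferInstance
  have hm : (maximalIdeal ↥(Y.presheaf.stalk (g x))).map (g.stalkMap x).hom =
      maximalIdeal ↥(X.presheaf.stalk x) := by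
    letI := (g.stalkMap x).hom.toAlgebra
    haveI : IsLocalHom (algebraMap (Y.presheaf.stalk (g x)) (X.presheaf.stalk x)) :=
      inferInstanceAs (IsLocalHom (g.stalkMap x).hom)
    haveI : Algebra.EssFiniteType (Y.presheaf.stalk (g x)) (X.presheaf.stalk x) := by
      rw [← RingHom.essFiniteType_algebraMap, RingHom.algebraMap_toAlgebra]
      exact LocallyOfFiniteType.stalkMap g x
    haveI : Algebra.FormallyUnramified (Y.presheaf.stalk (g x)) (X.presheaf.stalk x) := by
      rw [← RingHom.formallyUnramified_algebraMap, RingHom.algebraMap_toAlgebra]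
      exact FormallyUnramified.stalkMap g x
    exact Algebra.FormallyUnramified.map_maximalIdeal
  refine isHenselization_comp_of_etale_local (A0 := Γ(Y, V)) (B0 := Γ(X, W))
    (hV.primeIdealOf ⟨g x, hxV⟩).asIdeal.primeCompl (hW.primeIdealOf ⟨x, hxW⟩).asIdeal
    (g.stalkMap x).hom ?_ hres hm R
  exact congrArg CommRingCat.Hom.hom (show Y.presheaf.germ V (g x) hxV ≫ g.stalkMap x =
    g.appLE V W hWV ≫ X.presheaf.germ W x hxW by
      rw [Scheme.Hom.germ_stalkMap, Scheme.Hom.appLE, Category.assoc, X.presheaf.germ_res])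

end Groth.Agent.Dsp6
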