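import Groth.Agent.Dsp6.FiniteNhd
import Groth.Agent.Dsp6.DiscreteFibre
import Groth.Agent.AlgSpOne.QfCodim
import Groth.Agent.AlgSpOne.GenFiniteDecent
import Groth.Agent.AlgSpOne.DecentFinComp
import Groth.Agent.AlgSpDec.ResTrdeg
import Groth.Agent.FibDim.Minimal

/-!
# Generic points of integral algebraic spaces and dominant morphisms
-/

set_option autoImplicit false
set_option backward.isDefEq.respectTransparency false
set_option backward.isDefEq.respectTransparency.types false

universe u

open CategoryTheory CategoryTheory.Limits AlgebraicGeometry AlgSp Groth.Agent.AlgSpLib Groth.Agent.AlgSpPts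
open Groth.Agent.AlgSpDec Groth.Agent.AlgSpOne TopologicalSpace Order

namespace Groth.Agent.Dsp6

variable {S : Scheme.{u}}

theorem isCodimZero_iff_generic {X : Space S} (hXi : IsIntegralSp X.obj) {x : Points X.obj}
    (hx : IsGenericPoint x (Set.univ : Set (Points X.obj))) (z : Points X.obj) :
    IsCodimZero X.obj z ↔ z = x := by
  haveI := t0Space_points X.property hXi.2.1
  obtain ⟨U, a, ha, has⟩ := X.property.atlas
  obtain ⟨u, rfl⟩ := surjective_ofPt has z
  rw [show IsCodimZero X.obj (Points.ofPt a u) ↔ coheight u = 0 from hasAt_codimZero_iff ha u]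
  constructor
  · intro h0
    obtain ⟨u', hu', he⟩ := exists_specializes_lift_of_isDecent hXi.2.1 ha
      (hx.specializes (y := Points.ofPt a u) trivial)
    rw [← eq_of_specializes_of_coheight h0 hu', he]
  · intro he
    refine coheight_eq_zero.2 fun v hv => ?_
    have hs : v ⤳ u := Scheme.le_iff_specializes.1 hv
    have h1 : Points.ofPt a v = Points.ofPt a u :=
      ((hs.map (Points.continuous_ofPt a)).antisymm
        (by rw [he]; exact hx.specializes trivial)).eq
    rw [eq_of_specializes_of_isDecent hXi.2.1 ha h1.symm hs]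

theorem coheight_generic_chart {X : Space S} (hXi : IsIntegralSp X.obj) {x : Points X.obj}
    (hx : IsGenericPoint x (Set.univ : Set (Points X.obj))) {U : Over S} {a : (yon S).obj U ⟶ X.obj}
    (ha : RepWith @Etale a) {u : ↥U.left} (hu : Points.ofPt a u = x) : coheight u = 0 :=
  (hasAt_codimZero_iff ha u).1 ((isCodimZero_iff_generic hXi hx _).2 hu)

theorem map_generic {X Y : Space S} (hYi : IsIntegralSp Y.obj) {f : X ⟶ Y} (hd : IsDominantMor f.hom)
    {x : Points X.obj} (hx : IsGenericPoint x (Set.univ : Set (Points X.obj)))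
    {y : Points Y.obj} (hy : IsGenericPoint y (Set.univ : Set (Points Y.obj))) : Points.map f.hom x = y := by
  haveI := t0Space_points Y.property hYi.2.1
  refine IsGenericPoint.eq (S := (Set.univ : Set (Points Y.obj))) ?_ hy
  show closure {_} = Set.univ
  refine Set.eq_univ_of_univ_subset ?_
  rw [← (hd : DenseRange _).closure_range]
  refine closure_minimal ?_ isClosed_closure
  rintro _ ⟨z, rfl⟩
  exact specializes_iff_mem_closure.1 ((hx.specializes trivial).map (Points.continuous_map _))

variable {X Y : Space S} (hXi : IsIntegralSp X.obj) (hYi : IsIntegralSp Y.obj) {f : X ⟶ Y}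
  (hd : IsDominantMor f.hom) {x : Points X.obj} (hx : IsGenericPoint x (Set.univ : Set (Points X.obj)))
  {y : Points Y.obj} (hy : IsGenericPoint y (Set.univ : Set (Points Y.obj)))

include hXi hYi hd hx hy

theorem isCodimZero_iff_map (h : ∀ x' : Points X.obj, Points.map f.hom x' = y → x' = x) (z : Points X.obj) :
    IsCodimZero X.obj z ↔ IsCodimZero Y.obj (Points.map f.hom z) := by
  rw [isCodimZero_iff_generic hXi hx, isCodimZero_iff_generic hYi hy]
  exact ⟨fun e => e ▸ map_generic hYi hd hx hy, h z⟩

theorem qf_generic_iff_unique (hft : LocP @LocallyOfFiniteType f.hom) :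
    HasAtMor QFQ f.hom x ↔ ∀ x' : Points X.obj, Points.map f.hom x' = y → x' = x := by
  obtain ⟨h1, h2⟩ := codimZero_qf_tfae X.property Y.property f.hom hft y ((isCodimZero_iff_generic hYi hy y).2 rfl)
  constructor
  · intro hq x' hx'
    refine (isCodimZero_iff_generic hXi hx x').1 (h2 (fun z _ hz => ?_) x' hx')
    rw [(isCodimZero_iff_generic hXi hx z).1 hz]
    exact hq
  · exact fun h => h1.1 (fun z hz => (isCodimZero_iff_generic hXi hx z).2 (h z hz)) x (map_generic hYi hd hx hy)

theorem resTrdeg_generic_iff_unique (hft : LocP @LocallyOfFiniteType f.hom) :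
    HasAtMor (fun _ _ h u => Dual3.resTrdeg h u = 0) f.hom x ↔
      ∀ x' : Points X.obj, Points.map f.hom x' = y → x' = x := by
  rw [← qf_generic_iff_unique hXi hYi hd hx hy hft]
  obtain ⟨U, V, a, b, h, ha, ha', hb, -, w⟩ := exists_chart X.property Y.property f.hom
  haveI : LocallyOfFiniteType h.left := hft a b h ha hb w
  obtain ⟨u, hu⟩ := surjective_ofPt ha' x
  have h0 := coheight_generic_chart hXi hx ha hu
  rw [← hu, ResTrdeg.hasAtMor_iff ha hb w u 0]
  refine Iff.trans ?_ (isQfAt_iff_chart hft ha hb w u).symm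
  rw [FieldFibre.fibreDimAt_eq_zero_iff_rd, ← FibDim.rd_eq_rdeg, Nat.cast_eq_zero]
  constructor
  · intro hr z hz _
    rwa [eq_of_specializes_of_coheight h0 hz]
  · exact fun H => H u specializes_rfl rfl

omit hXi hd hx in
theorem mem_range_generic {V : Sp S} {j : V ⟶ Y.obj} (hj : RepWith @IsOpenImmersion j) [Nonempty (Points V)] :
    y ∈ Set.range (Points.map j) :=
  (hy.mem_open_set_iff (isOpen_range_openImm Y.property hj)).2 (by simp [Set.range_nonempty])

end Groth.Agent.Dsp6
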