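import Groth.Agent.Dsp6.DiscreteFibre
import Groth.Agent.AlgSpOne.Residual
import Groth.Agent.AlgSpDec.OnePointGeneral
import Groth.Agent.AlgSpDec.LqfScheme
import Groth.Agent.AlgSpDec.OpenCoverSpace

/-!
# Locally quasi-finite algebraic spaces over a field
-/

set_option autoImplicit false
set_option backward.isDefEq.respectTransparency false
set_option backward.isDefEq.respectTransparency.types false

universe u

open CategoryTheory CategoryTheory.Limits AlgebraicGeometry AlgSp Groth.Agent.AlgSpLib Groth.Agent.AlgSpPts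
open Groth.Agent.AlgSpDec

namespace Groth.Agent.Dsp6

theorem module_finite_of_nilpotent {B C : Type u} [CommRing B] [CommRing C] [Algebra B C] (I : Ideal B)
    (hI : IsNilpotent I) [Module.Finite B (C ⧸ I.map (algebraMap B C))] : Module.Finite B C := by
  let J : Submodule B C := (I.map (algebraMap B C)).restrictScalars B
  let π : C →ₗ[B] C ⧸ I.map (algebraMap B C) := (Ideal.Quotient.mkₐ B (I.map (algebraMap B C))).toLinearMap
  have hπ : Function.Surjective π := Ideal.Quotient.mk_surjective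
  obtain ⟨N, hNfg, hN⟩ : ∃ N : Submodule B C, N.FG ∧ N.map π = ⊤ := by
    classical
    obtain ⟨T, hT⟩ := Module.Finite.fg_top (R := B) (M := C ⧸ I.map (algebraMap B C))
    choose l hl using hπ
    refine ⟨Submodule.span B ↑(T.image l), ⟨_, rfl⟩, ?_⟩
    rw [Submodule.map_span, ← hT, Finset.coe_image, Set.image_image]
    simp [hl]
  have h1 : (⊤ : Submodule B C) ≤ N ⊔ I • ⊤ := fun c _ => by
    obtain ⟨y, hy, hy'⟩ := (Submodule.eq_top_iff'.1 hN) (π c)
    rw [Ideal.smul_top_eq_map]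
    exact Submodule.mem_sup.2 ⟨y, hy, c - y, Ideal.Quotient.eq.1 hy'.symm, by ring⟩
  have key : ∀ n : ℕ, (⊤ : Submodule B C) ≤ N ⊔ I ^ n • ⊤ := by
    intro n
    induction n with
    | zero => exact le_sup_of_le_right (by rw [pow_zero, Ideal.one_eq_top, Submodule.top_smul])
    | succ n ih =>
      refine ih.trans (sup_le le_sup_left ((Submodule.smul_mono le_rfl h1).trans ?_))
      rw [Submodule.smul_sup, ← Submodule.mul_smul, ← pow_succ]
      exact sup_le (Submodule.smul_le_right.trans le_sup_left) le_sup_right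
  obtain ⟨n, hn⟩ := hI
  refine ⟨?_⟩
  convert hNfg
  refine (top_unique ((key n).trans ?_)).symm
  rw [hn, Ideal.zero_eq_bot, Submodule.bot_smul, sup_bot_eq]

open scoped TensorProduct in
theorem isFinite_specMap_of_nilpotent {B C : CommRingCat.{u}} (φ : B ⟶ C) (I : Ideal B) (hI : IsNilpotent I)
    (h : IsFinite (pullback.fst (Spec.map (CommRingCat.ofHom (Ideal.Quotient.mk I))) (Spec.map φ))) :
    IsFinite (Spec.map φ) := by
  letI := φ.hom.toAlgebra
  rw [IsFinite.SpecMap_iff]
  change Module.Finite B C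
  let e := pullbackSpecIso ↥B (↥B ⧸ I) ↥C
  have : IsFinite (e.inv ≫ pullback.fst (Spec.map (CommRingCat.ofHom (algebraMap ↥B (↥B ⧸ I))))
      (Spec.map (CommRingCat.ofHom (algebraMap ↥B ↥C)))) := by
    haveI : IsFinite (pullback.fst (Spec.map (CommRingCat.ofHom (algebraMap ↥B (↥B ⧸ I))))
      (Spec.map (CommRingCat.ofHom (algebraMap ↥B ↥C)))) := h
    infer_instance
  rw [pullbackSpecIso_inv_fst', IsFinite.SpecMap_iff] at this
  haveI : Module.Finite (↥B ⧸ I) ((↥B ⧸ I) ⊗[↥B] ↥C) := by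
    exact RingHom.finite_algebraMap.1 this
  haveI : Module.Finite ↥B ((↥B ⧸ I) ⊗[↥B] ↥C) := Module.Finite.trans (↥B ⧸ I) _
  haveI : Module.Finite ↥B (↥C ⧸ (I • ⊤ : Submodule ↥B ↥C)) :=
    Module.Finite.equiv (TensorProduct.quotTensorEquivQuotSMul ↥C I)
  haveI : Module.Finite ↥B (↥C ⧸ I.map (algebraMap ↥B ↥C)) :=
    Module.Finite.equiv (((Submodule.quotEquivOfEq _ _ (Ideal.smul_top_eq_map I)).trans
      (Submodule.Quotient.restrictScalarsEquiv ↥B (I.map (algebraMap ↥B ↥C)))))
  exact module_finite_of_nilpotent I hI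

section Field

variable {k : Type u} [Field k]

local notation "Sk" => Spec (CommRingCat.of k)

theorem chart_lft {X : Sp Sk} {p : X ⟶ (yon Sk).obj (Over.mk (𝟙 _))}
    (hp : LocP (@LocallyQuasiFinite ⊓ @LocallyOfFiniteType : MorphismProperty Scheme.{u}) p) {U : Over Sk}
    {a : (yon Sk).obj U ⟶ X} (ha : RepWith @Etale a) :
    LocallyQuasiFinite U.hom ∧ LocallyOfFiniteType U.hom := by
  obtain ⟨h, hh⟩ := (yon Sk).map_surjective (a ≫ p)
  have he : h.left = U.hom := (Category.comp_id h.left).symm.trans (Over.w h)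
  have := hp a (𝟙 _) h ha (repWith_id _ _) (by rw [hh, Category.comp_id])
  rw [he] at this
  exact ⟨this.1, this.2⟩

/-- Points of a locally quasi-finite scheme over a field are open, with finite artinian local rings. -/
theorem exists_nhd_artinian (U : Over Sk) [LocallyQuasiFinite U.hom] [LocallyOfFiniteType U.hom] (u : ↥U.left) :
    ∃ V : U.left.Opens, (V : Set ↥U.left) = {u} ∧ IsAffineOpen V ∧ IsArtinianRing ↥Γ(U.left, V) ∧
      IsLocalRing ↥Γ(U.left, V) ∧ IsFinite (V.ι ≫ U.hom) := by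
  haveI := discreteTopology_of_lqf_field (K := k) U.hom
  let V : U.left.Opens := ⟨{u}, isOpen_discrete _⟩
  haveI : Subsingleton ↥V := ⟨fun x y => Subtype.ext ((show x.1 = u from x.2).trans (show y.1 = u from y.2).symm)⟩
  haveI : CompactSpace ↥V := Finite.compactSpace
  haveI : QuasiCompact (V.ι ≫ U.hom) := (quasiCompact_iff_compactSpace _).2 ‹_›
  haveI : IsFinite (V.ι ≫ U.hom) := IsFinite.of_locallyQuasiFinite _
  have hV : IsAffineOpen V := isAffine_of_isAffineHom (V.ι ≫ U.hom)
  haveI : IsLocallyNoetherian U.left := LocallyOfFiniteType.isLocallyNoetherian U.hom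
  haveI : IsNoetherianRing Γ(U.left, V) := IsLocallyNoetherian.component_noetherian ⟨V, hV⟩
  have hsub : Subsingleton (PrimeSpectrum Γ(U.left, V)) := by
    constructor
    intro P Q
    apply hV.fromSpec.isOpenEmbedding.injective
    have hP : hV.fromSpec P ∈ (V : Set ↥U.left) := hV.range_fromSpec ▸ Set.mem_range_self P
    have hQ : hV.fromSpec Q ∈ (V : Set ↥U.left) := hV.range_fromSpec ▸ Set.mem_range_self Q
    exact (Set.mem_singleton_iff.1 hP).trans (Set.mem_singleton_iff.1 hQ).symm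
  haveI : Ring.KrullDimLE 0 Γ(U.left, V) := Ring.krullDimLE_zero_iff.2 fun I hI => by
    obtain ⟨m, hm, hle⟩ := Ideal.exists_le_maximal I hI.ne_top
    have e : m = I := congrArg PrimeSpectrum.asIdeal
      (Subsingleton.elim (α := PrimeSpectrum Γ(U.left, V)) ⟨m, hm.isPrime⟩ ⟨I, hI⟩)
    exact e ▸ hm
  have hne : Nonempty (PrimeSpectrum Γ(U.left, V)) := ⟨hV.primeIdealOf ⟨u, rfl⟩⟩
  haveI : Nontrivial Γ(U.left, V) := PrimeSpectrum.nonempty_iff_nontrivial.1 hne
  haveI : IsLocalRing Γ(U.left, V) := by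
    obtain ⟨m, hm⟩ := Ideal.exists_maximal Γ(U.left, V)
    exact IsLocalRing.of_unique_max_ideal ⟨m, hm, fun m' hm' => congrArg PrimeSpectrum.asIdeal
      (Subsingleton.elim (α := PrimeSpectrum Γ(U.left, V)) ⟨m', hm'.isPrime⟩ ⟨m, hm.isPrime⟩)⟩
  exact ⟨V, rfl, hV, IsNoetherianRing.isArtinianRing_of_krullDimLE_zero, ‹_›, ‹_›⟩

theorem finite_of_isFinite_field {Y : Scheme.{u}} (f : Y ⟶ Sk) [IsFinite f] : Finite ↥Y :=
  Set.finite_univ_iff.1 ((f.finite_preimage_singleton (IsLocalRing.closedPoint k)).subset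
    fun _ _ => Subsingleton.elim (α := PrimeSpectrum k) _ _)

/-- Locally quasi-finite algebraic spaces over a field are schemes. -/
theorem exists_rep_of_lqf_field {X : Sp Sk} (hX : IsAlgSpace X) {p : X ⟶ (yon Sk).obj (Over.mk (𝟙 _))}
    (hp : LocP (@LocallyQuasiFinite ⊓ @LocallyOfFiniteType : MorphismProperty Scheme.{u}) p) :
    ∃ U : Over Sk, Nonempty ((yon Sk).obj U ≅ X) := by
  refine exists_rep_of_points hX fun x => ?_
  obtain ⟨U₀, a, u, -, ha, rfl⟩ := exists_affine_chart_at hX x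
  obtain ⟨hq, hf⟩ := chart_lft hp ha
  obtain ⟨V, hV, -, -, -, hfin⟩ := exists_nhd_artinian U₀ u
  let A : Over Sk := Over.mk (V.ι ≫ U₀.hom)
  let i : A ⟶ U₀ := Over.homMk V.ι rfl
  obtain ⟨P, j, b, hj, hb, hbe, hbs⟩ := exists_image_chart hX
    (repWith_comp ((repWith_yon_map_iff _ i).2 (inferInstanceAs (Etale V.ι))) ha)
  haveI : IsFinite A.hom := hfin
  haveI : Subsingleton ↥A.left := ⟨fun x y => Subtype.ext
    ((Set.mem_singleton_iff.1 (hV.subset x.2)).trans (Set.mem_singleton_iff.1 (hV.subset y.2)).symm)⟩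
  let a₀ : ↥A.left := ⟨u, show u ∈ (V : Set ↥U₀.left) from hV.symm ▸ rfl⟩
  have hP : IsAlgSpace P := Groth.Agent.AlgSpDec.isAlgSpace_of_representable hX j hj.rep
  -- the relation is finite
  let R := hbe.rep.pullback b
  let t : R ⟶ A := hbe.rep.fst' b
  let s : R ⟶ A := hbe.rep.snd b
  have sq : IsPullback ((yon Sk).map t) ((yon Sk).map s) b b := hbe.rep.isPullback' b
  let l : R.left ⟶ pullback A.hom A.hom := pullback.lift t.left s.left ((Over.w t).trans (Over.w s).symm)
  haveI : Mono l := ⟨fun g g' e => rel_ext sq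
    (by simpa [l] using congrArg (· ≫ pullback.fst A.hom A.hom) e)
    (by simpa [l] using congrArg (· ≫ pullback.snd A.hom A.hom) e)⟩
  haveI : IsFinite (pullback.fst A.hom A.hom ≫ A.hom) := by
    haveI : IsFinite (pullback.fst A.hom A.hom) := MorphismProperty.pullback_fst (P := @IsFinite) _ _ ‹_›
    infer_instance
  haveI := finite_of_isFinite_field (pullback.fst A.hom A.hom ≫ A.hom)
  haveI : Finite ↥R.left := Finite.of_injective _ l.injective
  haveI : IsAffine A.left := isAffine_of_isAffineHom A.hom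
  haveI : QuasiCompact s.left := (quasiCompact_iff_compactSpace _).2 Finite.compactSpace
  haveI : MorphismProperty.IsLocalAtTarget (@QuasiCompact : MorphismProperty Scheme.{u}) Scheme.fppfPrecoverage :=
    isLocalAtTarget_fppf _
  haveI := isLocallySurjective_of_etale_surjective hbe hbs
  have hbq : RepWith @QuasiCompact b :=
    repWith_of_locallySurjective hbe.rep b sq _ ((repWith_yon_map_iff _ s).2 ‹_›)
  haveI hsub : Subsingleton (Points P) := ⟨fun y z => by
    obtain ⟨v, rfl⟩ := surjective_ofPt hbs y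
    obtain ⟨w, rfl⟩ := surjective_ofPt hbs z
    rw [Subsingleton.elim v w]⟩
  haveI : Nonempty (Points P) := ⟨Points.ofPt b a₀⟩
  have hdec : IsDecent P := (isDecent_iff_exists_quasiCompact hP).2 fun y => by
    refine ⟨FieldPt.ofPt b a₀, Subsingleton.elim _ _, ?_⟩
    rw [FieldPt.toHom_ofPt]
    refine repWith_comp ((repWith_yon_map_iff _ _).2 ?_) hbq
    change QuasiCompact (A.left.fromSpecResidueField a₀)
    exact quasiCompact_of_subsingleton _
  obtain ⟨Q, -, ⟨e⟩⟩ := exists_affine_iso_of_subsingleton hP hdec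
  refine ⟨Q, e.hom ≫ j, ?_⟩
  obtain ⟨q, hq'⟩ : ∃ q : ↥Q.left, Points.ofPt e.hom q = Points.ofPt b a₀ := by
    obtain ⟨q, hq⟩ := surjective_ofPt (repWith_of_isIso @Surjective e.hom) (Points.ofPt b a₀)
    exact ⟨q, hq⟩
  refine ⟨q, MorphismProperty.RespectsIso.precomp _ _ _ hj, ?_⟩
  rw [← Points.map_ofPt, hq', Points.map_ofPt, hb, ofPt_comp]
  rfl

theorem locP_of_iso {X : Sp Sk} {p : X ⟶ (yon Sk).obj (Over.mk (𝟙 _))} {U : Over Sk} (e : (yon Sk).obj U ≅ X)
    [LocallyQuasiFinite U.hom] [LocallyOfFiniteType U.hom] :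
    LocP (@LocallyQuasiFinite ⊓ @LocallyOfFiniteType : MorphismProperty Scheme.{u}) p := by
  obtain ⟨h, hh⟩ := (yon Sk).map_surjective (e.hom ≫ p)
  have he : h.left = U.hom := (Category.comp_id h.left).symm.trans (Over.w h)
  exact locP_of_chart (repWith_of_isIso _ e.hom) (repWith_of_isIso _ e.hom) (repWith_id _ _)
    (by rw [hh, Category.comp_id]) (by rw [he]; exact ⟨‹_›, ‹_›⟩)

theorem locP_lqf_of_mono {X Y : Sp Sk} (hX : IsAlgSpace X) (hY : IsAlgSpace Y) (f : X ⟶ Y) [Mono f]
    {q : Y ⟶ (yon Sk).obj (Over.mk (𝟙 _))}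
    (hq : LocP (@LocallyQuasiFinite ⊓ @LocallyOfFiniteType : MorphismProperty Scheme.{u}) q) :
    LocP (@LocallyQuasiFinite ⊓ @LocallyOfFiniteType : MorphismProperty Scheme.{u}) (f ≫ q) := by
  obtain ⟨U, ⟨e⟩⟩ := exists_rep_of_lqf_field hY hq
  obtain ⟨hUq, hUf⟩ := chart_lft hq (repWith_of_isIso @Etale e.hom)
  obtain ⟨T, a, ha, has⟩ := hX.atlas
  let m : X ⟶ (yon Sk).obj U := f ≫ e.inv
  obtain ⟨g, hg⟩ := (yon Sk).map_surjective (a ≫ m)
  obtain ⟨h, hh⟩ := (yon Sk).map_surjective (a ≫ f ≫ q)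
  have he : h.left = T.hom := (Category.comp_id h.left).symm.trans (Over.w h)
  refine locP_of_chart ha has (repWith_id _ _) (by rw [hh, Category.comp_id]) ?_
  rw [he]
  have key : ∀ t : ↥T.left, ∃ A : T.left.Opens, t ∈ A ∧
      LocallyQuasiFinite (A.ι ≫ T.hom) ∧ LocallyOfFiniteType (A.ι ≫ T.hom) := by
    intro t
    obtain ⟨V, hV, hVa, hVart, hVloc, hVfin⟩ := exists_nhd_artinian U (g.left t)
    obtain ⟨A, hA, htA, hAV⟩ := exists_isAffineOpen_mem_and_subset (U := g.left ⁻¹ᵁ V) (x := t)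
      (show g.left t ∈ (V : Set ↥U.left) from hV.symm ▸ rfl)
    refine ⟨A, htA, ?_⟩
    let B := Γ(U.left, V)
    let C := Γ(T.left, A)
    let φ : B ⟶ C := g.left.appLE V A hAV
    let I : Ideal B := IsLocalRing.maximalIdeal B
    letI : Field (B ⧸ I) := Ideal.Quotient.field I
    let ιV : Over.mk (hVa.fromSpec ≫ U.hom) ⟶ U := Over.homMk hVa.fromSpec rfl
    let T' : Over Sk := Over.mk (hA.fromSpec ≫ T.hom)
    let ιA : T' ⟶ T := Over.homMk hA.fromSpec rfl
    let a' : (yon Sk).obj T' ⟶ X := (yon Sk).map ιA ≫ a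
    have ha' : RepWith @Etale a' := repWith_comp ((repWith_yon_map_iff _ ιA).2 (inferInstanceAs (Etale hA.fromSpec))) ha
    let κ : Spec (CommRingCat.of (B ⧸ I)) ⟶ Spec B := Spec.map (CommRingCat.ofHom (Ideal.Quotient.mk I))
    haveI : IsClosedImmersion κ := IsClosedImmersion.spec_of_surjective _ Ideal.Quotient.mk_surjective
    let pt : Over Sk := Over.mk (κ ≫ hVa.fromSpec ≫ U.hom)
    let ι : pt ⟶ U := Over.homMk (κ ≫ hVa.fromSpec) (Category.assoc _ _ _)
    haveI : Mono ι := (Over.forget Sk).mono_of_mono_map (inferInstanceAs (Mono (κ ≫ hVa.fromSpec)))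
    -- the point lifts to `X`
    have hιt : ι.left (IsLocalRing.closedPoint (B ⧸ I)) = g.left t := by
      have : ι.left (IsLocalRing.closedPoint (B ⧸ I)) ∈ (V : Set ↥U.left) :=
        hVa.range_fromSpec ▸ ⟨κ (IsLocalRing.closedPoint (B ⧸ I)), rfl⟩
      exact Set.mem_singleton_iff.1 (hV.subset this)
    obtain ⟨w, -, -⟩ := exists_point_of_isPullback (IsPullback.of_hasPullback m ((yon Sk).map ι))
      (x := Points.ofPt a t) (y := Points.ofScheme pt (IsLocalRing.closedPoint (B ⧸ I))) (by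
        rw [Points.map_ofPt, ← hg, ← Points.ofPt_eq_map_ofScheme, Points.ofPt_eq_map_ofScheme,
          Points.ofPt_eq_map_ofScheme]
        exact (Points.map_yon_map_apply g t).trans ((congrArg _ hιt.symm).trans (Points.map_yon_map_apply ι _).symm))
    haveI : Mono ((yon Sk).map ι) := inferInstance
    haveI := isIso_of_mono_field (str := pt.hom)
      (isAlgSpace_pullback hX (IsAlgSpace.yon_obj pt) (IsAlgSpace.yon_obj U) m ((yon Sk).map ι))
      (pullback.snd m ((yon Sk).map ι)) w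
    let xu : (yon Sk).obj pt ⟶ X := inv (pullback.snd m ((yon Sk).map ι)) ≫ pullback.fst m ((yon Sk).map ι)
    have hxu : xu ≫ m = (yon Sk).map ι := by
      rw [Category.assoc, pullback.condition, IsIso.inv_hom_id_assoc]
    -- the fibre over the point
    let W := ha'.rep.pullback xu
    let w₁ : W ⟶ T' := ha'.rep.fst' xu
    let w₂ : W ⟶ pt := ha'.rep.snd xu
    haveI : Etale w₂.left := ha'.property_snd xu
    have sqX : IsPullback ((yon Sk).map w₁) ((yon Sk).map w₂) a' xu := ha'.rep.isPullback' xu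
    have hgA : (yon Sk).map (ιA ≫ g) = a' ≫ m := by rw [Functor.map_comp, hg, Category.assoc]
    have sqU : IsPullback w₁ w₂ (ιA ≫ g) ι := by
      have hw : w₁ ≫ ιA ≫ g = w₂ ≫ ι := (yon Sk).map_injective (by
        rw [Functor.map_comp, hgA, ← Category.assoc, sqX.w, Category.assoc, hxu, Functor.map_comp])
      refine IsPullback.of_map (yon Sk) hw ?_
      rw [hgA, ← hxu]
      exact IsPullback.of_isLimit' ⟨by rw [reassoc_of% sqX.w]⟩
        (PullbackCone.isLimitOfCompMono a' xu m _ sqX.isLimit)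
    have hfac : (ιA ≫ g).left = Spec.map φ ≫ hVa.fromSpec :=
      (IsAffineOpen.SpecMap_appLE_fromSpec g.left hVa hA hAV).symm
    have sqS : IsPullback w₁.left w₂.left (Spec.map φ) κ := by
      have := sqU.map (Over.forget Sk)
      refine AlgSpOne.isPullback_of_comp_mono hVa.fromSpec hfac.symm rfl ?_
      exact this
    haveI : IsAffineHom w₂.left := MorphismProperty.of_isPullback (P := @IsAffineHom) sqS
      (inferInstanceAs (IsAffineHom (Spec.map φ)))
    haveI : LocallyQuasiFinite w₂.left := AlgSpLib.locallyQuasiFinite_of_formallyUnramified _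
    haveI : IsArtinianScheme pt.left := inferInstanceAs (IsArtinianScheme (Spec (CommRingCat.of (B ⧸ I))))
    haveI : IsFinite w₂.left := IsFinite.of_locallyQuasiFinite _
    have hfinφ : IsFinite (Spec.map φ) := by
      refine isFinite_specMap_of_nilpotent φ I ?_ ?_
      · have := IsArtinianRing.isNilpotent_jacobson_bot (R := B)
        rwa [IsLocalRing.jacobson_eq_maximalIdeal ⊥ bot_ne_top] at this
      · rw [← sqS.flip.isoPullback_inv_fst]
        infer_instance
    haveI : IsFinite (V.ι ≫ U.hom) := hVfin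
    haveI : IsFinite (hVa.fromSpec ≫ U.hom) := by
      rw [← IsAffineOpen.isoSpec_inv_ι, Category.assoc]
      infer_instance
    haveI : IsFinite (A.ι ≫ T.hom) := by
      have e₁ : A.ι ≫ T.hom = hA.isoSpec.hom ≫ Spec.map φ ≫ hVa.fromSpec ≫ U.hom := by
        rw [← Category.assoc (Spec.map φ), ← hfac]
        have : (ιA ≫ g).left ≫ U.hom = T'.hom := Over.w (ιA ≫ g)
        rw [this]
        change _ = hA.isoSpec.hom ≫ hA.fromSpec ≫ T.hom
        rw [← IsAffineOpen.isoSpec_inv_ι, Category.assoc, Iso.hom_inv_id_assoc]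
      rw [e₁]
      infer_instance
    exact ⟨inferInstance, inferInstance⟩
  choose A hA hAq hAf using key
  have htop : ⨆ t, A t = ⊤ := top_unique fun s _ => TopologicalSpace.Opens.mem_iSup.2 ⟨s, hA s⟩
  exact ⟨(IsZariskiLocalAtSource.iff_of_iSup_eq_top (P := @LocallyQuasiFinite) A htop).2 hAq,
    (IsZariskiLocalAtSource.iff_of_iSup_eq_top (P := @LocallyOfFiniteType) A htop).2 hAf⟩

end Field

end Groth.Agent.Dsp6
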