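import Groth.Agent.AlgSpDec.MonoPoint
import Groth.Agent.Dsp6.DiscreteFibre
import Groth.Agent.AlgSpDec.ResTrdeg

/-!
# Points represented by monomorphisms: the relation fibre criterion
-/

set_option autoImplicit false
set_option backward.isDefEq.respectTransparency false
set_option backward.isDefEq.respectTransparency.types false

universe u

open CategoryTheory CategoryTheory.Limits AlgebraicGeometry AlgSp Groth.Agent.AlgSpLib Groth.Agent.AlgSpPts
open Groth.Agent.AlgSpDec

namespace Groth.Agent.Dsp6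

/-- Pullbacks of a finite extension of a residue field: finite fibres. -/
theorem pullback_fieldPoint {A U : Scheme.{u}} (g : A ⟶ U) (u : ↥U) {L : Type u} [Field L]
    (il : Spec (CommRingCat.of L) ⟶ Spec (U.residueField u)) [IsFinite il] :
    (∀ a, (pullback.fst g (il ≫ U.fromSpecResidueField u) ⁻¹' {a}).Finite) ∧
      (∀ z, g (pullback.fst g (il ≫ U.fromSpecResidueField u) z) = u) ∧
      (DiscreteTopology ↥A → IsFinite (pullback.fst g (il ≫ U.fromSpecResidueField u))) := by
  let j := pullback.fst g (U.fromSpecResidueField u)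
  let q := pullback.fst (pullback.snd g (U.fromSpecResidueField u)) il
  let e := pullbackLeftPullbackSndIso g (U.fromSpecResidueField u) il
  haveI : IsFinite q := MorphismProperty.pullback_fst (P := @IsFinite) _ _ ‹_›
  have he : pullback.fst g (il ≫ U.fromSpecResidueField u) = e.inv ≫ q ≫ j :=
    (pullbackLeftPullbackSndIso_inv_fst g (U.fromSpecResidueField u) il).symm
  have hinj : Function.Injective j := j.isEmbedding.injective
  refine ⟨fun a => ?_, fun z => ?_, fun hA => ?_⟩
  · rw [he]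
    show ((e.inv ≫ q ≫ j) ⁻¹' {a}).Finite
    by_cases ha : a ∈ Set.range j
    · obtain ⟨b, rfl⟩ := ha
      refine (((e.inv ≫ q).finite_preimage_singleton b)).subset fun z hz => ?_
      exact hinj hz
    · refine Set.Finite.subset Set.finite_empty fun z hz => ha ⟨(e.inv ≫ q) z, ?_⟩
      exact hz
  · rw [← Scheme.Hom.comp_apply, pullback.condition, ← Category.assoc, Scheme.Hom.comp_apply]
    exact Scheme.fromSpecResidueField_apply _ _
  · haveI : IsClosedImmersion j := .of_isPreimmersion _ (isClosed_discrete _)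
    rw [he]
    infer_instance

theorem finite_residue_of_lqf {X Y : Scheme.{u}} (f : X ⟶ Y) [LocallyOfFiniteType f] [LocallyQuasiFinite f]
    (x : X) : IsFinite (Spec.map (f.residueFieldMap x)) := by
  rw [IsFinite.SpecMap_iff]
  exact CycLib.finite_residueFieldMap_of_rd_eq_zero f x (FibDim.rd_eq_zero_of_quasiFinite f x)

variable {S : Scheme.{u}} {X : Sp S}

/-- A finite self-product of a field valued morphism gives a monomorphism with the same point. -/
theorem exists_mono_of_finite {K : Type u} [Field K] {str : Spec (CommRingCat.of K) ⟶ S}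
    (π : (yon S).obj (Over.mk str) ⟶ X) (hX : IsAlgSpace X) {G : Over S} {a₁ a₂ : G ⟶ Over.mk str}
    (sq : IsPullback ((yon S).map a₁) ((yon S).map a₂) π π) [IsFinite a₂.left] :
    ∃ p : FieldPt X, Points.mk p = Points.ofPt π (IsLocalRing.closedPoint K) ∧ Mono p.toHom := by
  haveI : IsAffine (Over.mk str).left := inferInstanceAs (IsAffine (Spec (CommRingCat.of K)))
  haveI : IsAffine G.left := isAffine_of_isAffineHom a₂.left
  let e : Over.mk (G.left.isoSpec.inv ≫ G.hom) ≅ G := Over.isoMk G.left.isoSpec.symm rfl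
  have hfin : IsFinite (e.hom ≫ a₂).left := by
    change IsFinite (G.left.isoSpec.inv ≫ a₂.left)
    infer_instance
  obtain ⟨p, i, hi, -, hm⟩ := AlgSpDec.exists_mono_of_isPullback π hX (a₁ := e.hom ≫ a₁) (a₂ := e.hom ≫ a₂)
    (IsPullback.of_iso sq ((yon S).mapIso e).symm (Iso.refl _) (Iso.refl _) (Iso.refl _)
      (by simp [← Functor.map_comp]) (by simp [← Functor.map_comp]) (by simp) (by simp)) hfin
  refine ⟨p, ?_, hm⟩
  rw [← hi, ofPt_comp, Points.ofPt_toHom]

variable {U : Over S} {φ : (yon S).obj U ⟶ X}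

/-- Base change along a point whose residue field extension is finite. -/
theorem pullback_pt {A : Over S} (f : A ⟶ U) (u : ↥U.left) {K : Type u} [Field K]
    {str : Spec (CommRingCat.of K) ⟶ S} (a : Over.mk str ⟶ U)
    (il : Spec (CommRingCat.of K) ⟶ Spec (U.left.residueField u)) [IsFinite il]
    (hil : il ≫ U.left.fromSpecResidueField u = a.left) :
    ∃ (P : Over S) (pA : P ⟶ A) (pL : P ⟶ Over.mk str), IsPullback pA pL f a ∧
      (∀ z, (pA.left ⁻¹' {z}).Finite) ∧ (∀ w, f.left (pA.left w) = u) ∧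
      (DiscreteTopology ↥A.left → IsFinite pA.left) := by
  obtain ⟨A₁, hA₁, A₂⟩ := pullback_fieldPoint f.left u il
  let F := pullback.fst f.left (il ≫ U.left.fromSpecResidueField u)
  let G : pullback f.left (il ≫ U.left.fromSpecResidueField u) ⟶ Spec (CommRingCat.of K) := pullback.snd _ _
  have hc : F ≫ f.left = G ≫ a.left := by rw [← hil]; exact pullback.condition
  let P : Over S := Over.mk (F ≫ A.hom)
  let pA : P ⟶ A := Over.homMk F rfl
  let pL : P ⟶ Over.mk str := Over.homMk G (by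
    change G ≫ str = F ≫ A.hom
    have : a.left ≫ U.hom = str := Over.w a
    rw [← Over.w f, ← Category.assoc F, hc, Category.assoc, this])
  refine ⟨P, pA, pL, IsPullback.of_map (Over.forget S) (Over.OverMorphism.ext hc) ?_, A₁, hA₁, A₂⟩
  change IsPullback F G f.left a.left
  rw [← hil]
  exact IsPullback.of_hasPullback _ _

theorem exists_mono_of_relation_point (hX : IsAlgSpace X) {R : Over S} {s t : R ⟶ U}
    (sqR : IsPullback ((yon S).map t) ((yon S).map s) φ φ) [Etale t.left] {K : Type u} [Field K]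
    {str : Spec (CommRingCat.of K) ⟶ S} (r : Over.mk str ⟶ R) (ut us : ↥U.left)
    (il : Spec (CommRingCat.of K) ⟶ Spec (U.left.residueField ut)) [IsFinite il]
    (hil : il ≫ U.left.fromSpecResidueField ut = (r ≫ t).left)
    (il' : Spec (CommRingCat.of K) ⟶ Spec (U.left.residueField us)) [IsFinite il']
    (hil' : il' ≫ U.left.fromSpecResidueField us = (r ≫ s).left)
    (hF : {w : ↥R.left | s.left w = us ∧ t.left w = ut}.Finite) :
    ∃ p : FieldPt X, Points.mk p = Points.ofPt ((yon S).map (r ≫ s) ≫ φ) (IsLocalRing.closedPoint K) ∧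
      Mono p.toHom := by
  let π : (yon S).obj (Over.mk str) ⟶ X := (yon S).map (r ≫ s) ≫ φ
  have hπ : (yon S).map (r ≫ t) ≫ φ = π := by
    simp only [π, Functor.map_comp, Category.assoc, sqR.w]
  obtain ⟨P₁, p₁R, p₁L, sq₁, A₁, hA₁, -⟩ := pullback_pt t ut (r ≫ t) il hil
  haveI : Etale p₁L.left :=
    MorphismProperty.of_isPullback (P := @Etale) (sq₁.map (Over.forget S)) ‹Etale t.left›
  haveI : LocallyQuasiFinite p₁L.left := locallyQuasiFinite_of_formallyUnramified _
  haveI hd : DiscreteTopology ↥P₁.left := discreteTopology_of_lqf_field (K := K) p₁L.left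
  obtain ⟨P₂, p₂, p₂L, sq₂, B₁, hB₁, B₂⟩ := pullback_pt (p₁R ≫ s) us (r ≫ s) il' hil'
  have sqA : IsPullback ((yon S).map p₁L) ((yon S).map (p₁R ≫ s)) π φ := by
    rw [← hπ, (yon S).map_comp p₁R s]
    exact (sq₁.flip.map (yon S)).paste_vert sqR
  have sqG : IsPullback ((yon S).map (p₂ ≫ p₁L)) ((yon S).map p₂L) π π := by
    rw [(yon S).map_comp p₂ p₁L]
    exact (sq₂.map (yon S)).paste_horiz sqA
  haveI hfinP : Finite ↥P₂.left := by
    refine Set.finite_univ_iff.1 ((hF.preimage' (f := fun z => p₁R.left (p₂.left z)) fun b _ => ?_).subset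
      fun z _ => ⟨hB₁ z, hA₁ _⟩)
    exact ((A₁ b).preimage' fun c _ => B₁ c)
  haveI : IsFinite p₂.left := B₂ hd
  haveI : LocallyQuasiFinite (p₂ ≫ p₁L).left := inferInstanceAs (LocallyQuasiFinite (p₂.left ≫ p₁L.left))
  haveI : LocallyOfFiniteType (p₂ ≫ p₁L).left := inferInstanceAs (LocallyOfFiniteType (p₂.left ≫ p₁L.left))
  haveI : IsAffine (Over.mk str).left := inferInstanceAs (IsAffine (Spec (CommRingCat.of K)))
  haveI : IsArtinianScheme (Over.mk str).left := inferInstanceAs (IsArtinianScheme (Spec (CommRingCat.of K)))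
  haveI : QuasiCompact (p₂ ≫ p₁L).left :=
    HasAffineProperty.iff_of_isAffine.2 (Finite.compactSpace : CompactSpace ↥P₂.left)
  haveI : IsFinite (p₂ ≫ p₁L).left := IsFinite.of_locallyQuasiFinite _
  exact exists_mono_of_finite (K := K) (str := str) π hX sqG.flip

theorem exists_mono_point_of_finite_fibre (hX : IsAlgSpace X) (hφ : RepWith @Etale φ) (u u' : ↥U.left)
    (he : Points.ofPt φ u = Points.ofPt φ u')
    (hfin : ∀ (R : Over S) (s t : R ⟶ U), IsPullback ((yon S).map t) ((yon S).map s) φ φ →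
          {r : ↥R.left | s.left r = u ∧ t.left r = u'}.Finite) :
    ∃ p : FieldPt X, Points.mk p = Points.ofPt φ u ∧ Mono p.toHom := by
  let R := hφ.rep.pullback φ
  let t : R ⟶ U := hφ.rep.fst' φ
  let s : R ⟶ U := hφ.rep.snd φ
  have sqR : IsPullback ((yon S).map t) ((yon S).map s) φ φ := hφ.rep.isPullback' φ
  haveI : Etale s.left := hφ.property_snd φ
  haveI : Etale t.left := hφ.property _ _ _ sqR.flip
  have hF := hfin R s t sqR
  obtain ⟨r₀, h₁, h₂⟩ := exists_ofPt_of_eq sqR he.symm
  subst h₁ h₂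
  haveI : LocallyQuasiFinite t.left := locallyQuasiFinite_of_formallyUnramified _
  haveI : LocallyQuasiFinite s.left := locallyQuasiFinite_of_formallyUnramified _
  let r : Over.mk (R.left.fromSpecResidueField r₀ ≫ R.hom) ⟶ R := Over.homMk (R.left.fromSpecResidueField r₀) rfl
  haveI h₁ := finite_residue_of_lqf t.left r₀
  haveI h₂ := finite_residue_of_lqf s.left r₀
  obtain ⟨p, hp, hm⟩ := @exists_mono_of_relation_point _ _ _ φ hX R s t sqR _ ↥(R.left.residueField r₀) _
    _ r (t.left r₀) (s.left r₀) (Spec.map (t.left.residueFieldMap r₀)) h₁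
    (Scheme.Hom.SpecMap_residueFieldMap_fromSpecResidueField t.left r₀)
    (Spec.map (s.left.residueFieldMap r₀)) h₂
    (Scheme.Hom.SpecMap_residueFieldMap_fromSpecResidueField s.left r₀) hF
  refine ⟨p, hp.trans ?_, hm⟩
  rw [ofPt_comp]
  refine congrArg _ ?_
  exact congrArg s.left (Scheme.fromSpecResidueField_apply _ _)

theorem finite_fibre_of_mono_point (hX : IsAlgSpace X) (x : Points X) {p : FieldPt X} (hp : Points.mk p = x)
    [Mono p.toHom] (hφ : RepWith @Etale φ) {R : Over S} {s t : R ⟶ U}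
    (sqR : IsPullback ((yon S).map t) ((yon S).map s) φ φ) :
    ∃ (T T₂ : Over S) (c : T ⟶ p.pt) (i : T ⟶ U) (q₁ q₂ : T₂ ⟶ T) (σ : T₂ ⟶ R),
      IsPullback ((yon S).map i) ((yon S).map c) φ p.toHom ∧ Etale c.left ∧ Function.Injective i.left ∧
      IsPullback q₁.left q₂.left c.left c.left ∧ σ ≫ t = q₁ ≫ i ∧ σ ≫ s = q₂ ≫ i ∧
      ∀ r : ↥R.left, Points.ofPt ((yon S).map t ≫ φ) r = x → r ∈ Set.range σ.left := by
  let T := hφ.rep.pullback p.toHom
  let i : T ⟶ U := hφ.rep.fst' p.toHom
  let c : T ⟶ p.pt := hφ.rep.snd p.toHom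
  have sqT : IsPullback ((yon S).map i) ((yon S).map c) φ p.toHom := hφ.rep.isPullback' p.toHom
  haveI : Etale c.left := hφ.property_snd p.toHom
  haveI : Mono i := (yon S).mono_of_mono_map (PullbackCone.mono_fst_of_is_pullback_of_mono sqT.isLimit)
  let T₂ : Over S := pullback c c
  let q₁ : T₂ ⟶ T := pullback.fst c c
  let q₂ : T₂ ⟶ T := pullback.snd c c
  have hc : q₁ ≫ c = q₂ ≫ c := pullback.condition
  have hw : (yon S).map (q₁ ≫ i) ≫ φ = (yon S).map (q₂ ≫ i) ≫ φ := by
    rw [Functor.map_comp, Functor.map_comp, Category.assoc, Category.assoc, sqT.w, ← Category.assoc,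
      ← Category.assoc, ← Functor.map_comp, ← Functor.map_comp, hc]
  obtain ⟨σ, hσ⟩ := (yon S).map_surjective (sqR.lift _ _ hw)
  have hσt : σ ≫ t = q₁ ≫ i := (yon S).map_injective (by
    rw [Functor.map_comp, hσ]; exact sqR.lift_fst _ _ _)
  have hσs : σ ≫ s = q₂ ≫ i := (yon S).map_injective (by
    rw [Functor.map_comp, hσ]; exact sqR.lift_snd _ _ _)
  haveI : Mono i.left := inferInstanceAs (Mono ((Over.forget S).map i))
  refine ⟨T, T₂, c, i, q₁, q₂, σ, sqT, ‹_›, i.left.injective, (IsPullback.of_hasPullback c c).map (Over.forget S),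
    hσt, hσs, fun r hr => ?_⟩
  have hrep : Representable p.toHom := representable_from_yon' hX _
  let g : (yon S).obj R ⟶ X := (yon S).map t ≫ φ
  let R' := hrep.pullback g
  let b : R' ⟶ p.pt := hrep.fst' g
  let a : R' ⟶ R := hrep.snd g
  have sq' : IsPullback ((yon S).map b) ((yon S).map a) p.toHom g := hrep.isPullback' g
  obtain ⟨r', -, hr'⟩ := exists_lift sq' (x := Points.ofScheme p.pt (IsLocalRing.closedPoint p.K)) (t := r)
    (by rw [Points.map_ofPt, Category.id_comp, Points.ofPt_toHom, hp]; exact hr.symm)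
  have e₁ : ((yon S).map (a ≫ t)) ≫ φ = (yon S).map b ≫ p.toHom := by
    rw [Functor.map_comp, Category.assoc]; exact sq'.w.symm
  have e₂ : ((yon S).map (a ≫ s)) ≫ φ = (yon S).map b ≫ p.toHom := by
    rw [Functor.map_comp, Category.assoc, ← sqR.w]; exact sq'.w.symm
  obtain ⟨l₁, hl₁⟩ := (yon S).map_surjective (sqT.lift _ _ e₁)
  obtain ⟨l₂, hl₂⟩ := (yon S).map_surjective (sqT.lift _ _ e₂)
  have h11 : l₁ ≫ i = a ≫ t := (yon S).map_injective (by rw [Functor.map_comp, hl₁]; exact sqT.lift_fst _ _ _)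
  have h12 : l₁ ≫ c = b := (yon S).map_injective (by rw [Functor.map_comp, hl₁]; exact sqT.lift_snd _ _ _)
  have h21 : l₂ ≫ i = a ≫ s := (yon S).map_injective (by rw [Functor.map_comp, hl₂]; exact sqT.lift_fst _ _ _)
  have h22 : l₂ ≫ c = b := (yon S).map_injective (by rw [Functor.map_comp, hl₂]; exact sqT.lift_snd _ _ _)
  let k : R' ⟶ T₂ := pullback.lift l₁ l₂ (h12.trans h22.symm)
  have hk : k ≫ σ = a := by
    have k1 : k ≫ q₁ = l₁ := pullback.lift_fst _ _ _
    have k2 : k ≫ q₂ = l₂ := pullback.lift_snd _ _ _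
    apply (yon S).map_injective
    refine sqR.hom_ext ?_ ?_ <;> rw [← Functor.map_comp, ← Functor.map_comp] <;> congr 1
    · rw [Category.assoc, hσt, ← Category.assoc, k1, h11]
    · rw [Category.assoc, hσs, ← Category.assoc, k2, h21]
  exact ⟨k.left r', by rw [← hr', ← hk]; rfl⟩

theorem finite_pairs {T T₂ : Scheme.{u}} {K : Type u} [Field K] {c : T ⟶ Spec (CommRingCat.of K)} [Etale c]
    {q₁ q₂ : T₂ ⟶ T} (sq : IsPullback q₁ q₂ c c) (w w' : ↥T) :
    {q : ↥T₂ | q₁ q = w ∧ q₂ q = w'}.Finite := by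
  haveI : LocallyQuasiFinite c := locallyQuasiFinite_of_formallyUnramified _
  haveI := discreteTopology_of_lqf_field (K := K) c
  haveI : Etale q₁ := MorphismProperty.of_isPullback (P := @Etale) sq.flip ‹Etale c›
  haveI : LocallyQuasiFinite q₁ := locallyQuasiFinite_of_formallyUnramified _
  let W : T.Opens := ⟨{w'}, isOpen_discrete _⟩
  haveI : CompactSpace ↥W := isCompact_iff_compactSpace.1 (isCompact_singleton (x := w'))
  haveI : QuasiCompact (W.ι ≫ c) := HasAffineProperty.iff_of_isAffine.2 ‹_›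
  -- points over `w'` are those of the open base change
  let j := pullback.fst q₂ W.ι
  have sq2 : IsPullback (j ≫ q₁) (pullback.snd q₂ W.ι) c (W.ι ≫ c) :=
    (IsPullback.of_hasPullback q₂ W.ι).paste_horiz sq
  haveI : QuasiCompact (j ≫ q₁) := MorphismProperty.of_isPullback (P := @QuasiCompact) sq2.flip ‹_›
  haveI : LocallyQuasiFinite (j ≫ q₁) := inferInstance
  refine (((j ≫ q₁).finite_preimage_singleton w).image j).subset ?_
  rintro q ⟨hq₁, hq₂⟩
  obtain ⟨z, hz, -⟩ := Scheme.exists_preimage_of_isPullback (IsPullback.of_hasPullback q₂ W.ι) q ⟨w', rfl⟩ hq₂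
  refine ⟨z, ?_, hz⟩
  show q₁ (j z) = w
  rw [hz, hq₁]

end Groth.Agent.Dsp6
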