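import Groth.Agent.AlgSpOne.NormUnique
import Groth.Agent.AlgSpLib.EtLocalInst

/-!
# Relative normalization commutes with smooth base change
-/

set_option autoImplicit false
set_option maxHeartbeats 400000
set_option backward.isDefEq.respectTransparency false
set_option backward.isDefEq.respectTransparency.types false

universe u

open CategoryTheory CategoryTheory.Limits AlgebraicGeometry AlgSp Groth.Agent.AlgSpLib Groth.Agent.AlgSpOne

namespace Groth.Agent.Dsp6

variable {S : Scheme.{u}} {X Y : Sp S} {f : Y ⟶ X}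

/-- The universal property of the normalization holds on affine schemes smooth over a chart. -/
theorem isNormGood_smooth_chart (H : NormHyp f) (c : NChart X) {T : Over S} (k : T ⟶ c.T) (hT : IsAffine T.left)
    (hk : Smooth k.left) : IsNormGood f (normMap H) (toNorm H) ((yon S).map k ≫ c.q) :=
  IsNormGood.of_baseChange (IsPullback.of_hasPullback f c.q) (isPullback_chartMap H c) (H.f'_n c)
    (f'_chartMap H c) k (H.good c k hT hk)

theorem isRelNormalization_normMap_smooth (H : NormHyp f) {W PW QW : Sp S} (hW : IsAlgSpace W) {w : W ⟶ X}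
    (hw : LocP @Smooth w) {a : PW ⟶ Y} {fW : PW ⟶ W} {b : QW ⟶ normSp H} {νW : QW ⟶ W} {fW' : PW ⟶ QW}
    (sqP : IsPullback a fW f w) (sqQ : IsPullback b νW (normMap H) w) (w₁ : fW' ≫ νW = fW)
    (w₂ : fW' ≫ b = a ≫ toNorm H) : IsRelNormalization fW νW fW' := by
  obtain ⟨U, p, hpe, hps⟩ := H.target.atlas
  obtain ⟨V, q, hqe, hqs⟩ := hW.atlas
  let R := hpe.rep.pullback (q ≫ w)
  let r₁ : R ⟶ U := hpe.rep.fst' (q ≫ w)
  let r₂ : R ⟶ V := hpe.rep.snd (q ≫ w)
  have sqR : IsPullback ((yon S).map r₁) ((yon S).map r₂) p (q ≫ w) := hpe.rep.isPullback' (q ≫ w)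
  haveI : Etale r₂.left := hpe.property _ _ _ sqR
  haveI : Surjective r₂.left := hps.property _ _ _ sqR
  haveI : Smooth r₁.left := locP_yon_map (locP_of_isPullback sqR.flip (IsAlgSpace.yon_obj V) H.target
    (IsAlgSpace.yon_obj U) (locP_comp (IsAlgSpace.yon_obj V) hW H.target
      (locP_of_repWith (repWith_mono (fun _ _ g (_ : Etale g) => (inferInstance : Smooth g)) _ hqe)) hw))
  let ι := {KL : R.left.affineOpens × U.left.affineOpens // KL.1.1 ≤ r₁.left ⁻¹ᵁ KL.2.1}
  let T : ι → Over S := fun i => Over.mk (i.1.1.1.ι ≫ R.hom)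
  let inc : ∀ i, T i ⟶ R := fun i => Over.homMk i.1.1.1.ι rfl
  have hqT : ∀ i, RepWith @Etale ((yon S).map (inc i) ≫ (yon S).map r₂ ≫ q) := fun i =>
    repWith_comp ((repWith_yon_map_iff _ _).2 (inferInstanceAs (Etale i.1.1.1.ι)))
      (repWith_comp ((repWith_yon_map_iff _ r₂).2 ‹Etale r₂.left›) hqe)
  refine isRelNormalization_of_family hW (isIntegralMor_normMap H) sqP sqQ w₁ w₂ T
    (fun i => (yon S).map (inc i) ≫ (yon S).map r₂ ≫ q) (fun i => i.1.1.2) hqT (fun x => ?_) fun i T' k hT' hk => ?_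
  · obtain ⟨v, rfl⟩ := surjective_ofPt hqs x
    obtain ⟨t, rfl⟩ := r₂.left.surjective v
    obtain ⟨L, hL, htL, -⟩ := exists_isAffineOpen_mem_and_subset (U := (⊤ : U.left.Opens)) (x := r₁.left t) trivial
    obtain ⟨K, hK, htK, hKL⟩ := exists_isAffineOpen_mem_and_subset (U := r₁.left ⁻¹ᵁ L) (x := t) htL
    exact ⟨⟨(⟨K, hK⟩, ⟨L, hL⟩), hKL⟩, ⟨t, htK⟩, by rw [ofPt_comp, ofPt_comp]; rfl⟩
  · let L : U.left.Opens := i.1.2.1
    let TL : Over S := Over.mk (L.ι ≫ U.hom)
    let incL : TL ⟶ U := Over.homMk L.ι rfl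
    let c : NChart X := ⟨TL, i.1.2.2, (yon S).map incL ≫ p,
      repWith_comp ((repWith_yon_map_iff _ incL).2 (inferInstanceAs (Etale L.ι))) hpe⟩
    have hsub : Set.range (k.left ≫ i.1.1.1.ι ≫ r₁.left) ⊆ Set.range L.ι := by
      rintro _ ⟨z, rfl⟩
      rw [Scheme.Opens.range_ι]
      exact i.2 (k.left z).2
    let k' : T' ⟶ TL := Over.homMk (IsOpenImmersion.lift L.ι _ hsub) (by
      show _ ≫ L.ι ≫ U.hom = _
      rw [IsOpenImmersion.lift_fac_assoc, ← Over.w k]
      show k.left ≫ i.1.1.1.ι ≫ r₁.left ≫ U.hom = k.left ≫ i.1.1.1.ι ≫ R.hom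
      rw [Over.w r₁])
    have hk' : k' ≫ incL = k ≫ inc i ≫ r₁ := Over.OverMorphism.ext (IsOpenImmersion.lift_fac _ _ _)
    have hsm : Smooth k'.left := by
      haveI : Smooth (k'.left ≫ L.ι) := by
        show Smooth (IsOpenImmersion.lift L.ι _ hsub ≫ L.ι)
        rw [IsOpenImmersion.lift_fac]
        haveI : Etale i.1.1.1.ι := inferInstance
        infer_instance
      exact MorphismProperty.of_isPullback (P := @Smooth)
        (show IsPullback (𝟙 _) k'.left (k'.left ≫ L.ι) L.ι from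
          (IsPullback.of_horiz_isIso_mono (snd := k'.left) (g := L.ι) (f := k'.left ≫ L.ι) (fst := 𝟙 _) ⟨by simp⟩))
        inferInstance
    refine (isNormGood_smooth_chart H c k' hT' hsm).congr ?_
    show (yon S).map k' ≫ (yon S).map incL ≫ p = _
    rw [← Functor.map_comp_assoc, hk', Functor.map_comp, Functor.map_comp, Category.assoc, Category.assoc, sqR.w]
    simp only [Category.assoc]

/-- Relative normalizations commute with smooth base change. -/
theorem isRelNormalization_smooth_baseChange (H : NormHyp f) {X' W PW QW : Sp S} (hX' : IsAlgSpace X')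
    {ν : X' ⟶ X} {f' : Y ⟶ X'} (hn : IsRelNormalization f ν f') (hW : IsAlgSpace W) {w : W ⟶ X}
    (hw : LocP @Smooth w) {a : PW ⟶ Y} {fW : PW ⟶ W} {b : QW ⟶ X'} {νW : QW ⟶ W} {fW' : PW ⟶ QW}
    (sqP : IsPullback a fW f w) (sqQ : IsPullback b νW ν w) (w₁ : fW' ≫ νW = fW)
    (w₂ : fW' ≫ b = a ≫ f') : IsRelNormalization fW νW fW' := by
  obtain ⟨e, e₁, e₂⟩ := exists_iso_of_isRelNormalization hX' (isAlgSpace_normSp H) hn (isRelNormalization_normMap H)
  refine isRelNormalization_normMap_smooth H hW hw sqP (b := b ≫ e.hom) ?_ w₁ ?_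
  · exact sqQ.of_iso (Iso.refl _) e (Iso.refl _) (Iso.refl _) (by simp) (by simp) (by simpa using e₂.symm) (by simp)
  · rw [reassoc_of% w₂, e₁]

end Groth.Agent.Dsp6
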