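import Groth.Agent.Dsp6.GlobalFun
import Groth.Agent.AlgSpDec.Fibres
import Groth.Agent.AlgSpDec.CodimZero
import Groth.Agent.EtStalk.Normal
import Groth.Agent.AlgSpDec.OneFlat
import Groth.Agent.FibDim.Comp

/-!
# Normal integral algebraic spaces
-/

set_option autoImplicit false
set_option backward.isDefEq.respectTransparency false
set_option backward.isDefEq.respectTransparency.types false

universe u

open CategoryTheory CategoryTheory.Limits AlgebraicGeometry AlgSp Groth.Agent.AlgSpLib Opposite Topology Order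
open Groth.Agent.AlgSpDec

namespace Groth.Agent.Dsp6

/-- All stalks are normal domains. -/
abbrev NStalk (U : Scheme.{u}) : Prop :=
  ∀ u : ↥U, IsDomain ↥(U.presheaf.stalk u) ∧ IsIntegrallyClosed ↥(U.presheaf.stalk u)

/-- In a scheme with domains as stalks every point has a unique codimension zero generization. -/
theorem coheightZero_unique {U : Scheme.{u}} {u η η' : ↥U} [IsDomain ↥(U.presheaf.stalk u)]
    (hη : coheight η = 0) (hη' : coheight η' = 0) (h : η ⤳ u) (h' : η' ⤳ u) : η = η' := by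
  let z : ↥(Spec (U.presheaf.stalk u)) := ⟨⊥, Ideal.isPrime_bot⟩
  have key : ∀ ξ : ↥U, coheight ξ = 0 → ξ ⤳ u → U.fromSpecStalk u z = ξ := by
    intro ξ hξ hs
    obtain ⟨P, rfl⟩ : ξ ∈ Set.range (U.fromSpecStalk u) := Scheme.range_fromSpecStalk.symm ▸ hs
    exact eq_of_specializes_of_coheight hξ
      (((PrimeSpectrum.le_iff_specializes z P).1 bot_le).map (U.fromSpecStalk u).continuous)
  exact (key η hη h).symm.trans (key η' hη' h')

theorem isIntegrallyClosed_gamma_of_nStalk {U : Scheme.{u}} [IsIntegral U] {V : U.Opens} [Nonempty V]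
    (hV : IsAffineOpen V) (h : NStalk U) : IsIntegrallyClosed Γ(U, V) :=
  IsIntegrallyClosed.of_localization_maximal fun P _ hP => by
    have hy : hV.fromSpec ⟨P, hP.isPrime⟩ ∈ V := hV.range_fromSpec.le ⟨_, rfl⟩
    letI : Algebra Γ(U, V) (U.presheaf.stalk (hV.fromSpec ⟨P, hP.isPrime⟩)) :=
      U.presheaf.algebra_section_stalk ⟨hV.fromSpec ⟨P, hP.isPrime⟩, hy⟩
    haveI : IsLocalization.AtPrime (U.presheaf.stalk (hV.fromSpec ⟨P, hP.isPrime⟩)) P :=
      hV.isLocalization_stalk' ⟨P, hP.isPrime⟩ hy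
    haveI := (h (hV.fromSpec ⟨P, hP.isPrime⟩)).2
    exact IsIntegrallyClosed.of_equiv (IsLocalization.algEquiv P.primeCompl
      (U.presheaf.stalk (hV.fromSpec ⟨P, hP.isPrime⟩)) (Localization.AtPrime P)).toRingEquiv

theorem nStalk_of_isOpenImmersion {U V : Scheme.{u}} (j : U ⟶ V) [IsOpenImmersion j] (h : NStalk V) :
    NStalk U := fun u => (EtStalk.normal_stalk_iff j u).2 (h (j u))

variable {S : Scheme.{u}} {X : Sp S}

theorem nStalk_chart (hN : EtaleLocally NStalk X) {U : Over S} {a : (yon S).obj U ⟶ X}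
    (ha : RepWith @Etale a) : NStalk U.left := by
  intro u
  obtain ⟨W, c, hc, hcs, hW⟩ := hN
  obtain ⟨w, hw⟩ := surjective_ofPt hcs (Points.ofPt a u)
  obtain ⟨r, hr, hr'⟩ := exists_ofPt_of_eq (hc.rep.isPullback' a) hw
  haveI : Etale (hc.rep.snd a).left := hc.property_snd a
  haveI : Etale (hc.rep.fst' a).left := ha.property _ _ _ (hc.rep.isPullback' a).flip
  have h1 := hW ((hc.rep.fst' a).left r)
  rw [← EtStalk.normal_stalk_iff (hc.rep.fst' a).left r, EtStalk.normal_stalk_iff (hc.rep.snd a).left r] at h1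
  rw [← hr']
  exact h1

theorem finite_coheight_zero_chart (hA : IsAlgSpace X) (hdec : IsDecent X) [IrreducibleSpace (Points X)]
    {U : Over S} [CompactSpace ↥U.left] {a : (yon S).obj U ⟶ X} (ha : RepWith @Etale a) :
    {u : ↥U.left | coheight u = 0}.Finite := by
  haveI := quasiSober_points hA hdec
  haveI := t0Space_points hA hdec
  obtain ⟨η, hη⟩ := QuasiSober.sober (IrreducibleSpace.isIrreducible_univ (Points X)) isClosed_univ
  refine (finite_fibre hA hdec ha η).subset fun u hu => ?_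
  obtain ⟨u', hu', he⟩ := exists_specializes_lift_of_isDecent hdec ha
    (show η ⤳ Points.ofPt a u from hη.specializes trivial)
  rw [eq_of_specializes_of_coheight hu hu'] at he
  exact he

theorem exists_integral_nhd (hA : IsAlgSpace X) (hdec : IsDecent X) [IrreducibleSpace (Points X)]
    (hN : EtaleLocally NStalk X) {U : Over S} {a : (yon S).obj U ⟶ X} (ha : RepWith @Etale a) (u : ↥U.left) :
    ∃ (V : Over S) (j : V ⟶ U) (v : ↥V.left), IsOpenImmersion j.left ∧ j.left v = u ∧ IsAffine V.left ∧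
      IsIntegral V.left ∧ IsIntegrallyClosed ↥Γ(V.left, ⊤) := by
  obtain ⟨W, i, w, hW, hi, hiw, hb⟩ := exists_affine_restrict ha u
  haveI := hW
  haveI := hi
  have hn : NStalk W.left := nStalk_chart hN hb
  have hfin := finite_coheight_zero_chart hA hdec hb
  have hgen : ∀ z : ↥W.left, ∃ η, η ⤳ z ∧ coheight η = 0 := fun z => by
    obtain ⟨η, hη, hmax⟩ := FibDim.exists_maximal_generization z
    exact ⟨η, hη, coheight_eq_zero.2 fun y hy => by rw [hmax y hy]⟩
  obtain ⟨ζ, hζ, hζ0⟩ := hgen w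
  have hopen : IsOpen (closure ({ζ} : Set ↥W.left)) := by
    have e : closure ({ζ} : Set ↥W.left) = (⋃ η ∈ {η | coheight η = 0} \ {ζ}, closure {η})ᶜ := by
      ext z
      simp only [Set.mem_compl_iff, Set.mem_iUnion, not_exists]
      refine ⟨fun hz η hη hzη => ?_, fun hz => ?_⟩
      · haveI := (hn z).1
        exact hη.2 (coheightZero_unique hη.1 hζ0 (specializes_iff_mem_closure.2 hzη)
          (specializes_iff_mem_closure.2 hz))
      · obtain ⟨η, hη, hη0⟩ := hgen z
        by_contra hzζ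
        exact hz η ⟨hη0, fun h => hzζ (Set.mem_singleton_iff.1 h ▸ hη.mem_closure)⟩ hη.mem_closure
    rw [e]
    exact (hfin.sdiff.isClosed_biUnion fun _ _ => isClosed_closure).isOpen_compl
  let O : W.left.Opens := ⟨closure {ζ}, hopen⟩
  have hwO : w ∈ O := hζ.mem_closure
  haveI : IsClosedImmersion O.ι := IsClosedImmersion.of_isPreimmersion _ (by
    rw [Scheme.Opens.range_ι]; exact isClosed_closure)
  haveI : IsAffine O.toScheme := isAffine_of_isAffineHom O.ι
  have hnO : NStalk O.toScheme := nStalk_of_isOpenImmersion O.ι hn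
  haveI : ∀ x : ↥O.toScheme, _root_.IsReduced (O.toScheme.presheaf.stalk x) := fun x => by
    haveI := (hnO x).1
    infer_instance
  haveI : IsReduced O.toScheme := isReduced_of_isReduced_stalk _
  haveI : IrreducibleSpace ↥O.toScheme := by
    haveI : Nonempty ↥O.toScheme := ⟨⟨w, hwO⟩⟩
    haveI : PreirreducibleSpace ↥O.toScheme := Subtype.preirreducibleSpace isIrreducible_singleton.closure.2
    constructor
    infer_instance
  haveI : IsIntegral O.toScheme := isIntegral_of_irreducibleSpace_of_isReduced _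
  refine ⟨Over.mk (O.ι ≫ W.hom), Over.homMk O.ι rfl ≫ i, ⟨w, hwO⟩, inferInstanceAs (IsOpenImmersion (O.ι ≫ i.left)),
    hiw, inferInstanceAs (IsAffine O.toScheme), inferInstanceAs (IsIntegral O.toScheme), ?_⟩
  haveI : Nonempty (⊤ : O.toScheme.Opens) := ⟨⟨⟨w, hwO⟩, trivial⟩⟩
  exact isIntegrallyClosed_gamma_of_nStalk (U := O.toScheme) (isAffineOpen_top O.toScheme) hnO

section Sections

variable {X : Space S} [IrreducibleSpace (Points X.obj)]

/-- A nonzero global function has nonzero germs on every chart. -/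
theorem germ_gval_ne_zero {b : ↥(gsectEt (OEt X.obj))} (hb : (nzLocus b).Nonempty) (E : EtOver X.obj)
    (u : ↥E.obj.left.left) :
    E.obj.left.left.presheaf.germ ⊤ u trivial (gval E b) ≠ 0 := by
  intro h
  obtain ⟨O, hu, hO⟩ : ∃ (O : E.obj.left.left.Opens), u ∈ O ∧
      E.obj.left.left.presheaf.map (homOfLE (le_top : O ≤ ⊤)).op (gval E b) = 0 := by
    obtain ⟨O, hu, i, i', he⟩ := E.obj.left.left.presheaf.germ_eq (U := ⊤) (V := ⊤) u trivial trivial (gval E b) 0
      (by rw [map_zero]; exact h)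
    exact ⟨O, hu, by rw [map_zero] at he; exact he⟩
  obtain ⟨y, hy, o, ho, rfl⟩ := nonempty_preirreducible_inter (isOpen_nzLocus b)
    (isOpenMap_ofPt E.property _ O.isOpen) hb ⟨_, u, hu, rfl⟩
  have h1 : o ∈ E.obj.left.left.basicOpen (gval E b) := (preimage_nzLocus b E).subset hy
  have h2 : o ∈ E.obj.left.left.basicOpen
      (E.obj.left.left.presheaf.map (homOfLE (le_top : O ≤ ⊤)).op (gval E b)) := by
    rw [Scheme.basicOpen_res]; exact ⟨ho, h1⟩
  rw [hO, Scheme.basicOpen_zero] at h2
  exact h2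

variable {b : ↥(gsectEt (OEt X.obj))}

theorem eq_of_mul_gval (hN : EtaleLocally NStalk X.obj) (hb : (nzLocus b).Nonempty) (E : EtOver X.obj)
    {W : E.obj.left.left.Opens} {s t : Γ(E.obj.left.left, W)}
    (h : s * E.obj.left.left.presheaf.map (homOfLE (le_top : W ≤ ⊤)).op (gval E b) =
      t * E.obj.left.left.presheaf.map (homOfLE (le_top : W ≤ ⊤)).op (gval E b)) : s = t := by
  refine TopCat.Presheaf.section_ext E.obj.left.left.sheaf W s t fun u hu => ?_
  haveI := (nStalk_chart hN E.property u).1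
  have := congrArg (E.obj.left.left.presheaf.germ W u hu) h
  rw [map_mul, map_mul] at this
  change E.obj.left.left.presheaf.germ W u hu s = E.obj.left.left.presheaf.germ W u hu t
  refine mul_right_cancel₀ ?_ this
  rw [TopCat.Presheaf.germ_res_apply]
  exact germ_gval_ne_zero hb E u

theorem exists_quot_local (hdec : IsDecent X.obj) (hN : EtaleLocally NStalk X.obj) (hb : (nzLocus b).Nonempty)
    (a : ↥(gsectEt (OEt X.obj))) {n : ℕ} (c : Fin n → ↥(gsectEt (OEt X.obj)))
    (hrel : a ^ n + ∑ i : Fin n, c i * a ^ (i : ℕ) * b ^ (n - (i : ℕ)) = 0)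
    (E : EtOver X.obj) (u : ↥E.obj.left.left) :
    ∃ (W : E.obj.left.left.Opens) (s : Γ(E.obj.left.left, W)), u ∈ W ∧
      s * E.obj.left.left.presheaf.map (homOfLE (le_top : W ≤ ⊤)).op (gval E b) =
        E.obj.left.left.presheaf.map (homOfLE (le_top : W ≤ ⊤)).op (gval E a) := by
  obtain ⟨V, j, v, hj, hjv, hVa, hVi, hVc⟩ := exists_integral_nhd X.property hdec hN E.property u
  haveI := hVi
  haveI := hVc
  haveI := hj
  let E' : EtOver X.obj := EtOver.mk ((yon S).map j ≫ E.obj.hom)
    (repWith_comp ((repWith_yon_map_iff _ j).2 (inferInstanceAs (Etale j.left))) E.property)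
  have hne : gval E' b ≠ 0 := fun h => germ_gval_ne_zero hb E' v (by rw [h, map_zero])
  let K := FractionRing Γ(V.left, ⊤)
  let g : ↥(gsectEt (OEt X.obj)) →+* Γ(V.left, ⊤) := gval E'
  let α : Γ(V.left, ⊤) := g a
  let β : Γ(V.left, ⊤) := g b
  have hβ : algebraMap _ K β ≠ 0 := by
    rw [Ne, IsFractionRing.to_map_eq_zero_iff]; exact hne
  have hint : _root_.IsIntegral Γ(V.left, ⊤) (algebraMap _ K α / algebraMap _ K β) := by
    refine ⟨Polynomial.X ^ n + ∑ i : Fin n, Polynomial.C (g (c i)) * Polynomial.X ^ (i : ℕ),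
      Polynomial.monic_X_pow_add ?_, ?_⟩
    · exact Polynomial.degree_sum_fin_lt _
    · rw [← Polynomial.aeval_def, map_add, map_pow, Polynomial.aeval_X, map_sum]
      simp only [map_mul, Polynomial.aeval_C, map_pow, Polynomial.aeval_X]
      refine (mul_eq_zero.1 ?_).resolve_right (pow_ne_zero n hβ)
      have h2 := congrArg (fun z => algebraMap Γ(V.left, ⊤) K (g z)) hrel
      simp only [map_add, map_sum, map_mul, map_pow, map_zero] at h2
      rw [add_mul, Finset.sum_mul, div_pow, div_mul_cancel₀ _ (pow_ne_zero n hβ)]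
      refine Eq.trans ?_ h2
      congr 1
      refine Finset.sum_congr rfl fun i _ => ?_
      have hi : (i : ℕ) + (n - (i : ℕ)) = n := Nat.add_sub_cancel' i.2.le
      have hpow : (algebraMap Γ(V.left, ⊤) K β) ^ n =
          (algebraMap Γ(V.left, ⊤) K β) ^ (i : ℕ) * (algebraMap Γ(V.left, ⊤) K β) ^ (n - (i : ℕ)) := by
        rw [← pow_add, hi]
      rw [hpow, div_pow]
      rw [← mul_assoc, mul_assoc (algebraMap Γ(V.left, ⊤) K (g (c i))), div_mul_cancel₀ _ (pow_ne_zero _ hβ)]
  obtain ⟨s₀, hs₀⟩ := IsIntegrallyClosed.isIntegral_iff.1 hint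
  rw [eq_div_iff hβ, ← map_mul] at hs₀
  have hs₁ : s₀ * β = α := IsFractionRing.injective _ K hs₀
  let W : E.obj.left.left.Opens := j.left.opensRange
  have hle : ⊤ ≤ j.left ⁻¹ᵁ W := fun z _ => ⟨z, rfl⟩
  let φ : Γ(E.obj.left.left, W) ⟶ Γ(V.left, ⊤) := j.left.appLE W ⊤ hle
  haveI : IsIso φ := by
    have e : j.left ⁻¹ᵁ W = ⊤ := j.left.preimage_opensRange
    change IsIso (j.left.app W ≫ V.left.presheaf.map (homOfLE hle).op)
    haveI : IsIso (j.left.app W) := j.left.isIso_app W le_rfl
    haveI : IsIso (homOfLE hle) := ⟨homOfLE e.le, rfl, rfl⟩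
    infer_instance
  obtain ⟨s, hs⟩ := (ConcreteCategory.bijective_of_isIso φ).2 s₀
  have hφ : ∀ z : ↥(gsectEt (OEt X.obj)),
      φ (E.obj.left.left.presheaf.map (homOfLE (le_top : W ≤ ⊤)).op (gval E z)) = gval E' z := fun z => by
    rw [← gval_map (EtOver.homMk j rfl : E' ⟶ E), ← CommRingCat.comp_apply, Scheme.Hom.map_appLE]
    simp [Scheme.Hom.appLE]
    rfl
  refine ⟨W, s, ⟨v, hjv⟩, (ConcreteCategory.bijective_of_isIso φ).1 ?_⟩
  rw [map_mul, hs, hφ, hφ]
  exact hs₁

theorem exists_quot (hdec : IsDecent X.obj) (hN : EtaleLocally NStalk X.obj) (hb : (nzLocus b).Nonempty)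
    (a : ↥(gsectEt (OEt X.obj))) {n : ℕ} (c : Fin n → ↥(gsectEt (OEt X.obj)))
    (hrel : a ^ n + ∑ i : Fin n, c i * a ^ (i : ℕ) * b ^ (n - (i : ℕ)) = 0)
    (E : EtOver X.obj) : ∃ t : Γ(E.obj.left.left, ⊤), t * gval E b = gval E a := by
  choose W s hu hs using exists_quot_local hdec hN hb a c hrel E
  obtain ⟨t, ht, -⟩ := E.obj.left.left.sheaf.existsUnique_gluing' W ⊤ (fun x => homOfLE le_top)
    (fun x _ => TopologicalSpace.Opens.mem_iSup.2 ⟨x, hu x⟩) s (fun x y => by
      refine eq_of_mul_gval hN hb E ?_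
      have h1 := congrArg (E.obj.left.left.presheaf.map (TopologicalSpace.Opens.infLELeft (W x) (W y)).op) (hs x)
      have h2 := congrArg (E.obj.left.left.presheaf.map (TopologicalSpace.Opens.infLERight (W x) (W y)).op) (hs y)
      simp only [map_mul, ← CommRingCat.comp_apply, ← Functor.map_comp] at h1 h2
      exact h1.trans h2.symm)
  let t₀ : Γ(E.obj.left.left, ⊤) := t
  refine ⟨t₀, TopCat.Presheaf.section_ext E.obj.left.left.sheaf ⊤ _ _ fun x _ => ?_⟩
  have h1 := congrArg (E.obj.left.left.presheaf.germ (W x) x (hu x)) (hs x)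
  rw [map_mul] at h1
  show E.obj.left.left.presheaf.germ ⊤ x trivial (t₀ * gval E b) = E.obj.left.left.presheaf.germ ⊤ x trivial (gval E a)
  rw [map_mul]
  have h2 : E.obj.left.left.presheaf.germ ⊤ x trivial t₀ = E.obj.left.left.presheaf.germ (W x) x (hu x) (s x) := by
    rw [← ht x]; exact (E.obj.left.left.presheaf.germ_res_apply _ _ _ _).symm
  rw [h2]
  simpa only [TopCat.Presheaf.germ_res_apply] using h1

end Sections

theorem isIntegrallyClosed_gsect (X : Space S) (hX : IsIntegralSp X.obj) (hN : EtaleLocally NStalk X.obj) :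
    IsIntegrallyClosed ↥(gsectEt (OEt X.obj)) := by
  classical
  haveI := isDomain_gsect X hX
  obtain ⟨hred, hdec, hi⟩ := hX
  haveI : IrreducibleSpace (Points X.obj) := hi
  rw [isIntegrallyClosed_iff (FractionRing ↥(gsectEt (OEt X.obj)))]
  intro z hz
  obtain ⟨a, ⟨b, hb⟩, rfl⟩ := IsLocalization.exists_mk'_eq (nonZeroDivisors ↥(gsectEt (OEt X.obj))) z
  obtain ⟨p, hp, hpz⟩ := hz
  let n := p.natDegree
  have hb0 : b ≠ 0 := nonZeroDivisors.ne_zero hb
  have hbne : (nzLocus b).Nonempty := Set.nonempty_iff_ne_empty.2 fun h => hb0 (eq_zero_of_nzLocus_eq_empty hred b h)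
  have hrel : a ^ n + ∑ i : Fin n, p.coeff i * a ^ (i : ℕ) * b ^ (n - (i : ℕ)) = 0 := by
    have h := Polynomial.scaleRoots_eval₂_eq_zero (algebraMap _ (FractionRing ↥(gsectEt (OEt X.obj)))) (s := b) hpz
    have hsp : algebraMap ↥(gsectEt (OEt X.obj)) (FractionRing ↥(gsectEt (OEt X.obj))) b *
        IsLocalization.mk' (FractionRing ↥(gsectEt (OEt X.obj))) a ⟨b, hb⟩ = algebraMap _ _ a :=
      IsLocalization.mk'_spec' _ a (⟨b, hb⟩ : nonZeroDivisors ↥(gsectEt (OEt X.obj)))
    rw [hsp] at h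
    rw [Polynomial.eval₂_at_apply] at h
    have h2 : (p.scaleRoots b).eval a = 0 := (IsFractionRing.to_map_eq_zero_iff).1 h
    rw [Polynomial.eval_eq_sum_range, Polynomial.natDegree_scaleRoots, Finset.sum_range_succ] at h2
    simp only [Polynomial.coeff_scaleRoots] at h2
    rw [show p.coeff n = 1 from hp, Nat.sub_self, pow_zero, one_mul, one_mul] at h2
    rw [← h2, add_comm, ← Fin.sum_univ_eq_sum_range]
    congr 1
    exact Finset.sum_congr rfl fun i _ => by ring
  choose t ht using fun E => exists_quot hdec hN hbne a (fun i : Fin n => p.coeff i) hrel E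
  have hnat : ∀ {E E' : EtOver X.obj} (g : E ⟶ E'), g.hom.left.left.appTop (t E') = t E := by
    intro E E' g
    refine eq_of_mul_gval hN hbne E (W := ⊤) ?_
    have h := congrArg g.hom.left.left.appTop (ht E')
    rw [map_mul, gval_map, gval_map] at h
    simpa using h.trans (ht E).symm
  let cone : Cone (OEt X.obj).obj :=
    { pt := CommRingCat.of (ULift.{u + 1} (Polynomial ℤ))
      π :=
        { app := fun E => CommRingCat.ofHom ((ULift.ringEquiv.symm : Γ(E.unop.obj.left.left, ⊤) ≃+*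
              ULift.{u + 1} Γ(E.unop.obj.left.left, ⊤)).toRingHom.comp
            ((Polynomial.eval₂RingHom (Int.castRingHom _) (t E.unop)).comp ULift.ringEquiv.toRingHom))
          naturality := fun E E' g => by
            refine CommRingCat.hom_ext (RingHom.ext fun q => ULift.ext _ _ ?_)
            have : (g.unop.hom.left.left.appTop.hom.comp
                (Polynomial.eval₂RingHom (Int.castRingHom _) (t E.unop))) =
                Polynomial.eval₂RingHom (Int.castRingHom _) (t E'.unop) :=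
              Polynomial.ringHom_ext (fun _ => by simp) (by simpa using hnat g.unop)
            exact (RingHom.congr_fun this q.down).symm } }
  let τ : ↥(gsectEt (OEt X.obj)) := (limit.lift (OEt X.obj).obj cone).hom (ULift.up Polynomial.X)
  have hτ : ∀ E, gval E τ = t E := by
    intro E
    have h := congrArg (fun f => f.hom (ULift.up Polynomial.X)) (limit.lift_π cone (op E))
    exact (congrArg ULift.down h).trans (Polynomial.eval₂_X _ _)
  refine ⟨τ, (IsLocalization.eq_mk'_iff_mul_eq).2 ?_⟩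
  rw [← map_mul]
  refine congrArg _ (Concrete.limit_ext (OEt X.obj).obj _ _ fun ⟨E⟩ => ULift.ext _ _ ?_)
  show gval E (τ * b) = gval E a
  rw [map_mul, hτ, ht]

end Groth.Agent.Dsp6
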