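import Groth.Prelude.Def_W4stk3sptopologiesPh
import Groth.Agent.AlgSpLib.EtLocalInst
import Groth.Agent.HTop74.Ph

/-!
# Composites of ph coverings of algebraic spaces
-/

set_option autoImplicit false
set_option backward.isDefEq.respectTransparency false
set_option backward.isDefEq.respectTransparency.types false

universe u

open CategoryTheory CategoryTheory.Limits AlgebraicGeometry AlgSp Groth.Agent.AlgSpLib

namespace Groth.Agent.Dsp6

theorem isPhCover_bind {S : Scheme.{u}} (X : Space S) {ι : Type u} (Xi : ι → Space S) (g : ∀ i, Xi i ⟶ X)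
    (κ : ι → Type u) (Xij : ∀ i, κ i → Space S) (gij : ∀ i j, Xij i j ⟶ Xi i)
    (h : IsPhCover (fun i => (Xi i).obj) (fun i => (g i).hom))
    (hij : ∀ i, IsPhCover (fun j => (Xij i j).obj) (fun j => (gij i j).hom)) :
    IsPhCover (fun r : Σ i, κ i => (Xij r.1 r.2).obj) (fun r => (gij r.1 r.2 ≫ g r.1).hom) := by
  refine ⟨fun r => locP_comp (Xij r.1 r.2).property (Xi r.1).property X.property ((hij r.1).1 r.2) (h.1 r.1),
    fun Z hZ z => ?_⟩
  obtain ⟨E, hE, hl⟩ := h.2 Z hZ z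
  choose i l hl using hl
  choose F hF hl' using fun j => (hij (i j)).2 (Over.mk (E.f j ≫ Z.hom)) (hE.isAffine_obj j) (l j)
  obtain ⟨F', hF', hr⟩ := HTop74.exists_standardPh_bind E hE F hF
  refine ⟨F', hF', fun b => ?_⟩
  obtain ⟨⟨j, q⟩, k, hk⟩ := hr b
  obtain ⟨m, l', hl'⟩ := hl' j q
  have hk' : k ≫ (F j).f q ≫ E.f j = F'.f b := by
    simpa using hk
  let k' : Over.mk (F'.f b ≫ Z.hom) ⟶ Over.mk ((F j).f q ≫ E.f j ≫ Z.hom) := Over.homMk k (by
    show k ≫ (F j).f q ≫ E.f j ≫ Z.hom = F'.f b ≫ Z.hom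
    rw [← hk']
    simp only [Category.assoc])
  let fq : Over.mk ((F j).f q ≫ E.f j ≫ Z.hom) ⟶ Over.mk (E.f j ≫ Z.hom) := Over.homMk ((F j).f q) rfl
  refine ⟨⟨i j, m⟩, (yon S).map k' ≫ l', ?_⟩
  calc ((yon S).map k' ≫ l') ≫ (gij (i j) m ≫ g (i j)).hom
      = (yon S).map k' ≫ (l' ≫ (gij (i j) m).hom) ≫ (g (i j)).hom := by simp
    _ = (yon S).map k' ≫ ((yon S).map fq ≫ l j) ≫ (g (i j)).hom := by
      rw [show l' ≫ (gij (i j) m).hom = (yon S).map fq ≫ l j from hl']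
    _ = (yon S).map k' ≫ (yon S).map fq ≫ ((yon S).map
          (Over.homMk (E.f j) rfl : Over.mk (E.f j ≫ Z.hom) ⟶ Z) ≫ z) := by
      rw [Category.assoc, show l j ≫ (g (i j)).hom = _ from hl j]
    _ = (yon S).map (Over.homMk (F'.f b) rfl : Over.mk (F'.f b ≫ Z.hom) ⟶ Z) ≫ z := by
      rw [← Category.assoc, ← Category.assoc, ← Functor.map_comp, ← Functor.map_comp]
      congr 2
      ext
      show (k ≫ (F j).f q) ≫ E.f j = F'.f b
      rw [Category.assoc]
      exact hk'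

end Groth.Agent.Dsp6
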