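import Groth.Prelude.Def_W4stk3sptopologiesPh
import Groth.Agent.AlgSpLib.Covers
import Groth.Agent.S7190

/-!
# fppf coverings of algebraic spaces are ph coverings
-/

set_option autoImplicit false
set_option backward.isDefEq.respectTransparency false
set_option backward.isDefEq.respectTransparency.types false

universe u

open CategoryTheory CategoryTheory.Limits AlgebraicGeometry AlgSp Groth.Agent.AlgSpLib

namespace Groth.Agent.Dsp6

theorem isPhCover_of_isFppfCover {S : Scheme.{u}} {X : Sp S} (hX : IsAlgSpace X) {ι : Type u}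
    {Xi : ι → Sp S} (hXi : ∀ i, IsAlgSpace (Xi i)) (g : ∀ i, Xi i ⟶ X) (h : IsFppfCover Xi g) :
    IsPhCover Xi g := by
  refine ⟨fun i => locP_mono (P := @LocallyOfFinitePresentation) (Q := @LocallyOfFiniteType)
    (fun _ _ f (_ : LocallyOfFinitePresentation f) => inferInstanceAs (LocallyOfFiniteType f)) (h.1 i).2,
    fun Z hZ z => ?_⟩
  obtain ⟨U, l, v, hl, hfl, hfp, hs⟩ := exists_fppf_family hX hXi g h z
  let E : PreZeroHypercover.{u} Z.left := ⟨ι, fun i => (U i).left, fun i => (v i).left⟩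
  have hE := Groth.Agent.S7190.result E hfl hfp fun t => by
    obtain ⟨i, x, hx⟩ := hs t
    exact ⟨i, x, hx⟩
  obtain ⟨F, hF, hr⟩ := hE.2 ⟨⊤, isAffineOpen_top Z.left⟩
  let j₀ : ((⊤ : Z.left.Opens) : Scheme.{u}) ⟶ Z.left := (⊤ : Z.left.Opens).ι
  haveI : IsIso j₀ := inferInstanceAs (IsIso (Z.left.topIso).hom)
  refine ⟨⟨F.I₀, F.X, fun j => F.f j ≫ j₀⟩, ⟨hZ, hF.finite_index, hF.isAffine_obj, ?_⟩, fun j => ?_⟩
  · obtain ⟨V, f, io, hf, hfs, hio, hiof, hcov⟩ := hF.exists_proper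
    exact ⟨V, f ≫ j₀, io, inferInstance, inferInstance, hio,
      fun j => by rw [← Category.assoc, hiof], hcov⟩
  · obtain ⟨i, k, hk⟩ := hr j
    have hk' : k ≫ (v i).left = F.f j ≫ j₀ := hk
    let k' : Over.mk ((F.f j ≫ j₀) ≫ Z.hom) ⟶ U i := Over.homMk k (by
      change k ≫ (U i).hom = (F.f j ≫ j₀) ≫ Z.hom
      rw [← Over.w (v i), ← Category.assoc, hk'])
    refine ⟨i, (yon S).map k' ≫ l i, ?_⟩
    exact (Category.assoc _ _ _).trans ((congrArg _ (hl i)).trans ((Category.assoc _ _ _).symm.trans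
      (congrArg (· ≫ z) (((yon S).map_comp _ _).symm.trans (congrArg (yon S).map (Over.OverMorphism.ext hk'))))))

end Groth.Agent.Dsp6
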