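import Groth.Agent.AlgSpDec.LimDescent
import Groth.Agent.AlgSpDec.LqfScheme
import Groth.Agent.AlgSpLib.FlatMono
import Groth.Agent.S0274
import Groth.Agent.AlgSpOne.UcIntegral
import Groth.Agent.AlgSpDec.MonoRep
import Mathlib.Algebra.TrivSqZeroExt.Basic

/-!
# Quasi-compact monomorphisms with injective maps on sections
-/

set_option autoImplicit false
set_option backward.isDefEq.respectTransparency false
set_option backward.isDefEq.respectTransparency.types false
set_option maxHeartbeats 400000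

universe u

open CategoryTheory CategoryTheory.Limits AlgebraicGeometry AlgSp Groth.Agent.AlgSpLib Groth.Agent.AlgSpPts
open Groth.Agent.AlgSpDec
open TensorProduct

namespace Groth.Agent.Dsp6

/-- Injectivity of `A' → A' ⊗ B` for all algebras `A'` gives universal injectivity. -/
theorem univInjective_of_algebras {A B : Type u} [CommRing A] [CommRing B] [Algebra A B]
    (h : ∀ (A' : Type u) [CommRing A'] [Algebra A A'] (s : A'), s ⊗ₜ[A] (1 : B) = 0 → s = 0) :
    Pi1.UnivInjective A B := by
  intro N _ _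
  letI : Module Aᵐᵒᵖ N := Module.compHom _ ((RingHom.id A).fromOpposite mul_comm)
  haveI : IsCentralScalar A N := ⟨fun r m => rfl⟩
  rw [injective_iff_map_eq_zero]
  intro z hz
  obtain ⟨n, rfl⟩ := (TensorProduct.rid A N).symm.surjective z
  rw [TensorProduct.rid_symm_apply, LinearMap.lTensor_tmul, Algebra.linearMap_apply, map_one] at hz
  have h2 := congrArg ((TrivSqZeroExt.inrHom A N).rTensor B) hz
  rw [LinearMap.rTensor_tmul, map_zero] at h2
  have h3 : TrivSqZeroExt.inr n = (0 : TrivSqZeroExt A N) := h _ _ h2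
  have h4 : n = 0 := by simpa using congrArg TrivSqZeroExt.snd h3
  rw [h4]
  simp

variable {S : Scheme.{u}}

/-- A monomorphism from a quasi-compact space to an affine scheme with universally injective maps on
sections has a flat chart. -/
theorem flat_chart_of_injective {P : Sp S} {A : CommRingCat.{u}} (τ : Spec A ⟶ S)
    (q : P ⟶ (yon S).obj (Over.mk τ)) [Mono q]
    {B : CommRingCat.{u}} (υ : Spec B ⟶ S) (a : (yon S).obj (Over.mk υ) ⟶ P) (ha : RepWith @Etale a)
    (has : RepWith @Surjective a) (φ : A ⟶ B) (hυ : Spec.map φ ≫ τ = υ)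
    (hφ : a ≫ q = (yon S).map (Over.homMk (Spec.map φ) hυ : Over.mk υ ⟶ Over.mk τ))
    (hinj : ∀ (T' : Over S) (t : T' ⟶ Over.mk τ) (s : Γ(T'.left, ⊤)),
      (∀ (W : Over S) (w : (yon S).obj W ⟶ pullback q ((yon S).map t)) (c : W ⟶ T'),
        w ≫ pullback.snd q ((yon S).map t) = (yon S).map c → c.left.appTop s = 0) → s = 0) :
    φ.hom.Flat := by
  letI := φ.hom.toAlgebra
  let ρ : Over.mk υ ⟶ Over.mk τ := Over.homMk (Spec.map φ) hυ
  have hui : Pi1.UnivInjective A B := univInjective_of_algebras fun A' _ _ s hs => by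
    let t₀ : Spec (CommRingCat.of A') ⟶ Spec A := Spec.map (CommRingCat.ofHom (algebraMap A A'))
    let T' : Over S := Over.mk (t₀ ≫ τ)
    let t : T' ⟶ Over.mk τ := Over.homMk t₀ rfl
    let C : CommRingCat.{u} := CommRingCat.of (A' ⊗[A] B)
    let c₁ : Spec C ⟶ Spec (CommRingCat.of A') :=
      Spec.map (CommRingCat.ofHom (Algebra.TensorProduct.includeLeftRingHom (R := A) (A := A') (B := B)))
    let c₂ : Spec C ⟶ Spec B :=
      Spec.map (CommRingCat.ofHom (Algebra.TensorProduct.includeRight (R := A) (A := A') (B := B)).toRingHom)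
    have sqC : IsPullback c₁ c₂ t₀ (Spec.map φ) :=
      isPullback_SpecMap_of_isPushout _ _ _ _ (CommRingCat.isPushout_tensorProduct A A' B)
    let U' : Over S := Over.mk (c₁ ≫ T'.hom)
    let u₁ : U' ⟶ T' := Over.homMk c₁ rfl
    let u₂ : U' ⟶ Over.mk υ := Over.homMk c₂ (by
      show c₂ ≫ υ = c₁ ≫ t₀ ≫ τ
      rw [← hυ, reassoc_of% sqC.w])
    have sqU : IsPullback u₂ u₁ ρ t :=
      IsPullback.of_map (Over.forget S) (Over.OverMorphism.ext sqC.w.symm) sqC.flip
    have sqY : IsPullback ((yon S).map u₂) ((yon S).map u₁) (a ≫ q) ((yon S).map t) := by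
      rw [hφ]; exact sqU.map (yon S)
    let a' : (yon S).obj U' ⟶ pullback q ((yon S).map t) :=
      pullback.lift ((yon S).map u₂ ≫ a) ((yon S).map u₁) (by rw [Category.assoc]; exact sqY.w)
    have sqa : IsPullback ((yon S).map u₂) a' a (pullback.fst q ((yon S).map t)) := by
      refine IsPullback.of_bot ?_ (pullback.lift_fst _ _ _).symm (IsPullback.of_hasPullback q ((yon S).map t))
      rw [pullback.lift_snd]
      exact sqY
    have ha' : RepWith @Etale a' := repWith_of_isPullback sqa ha
    have has' : RepWith @Surjective a' := repWith_of_isPullback sqa has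
    refine (Scheme.ΓSpecIso (CommRingCat.of A')).commRingCatIsoToRingEquiv.symm.injective ?_
    rw [map_zero]
    refine hinj T' t _ fun W w c hwc => ?_
    have hz : c₁.appTop ((Scheme.ΓSpecIso (CommRingCat.of A')).inv s) = 0 := by
      rw [← CommRingCat.comp_apply, ← Scheme.ΓSpecIso_inv_naturality, CommRingCat.comp_apply]
      show (Scheme.ΓSpecIso C).inv (s ⊗ₜ[A] (1 : B)) = 0
      rw [hs, map_zero]
    have hr := ha'.rep.isPullback' w
    haveI : Etale (ha'.rep.snd w).left := ha'.property_snd w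
    haveI : Surjective (ha'.rep.snd w).left := has'.property _ _ _ (ha'.rep.isPullback w)
    have hc : ha'.rep.snd w ≫ c = ha'.rep.fst' w ≫ u₁ := (yon S).map_injective (by
      rw [Functor.map_comp, Functor.map_comp, ← hwc, ← pullback.lift_snd ((yon S).map u₂ ≫ a) ((yon S).map u₁)
        (by rw [Category.assoc]; exact sqY.w), ← Category.assoc, ← hr.w, Category.assoc])
    apply Groth.Agent.AlgSpOne.appTop_injective_of_flat_surjective (ha'.rep.snd w).left
    rw [map_zero, ← CommRingCat.comp_apply, ← Scheme.Hom.comp_appTop, ← Over.comp_left, hc, Over.comp_left,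
      Scheme.Hom.comp_appTop, CommRingCat.comp_apply]
    show (ha'.rep.fst' w).left.appTop (c₁.appTop _) = 0
    exact (congrArg _ hz).trans (map_zero _)
  haveI : Algebra.Etale B (B ⊗[A] B) := by
    have sqR := ha.rep.isPullback' a
    have sqR' : IsPullback ((yon S).map (ha.rep.fst' a)) ((yon S).map (ha.rep.snd a))
        ((yon S).map ρ) ((yon S).map ρ) := by
      rw [← hφ]
      exact ⟨⟨by rw [reassoc_of% sqR.w]⟩, ⟨PullbackCone.IsLimit.mk _
        (fun c => sqR.lift c.fst c.snd ((cancel_mono q).1 (by simpa using c.condition)))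
        (fun c => sqR.lift_fst _ _ _) (fun c => sqR.lift_snd _ _ _)
        fun c n h1 h2 => sqR.hom_ext (h1.trans (sqR.lift_fst _ _ _).symm) (h2.trans (sqR.lift_snd _ _ _).symm)⟩⟩
    have sqS : IsPullback _ _ (Spec.map φ) (Spec.map φ) :=
      isPullback_SpecMap_of_isPushout _ _ _ _ (CommRingCat.isPushout_tensorProduct A B B)
    have sq1 : IsPullback (ha.rep.fst' a).left (ha.rep.snd a).left (Spec.map φ) (Spec.map φ) :=
      isPullback_of_yon sqR'
    haveI : Etale (ha.rep.fst' a).left := ha.property _ _ _ sqR.flip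
    have e : Etale ((sqS.isoIsPullback _ _ sq1).hom ≫ (ha.rep.fst' a).left) := inferInstance
    have e2 := IsPullback.isoIsPullback_hom_fst (h := sqS) (h' := sq1)
    exact RingHom.etale_algebraMap.1 ((HasRingHomProperty.Spec_iff (P := @Etale)).1 (e2 ▸ e))
  exact Groth.Agent.S0274.result A B hui B

theorem isIso_of_qc_mono_of_injective {X Y : Space S} (f : X ⟶ Y) (hqc : IsQuasiCompactMor f.hom) [Mono f.hom]
    (hinj : ∀ (T : Over S) (g : (yon S).obj T ⟶ Y.obj) (P : Sp S) (fst : P ⟶ X.obj)
      (snd : P ⟶ (yon S).obj T), IsPullback fst snd f.hom g →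
      ∀ s : Γ(T.left, ⊤),
        (∀ (W : Over S) (a : (yon S).obj W ⟶ P) (c : W ⟶ T),
          a ≫ snd = (yon S).map c → c.left.appTop s = 0) → s = 0) :
    IsIso f.hom := by
  have hs : IsSurjectiveMor f.hom := by
    intro y
    obtain ⟨k, rfl⟩ := Points.mk_surjective y
    by_contra hne
    have sq := IsPullback.of_hasPullback f.hom k.toHom
    have h0 := hinj k.pt k.toHom _ _ _ sq 1 fun W a c _ => by
      rcases isEmpty_or_nonempty ↥W.left with hW | ⟨⟨w⟩⟩
      · exact Subsingleton.elim _ _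
      · refine absurd ⟨Points.map (pullback.fst f.hom k.toHom) (Points.ofPt a w), ?_⟩ hne
        rw [← Points.map_comp, pullback.condition, Points.map_comp]
        generalize Points.map (pullback.snd f.hom k.toHom) (Points.ofPt a w) = z
        obtain ⟨t, rfl⟩ := (Points.schemeHomeo k.pt).surjective z
        haveI : Subsingleton ↥k.pt.left := inferInstanceAs (Subsingleton (PrimeSpectrum k.K))
        rw [Subsingleton.elim t (IsLocalRing.closedPoint k.K)]
        exact (Points.ofPt_eq_map_ofScheme k.toHom _).symm.trans (Points.ofPt_toHom k _)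
    haveI : Nonempty ↥k.pt.left := inferInstanceAs (Nonempty (PrimeSpectrum k.K))
    haveI : Nontrivial Γ(k.pt.left, ⊤) :=
      (Scheme.ΓSpecIso (CommRingCat.of k.K)).commRingCatIsoToRingEquiv.toEquiv.nontrivial
    exact one_ne_zero h0
  have hflat : LocP @Flat f.hom := by
    intro U V a b h ha hb w
    show Flat h.left
    refine (IsZariskiLocalAtTarget.iff_of_iSup_eq_top (P := @Flat) (f := h.left)
      (fun i : V.left.affineOpens => i.1) (iSup_affineOpens_eq_top V.left)).2 fun i => ?_
    obtain ⟨O, hO⟩ := i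
    let A : CommRingCat.{u} := Γ(V.left, O)
    let τ : Spec A ⟶ S := hO.fromSpec ≫ V.hom
    let ι : Over.mk τ ⟶ V := Over.homMk hO.fromSpec rfl
    have hι : RepWith @Etale ((yon S).map ι) :=
      (repWith_yon_map_iff _ _).2 (inferInstanceAs (Etale hO.fromSpec))
    let g : (yon S).obj (Over.mk τ) ⟶ Y.obj := (yon S).map ι ≫ b
    have sq := IsPullback.of_hasPullback f.hom g
    have hPqc : IsQuasiCompactSp (pullback f.hom g) :=
      hqc (IsAlgSpace.yon_obj _) ((isQuasiCompactSp_yon_iff _).2 (inferInstanceAs (CompactSpace ↥(Spec A)))) g _ _ sq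
    obtain ⟨W, a₁, hW, ha₁, ha₁s⟩ := exists_affine_atlas hPqc
    haveI : IsAffine W.left := hW
    let υ : Spec Γ(W.left, ⊤) ⟶ S := W.left.isoSpec.inv ≫ W.hom
    let e : Over.mk υ ≅ W := Over.isoMk W.left.isoSpec.symm rfl
    let a₂ : (yon S).obj (Over.mk υ) ⟶ pullback f.hom g := (yon S).map e.hom ≫ a₁
    have ha₂ : RepWith @Etale a₂ := repWith_comp (repWith_of_isIso _ _) ha₁
    have ha₂s : RepWith @Surjective a₂ := repWith_comp (repWith_of_isIso _ _) ha₁s
    obtain ⟨ρ, hρ⟩ := (yon S).map_surjective (a₂ ≫ pullback.snd f.hom g)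
    obtain ⟨φ, hφ⟩ := Spec.map_surjective ρ.left
    have hυ : Spec.map φ ≫ τ = υ := by rw [hφ]; exact Over.w ρ
    have hρ' : ρ = Over.homMk (Spec.map φ) hυ := Over.OverMorphism.ext hφ.symm
    have hfl : φ.hom.Flat := flat_chart_of_injective τ (pullback.snd f.hom g) υ a₂ ha₂ ha₂s φ hυ
      (by rw [← hρ, hρ']) fun T' t s hs => by
        refine hinj T' ((yon S).map t ≫ g) _ _ _
          ((IsPullback.of_hasPullback (pullback.snd f.hom g) ((yon S).map t)).paste_horiz sq) s hs
    have hloc : LocP @Flat (pullback.snd f.hom g) := locP_of_chart (h := ρ) ha₂ ha₂s (repWith_id _ _)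
      (by rw [Category.comp_id, hρ]) (by
        show Flat ρ.left
        rw [← hφ]
        exact HasRingHomProperty.Spec_iff.2 hfl)
    -- transfer to the restricted chart
    let U' : Over S := Over.mk ((h.left ⁻¹ᵁ O).ι ≫ U.hom)
    let ιU : U' ⟶ U := Over.homMk (h.left ⁻¹ᵁ O).ι rfl
    let h₀ : (h.left ⁻¹ᵁ O).toScheme ⟶ Spec A := (h.left ∣_ O) ≫ hO.isoSpec.hom
    have hh₀ : h₀ ≫ hO.fromSpec = (h.left ⁻¹ᵁ O).ι ≫ h.left := by
      rw [Category.assoc, ← hO.isoSpec_inv_ι, Iso.hom_inv_id_assoc, morphismRestrict_ι]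
    let h' : U' ⟶ Over.mk τ := Over.homMk h₀ (by
      show h₀ ≫ hO.fromSpec ≫ V.hom = (h.left ⁻¹ᵁ O).ι ≫ U.hom
      rw [reassoc_of% hh₀, Over.w])
    have hh' : h' ≫ ι = ιU ≫ h := Over.OverMorphism.ext hh₀
    let a' : (yon S).obj U' ⟶ pullback f.hom g := pullback.lift ((yon S).map ιU ≫ a) ((yon S).map h') (by
      rw [Category.assoc, w, ← Category.assoc, ← Functor.map_comp, ← hh', Functor.map_comp, Category.assoc])
    have ha'e : RepWith @Etale a' := repWith_etale_of_comp a' (pullback.fst f.hom g)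
      (by rw [pullback.lift_fst]; exact repWith_comp ((repWith_yon_map_iff _ ιU).2
            (inferInstanceAs (Etale (h.left ⁻¹ᵁ O).ι))) ha)
      (repWith_of_isPullback sq.flip (repWith_comp hι hb))
    have hf' : Flat h₀ := hloc a' (𝟙 _) h' ha'e (repWith_id _ _) (by rw [Category.comp_id, pullback.lift_snd])
    show Flat (h.left ∣_ O)
    exact (MorphismProperty.cancel_right_of_respectsIso @Flat _ hO.isoSpec.hom).1 hf'
  exact isIso_of_qc_flat_surjective_mono X.property Y.property f.hom hqc hflat hs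

end Groth.Agent.Dsp6
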