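import Groth.Agent.AlgSpDec.PointLocusInst
import Groth.Agent.AlgSpDec.Fibres
import Groth.Agent.AlgSpDec.CodimZero
import Groth.Agent.AlgSpPts.Dim
import Groth.Agent.DimFormula.Scheme

/-!
# Quasi-finiteness at points of algebraic spaces over points of codimension at most one
-/

set_option autoImplicit false
set_option backward.isDefEq.respectTransparency false
set_option backward.isDefEq.respectTransparency.types false

universe u

open CategoryTheory CategoryTheory.Limits AlgebraicGeometry AlgSp Groth.Agent.AlgSpLib Order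
open Groth.Agent.AlgSpDec

namespace Groth.Agent.Dsp6

/-- quasi-finite at a point, for schemes -/
abbrev QFQ : ∀ (U V : Scheme.{u}), (U ⟶ V) → ↥U → Prop := fun U _ h u =>
  ∃ W : U.Opens, u ∈ W ∧ LocallyQuasiFinite (W.ι ≫ h) ∧ LocallyOfFiniteType (W.ι ≫ h)

theorem qfQ_iff {X Y : Scheme.{u}} (f : X ⟶ Y) [LocallyOfFiniteType f] (x : X) :
    QFQ X Y f x ↔ FlatMor.fibreDimAt f x = 0 := by
  constructor
  · rintro ⟨W, hx, h, h'⟩
    have := fibreDimAt_eq_zero_of_lqf (W.ι ≫ f) ⟨x, hx⟩
    rwa [fibreDimAt_etale_comp] at this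
  · intro h
    let W : X.Opens := ⟨{z | FlatMor.fibreDimAt f z = 0}, PointLocus.ptProp_lqf.isOpen f⟩
    exact ⟨W, h, (lqf_iff_fibreDimAt (W.ι ≫ f)).2 fun z => by
      rw [fibreDimAt_etale_comp]; exact z.2, inferInstance⟩

theorem rd_eq_zero_of_fibreDimAt {X Y : Scheme.{u}} (f : X ⟶ Y) [LocallyOfFiniteType f] (x : X)
    (h : FlatMor.fibreDimAt f x = 0) : FibDim.rd f x = 0 :=
  (FieldFibre.fibreDimAt_eq_zero_iff_rd f x).1 h x specializes_rfl rfl

/-- Over a point of codimension at most one, quasi-finiteness follows from that at the generic points. -/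
theorem fibreDimAt_zero_over_codim_le_one {X Y : Scheme.{u}} (f : X ⟶ Y) [LocallyOfFiniteType f]
    [IsLocallyNoetherian Y] (x : X) (hy : coheight (f x) ≤ 1)
    (hgen : ∀ η : X, η ⤳ x → coheight η = 0 → FibDim.rd f η = 0) : FlatMor.fibreDimAt f x = 0 := by
  haveI := LocallyOfFiniteType.isLocallyNoetherian f
  have hy' : DimFormula.codim (f x) ≤ 1 := by
    rw [← DimFormula.coe_codim] at hy
    exact_mod_cast hy
  refine (FieldFibre.fibreDimAt_eq_zero_iff_rd f x).2 fun z hz hfz => ?_
  obtain ⟨η, hη, hmax, -⟩ := DimFormula.exists_maximal_cd_eq_codim z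
  have h0 : coheight η = 0 := by
    rw [← DimFormula.coe_codim, DimFormula.codim_eq_zero_iff.2 hmax]
    rfl
  have hd : FibDim.rd f η = 0 := hgen η (hη.trans hz) h0
  rcases eq_or_ne η z with rfl | hne
  · exact hd
  · have h1 := (DimFormula.cd_formula f hη).1
    have h2 : DimFormula.cd (f η) (f z) ≤ DimFormula.codim (f z) :=
      DimFormula.cd_le_codim (hη.map f.continuous)
    have h3 : DimFormula.cd η z ≠ 0 := fun e => hne ((DimFormula.cd_eq_zero_iff hη).1 e)
    rw [hfz] at h2 h1
    omega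

/-- An open dense subset of a locally Noetherian scheme contains the points of codimension zero. -/
theorem mem_of_dense_of_coheight {X : Scheme.{u}} [IsLocallyNoetherian X] {D : Set X} (hD : IsOpen D)
    (hd : Dense D) {η : X} (hη : coheight η = 0) : η ∈ D := by
  by_contra hn
  obtain ⟨W, hW, hηW, -⟩ := exists_isAffineOpen_mem_and_subset (x := η) (U := ⊤) trivial
  haveI := IsLocallyNoetherian.component_noetherian (X := X) ⟨W, hW⟩
  haveI : TopologicalSpace.NoetherianSpace ↥W := noetherianSpace_of_isAffineOpen W hW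
  have hc : IsCompact (D ∩ (W : Set X)) := by
    have : IsCompact (Subtype.val ⁻¹' D : Set ↥W) := TopologicalSpace.NoetherianSpace.isCompact _
    have h2 := this.image continuous_subtype_val
    convert h2 using 1
    exact ((Subtype.image_preimage_val (W : Set X) D).trans (Set.inter_comm _ _)).symm
  refine notMem_closure_of_isCompact hc (hD.inter W.isOpen) hη (fun h => hn h.1) ?_
  rw [mem_closure_iff_nhds]
  intro t ht
  obtain ⟨o, hot, ho, hηo⟩ := mem_nhds_iff.1 ht
  obtain ⟨z, hz, hzD⟩ := hd.inter_open_nonempty (o ∩ W) (ho.inter W.isOpen) ⟨η, hηo, hηW⟩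
  exact ⟨z, hot hz.1, hzD, hz.2⟩

variable {S : Scheme.{u}} {F G : Sp S} {f : F ⟶ G}

theorem qfAt_iff (hf : LocP @LocallyOfFiniteType f) (x : Points F) :
    HasAtMor QFQ f x ↔ PointLocus.At (fun {_ _} h u => FlatMor.fibreDimAt h u = 0) f x := by
  constructor <;> rintro ⟨U, V, a, b, h, u, ha, hb, w, hx, hq⟩
  · haveI : LocallyOfFiniteType h.left := hf a b h ha hb w
    exact ⟨U, V, a, b, h, u, ha, hb, w, hx, (qfQ_iff h.left u).1 hq⟩
  · haveI : LocallyOfFiniteType h.left := hf a b h ha hb w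
    exact ⟨U, V, a, b, h, u, ha, hb, w, hx, (qfQ_iff h.left u).2 hq⟩

theorem qfAt_iff_chart (hf : LocP @LocallyOfFiniteType f) {U V : Over S} {a : (yon S).obj U ⟶ F}
    {b : (yon S).obj V ⟶ G} {h : U ⟶ V} (ha : RepWith @Etale a) (hb : RepWith @Etale b)
    (w : a ≫ f = (yon S).map h ≫ b) (u : ↥U.left) :
    HasAtMor QFQ f (Points.ofPt a u) ↔ FlatMor.fibreDimAt h.left u = 0 := by
  rw [qfAt_iff hf, PointLocus.at_iff_chart PointLocus.ptProp_lqf hf ha hb w]

theorem isOpen_qfAt (hf : LocP @LocallyOfFiniteType f) : IsOpen {x : Points F | HasAtMor QFQ f x} := by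
  simp only [qfAt_iff hf]
  exact PointLocus.isOpen_at PointLocus.ptProp_lqf hf

/-- The codimension of a point does not depend on the chart. -/
theorem coheight_congr {U V : Over S} {a : (yon S).obj U ⟶ F} {b : (yon S).obj V ⟶ F} (ha : RepWith @Etale a)
    (hb : RepWith @Etale b) {u : ↥U.left} {v : ↥V.left} (e : Points.ofPt a u = Points.ofPt b v) :
    coheight u = coheight v := by
  obtain ⟨z, hz, hz'⟩ := exists_ofPt_of_eq (ha.rep.isPullback' b) e
  haveI : Etale (ha.rep.snd b).left := ha.property_snd b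
  haveI : Etale (ha.rep.fst' b).left := hb.property _ _ _ (ha.rep.isPullback' b).flip
  rw [← hz, ← hz', ← AlgSpPts.coheight_eq_of_etale, ← AlgSpPts.coheight_eq_of_etale]

theorem coheight_le_of_hasAt {d : ℕ} {x : Points F}
    (hx : HasAt (fun U u => ringKrullDim ↥(U.presheaf.stalk u) ≤ d) F x) {V : Over S}
    {b : (yon S).obj V ⟶ F} (hb : RepWith @Etale b) {v : ↥V.left} (hv : Points.ofPt b v = x) :
    coheight v ≤ d := by
  obtain ⟨U, a, u, ha, rfl, hu⟩ := hx
  rw [coheight_congr hb ha hv]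
  simp only [ringKrullDim_stalk_eq_coheight] at hu
  exact_mod_cast hu

theorem hasAt_codimZero {U : Over S} {a : (yon S).obj U ⟶ F} (ha : RepWith @Etale a) {u : ↥U.left}
    (hu : coheight u = 0) :
    HasAt (fun U u => ringKrullDim ↥(U.presheaf.stalk u) = 0) F (Points.ofPt a u) :=
  ⟨U, a, u, ha, rfl, by simp [ringKrullDim_stalk_eq_coheight, hu]⟩

/-- Points over a point of codimension at most one, when `f` has finite residue extensions at the
codimension zero points. -/
theorem qfAt_over_codim_le_one (hF : IsAlgSpace F) (hG : IsAlgSpace G) (hf : LocP @LocallyOfFiniteType f)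
    (hN : IsLocNoethSp G) {y : Points G}
    (hy : HasAt (fun U u => ringKrullDim ↥(U.presheaf.stalk u) ≤ 1) G y)
    (hgen : ∀ {U V : Over S} (a : (yon S).obj U ⟶ F) (b : (yon S).obj V ⟶ G) (h : U ⟶ V) (η : ↥U.left),
      RepWith @Etale a → RepWith @Etale b → a ≫ f = (yon S).map h ≫ b → coheight η = 0 →
      Points.map f (Points.ofPt a η) ⤳ y → FibDim.rd h.left η = 0)
    (x : Points F) (hx : Points.map f x = y) : HasAtMor QFQ f x := by
  obtain ⟨U, V, a, b, h, ha, ha', hb, -, w⟩ := exists_chart hF hG f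
  obtain ⟨u, rfl⟩ := surjective_ofPt ha' x
  haveI : LocallyOfFiniteType h.left := hf a b h ha hb w
  haveI := isLocallyNoetherian_chart hb hN
  rw [qfAt_iff_chart hf ha hb w]
  refine fibreDimAt_zero_over_codim_le_one h.left u ?_ fun η hη h0 => hgen a b h η ha hb w h0 ?_
  · refine coheight_le_of_hasAt (d := 1) (by simpa using hy) hb ?_
    rw [← hx, Points.map_ofPt, w, ofPt_comp]
  · rw [← hx]
    exact (hη.map (Points.continuous_ofPt a)).map (Points.continuous_map f)

theorem qfAt_over_codim_le_one_of_trdeg (hF : IsAlgSpace F) (hG : IsAlgSpace G)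
    (hf : LocP @LocallyOfFiniteType f) (hN : IsLocNoethSp G) {y : Points G}
    (hy : HasAt (fun U u => ringKrullDim ↥(U.presheaf.stalk u) ≤ 1) G y)
    (h : ∀ x : Points F, HasAt (fun U u => ringKrullDim ↥(U.presheaf.stalk u) = 0) F x → Points.map f x ⤳ y →
      HasAtMor (fun _ _ h u => Dual3.resTrdeg h u = 0) f x)
    (x : Points F) (hx : Points.map f x = y) : HasAtMor QFQ f x :=
  qfAt_over_codim_le_one hF hG hf hN hy (fun {U V} a b g η ha hb w h0 hs => by
    haveI : LocallyOfFiniteType g.left := hf a b g ha hb w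
    have h1 := (ResTrdeg.hasAtMor_iff ha hb w η 0).1 (h _ (hasAt_codimZero ha h0) hs)
    rw [← FibDim.rd_eq_rdeg] at h1
    exact_mod_cast h1) x hx

theorem qfAt_over_codim_le_one_of_qf (hF : IsAlgSpace F) (hG : IsAlgSpace G)
    (hf : LocP @LocallyOfFiniteType f) (hN : IsLocNoethSp G) {y : Points G}
    (hy : HasAt (fun U u => ringKrullDim ↥(U.presheaf.stalk u) ≤ 1) G y)
    (h : ∀ x : Points F, HasAt (fun U u => ringKrullDim ↥(U.presheaf.stalk u) = 0) F x → HasAtMor QFQ f x)
    (x : Points F) (hx : Points.map f x = y) : HasAtMor QFQ f x :=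
  qfAt_over_codim_le_one hF hG hf hN hy (fun {U V} a b g η ha hb w h0 _ => by
    haveI : LocallyOfFiniteType g.left := hf a b g ha hb w
    exact rd_eq_zero_of_fibreDimAt _ _ ((qfAt_iff_chart hf ha hb w η).1 (h _ (hasAt_codimZero ha h0)))) x hx

theorem qfAt_over_codim_le_one_of_dense (hF : IsAlgSpace F) (hG : IsAlgSpace G)
    (hf : LocP @LocallyOfFiniteType f) (hN : IsLocNoethSp G) {y : Points G}
    (hy : HasAt (fun U u => ringKrullDim ↥(U.presheaf.stalk u) ≤ 1) G y)
    (h : Dense {x : Points F | HasAtMor QFQ f x})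
    (x : Points F) (hx : Points.map f x = y) : HasAtMor QFQ f x :=
  qfAt_over_codim_le_one hF hG hf hN hy (fun {U V} a b g η ha hb w h0 _ => by
    haveI : LocallyOfFiniteType g.left := hf a b g ha hb w
    haveI := isLocallyNoetherian_chart hb hN
    haveI := LocallyOfFiniteType.isLocallyNoetherian g.left
    refine rd_eq_zero_of_fibreDimAt _ _ ((qfAt_iff_chart hf ha hb w η).1 ?_)
    exact mem_of_dense_of_coheight (D := Points.ofPt a ⁻¹' {x | HasAtMor QFQ f x})
      ((isOpen_qfAt hf).preimage (Points.continuous_ofPt a)) (h.preimage (isOpenMap_ofPt ha)) h0) x hx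

end Groth.Agent.Dsp6
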