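import Groth.Agent.Dsp6.QuasiFinite
import Groth.Agent.AlgSpOne.Residual

/-!
# Morphisms into a locally noetherian space with image a point factor through the residual space
-/

set_option autoImplicit false
set_option backward.isDefEq.respectTransparency false
set_option backward.isDefEq.respectTransparency.types false

universe u

open CategoryTheory CategoryTheory.Limits AlgebraicGeometry AlgSp Groth.Agent.AlgSpLib Groth.Agent.AlgSpPts
open Groth.Agent.AlgSpDec

namespace Groth.Agent.Dsp6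

theorem exists_basicOpen_le_comap {R B : Type u} [CommRing R] [CommRing B] [IsNoetherianRing R]
    (φ : R →+* B) (q : PrimeSpectrum B)
    (h : ∀ q' : PrimeSpectrum B, q'.asIdeal ≤ q.asIdeal → q.asIdeal.comap φ ≤ q'.asIdeal.comap φ) :
    ∃ c ∉ q.asIdeal, ∀ q' : PrimeSpectrum B, c ∉ q'.asIdeal → q.asIdeal.comap φ ≤ q'.asIdeal.comap φ := by
  classical
  obtain ⟨T, hT⟩ := IsNoetherian.noetherian (q.asIdeal.comap φ)
  have key : ∀ r : T, ∃ c ∉ q.asIdeal, ∀ q' : PrimeSpectrum B, c ∉ q'.asIdeal → φ r ∈ q'.asIdeal := by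
    intro r
    let M : Submonoid B := Submonoid.powers (φ r) ⊔ q.asIdeal.primeCompl
    by_cases h0 : (0 : B) ∈ M
    · obtain ⟨a, ha, c, hc, hac⟩ := Submonoid.mem_sup.1 h0
      obtain ⟨n, rfl⟩ := ha
      refine ⟨c, hc, fun q' hq' => q'.2.mem_of_pow_mem n ?_⟩
      exact (q'.2.mem_or_mem (show (φ r) ^ n * c ∈ q'.asIdeal by rw [hac]; exact zero_mem _)).resolve_right hq'
    · exfalso
      obtain ⟨P, hP, -, hd⟩ := Ideal.exists_le_prime_disjoint (⊥ : Ideal B) M
        (Set.disjoint_left.2 fun z hz hzM => h0 ((show z = 0 from hz) ▸ hzM))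
      have hle : P ≤ q.asIdeal := fun z hz => by
        by_contra hne
        exact Set.disjoint_left.1 hd hz (show z ∈ M from Submonoid.mem_sup_right hne)
      have := h ⟨P, hP⟩ hle (show (r : R) ∈ q.asIdeal.comap φ from hT ▸ Submodule.subset_span r.2)
      exact Set.disjoint_left.1 hd this (show φ r ∈ M from Submonoid.mem_sup_left ⟨1, pow_one _⟩)
  choose c hc hc' using key
  refine ⟨∏ r, c r, ?_, fun q' hq' => ?_⟩
  · intro hmem
    obtain ⟨r, -, hr⟩ := (Ideal.IsPrime.prod_mem_iff (hp := q.2)).1 hmem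
    exact hc r hr
  · rw [← hT]
    refine Submodule.span_le.2 fun r hr => ?_
    exact hc' ⟨r, hr⟩ q' fun hcr =>
      hq' (Ideal.mem_of_dvd _ (Finset.dvd_prod_of_mem _ (Finset.mem_univ _)) hcr)

/-- A morphism with image in a set without specialisations is locally constant. -/
theorem exists_nhd_constant {T U : Scheme.{u}} [IsLocallyNoetherian U] (g : T ⟶ U) {F : Set ↥U}
    (hF : ∀ v ∈ F, ∀ w ∈ F, v ⤳ w → v = w) (hg : ∀ t, g t ∈ F) (t : ↥T) :
    ∃ O : T.Opens, t ∈ O ∧ ∀ o ∈ O, g o = g t := by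
  obtain ⟨V, hV, htV, -⟩ := exists_isAffineOpen_mem_and_subset (U := (⊤ : U.Opens)) (x := g t) trivial
  obtain ⟨A, hA, htA, hAV⟩ := exists_isAffineOpen_mem_and_subset (U := g ⁻¹ᵁ V) (x := t) htV
  haveI : IsNoetherianRing Γ(U, V) := IsLocallyNoetherian.component_noetherian ⟨V, hV⟩
  have hsq := IsAffineOpen.SpecMap_appLE_fromSpec g hV hA hAV
  let φ := g.appLE V A hAV
  obtain ⟨q, rfl⟩ : t ∈ Set.range hA.fromSpec := by rw [hA.range_fromSpec]; exact htA
  have heq : ∀ q', g (hA.fromSpec q') = hV.fromSpec (Spec.map φ q') := fun q' => by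
    rw [← Scheme.Hom.comp_apply, ← hsq, Scheme.Hom.comp_apply]
  have hconst : ∀ q' : PrimeSpectrum Γ(T, A), q' ⤳ q → g (hA.fromSpec q') = g (hA.fromSpec q) := fun q' hq' =>
    hF _ (hg _) _ (hg _) ((hq'.map hA.fromSpec.continuous).map g.continuous)
  obtain ⟨c, hc, hc'⟩ := exists_basicOpen_le_comap φ.hom q fun q' hq' => by
    have := hconst q' ((PrimeSpectrum.le_iff_specializes q' q).1 hq')
    rw [heq, heq] at this
    exact ge_of_eq (congrArg PrimeSpectrum.asIdeal (hV.fromSpec.isOpenEmbedding.injective this))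
  let D : Set (PrimeSpectrum Γ(T, A)) := (PrimeSpectrum.basicOpen c : Set _)
  refine ⟨⟨hA.fromSpec '' D,
    hA.fromSpec.isOpenEmbedding.isOpenMap _ (PrimeSpectrum.basicOpen c).2⟩,
    Set.mem_image_of_mem _ ((PrimeSpectrum.mem_basicOpen _ _).2 hc), ?_⟩
  rintro _ ⟨q', hq', rfl⟩
  refine (hF _ (hg _) _ (hg _) ?_).symm
  rw [heq, heq]
  exact ((PrimeSpectrum.le_iff_specializes (R := Γ(U, V)) _ _).1 (hc' q' hq')).map hV.fromSpec.continuous

variable {S : Scheme.{u}} {X : Sp S}

theorem eq_of_specializes_chart {U : Over S} {a : (yon S).obj U ⟶ X} (ha : RepWith @Etale a)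
    [IsLocallyNoetherian U.left] {v w : ↥U.left} (e : Points.ofPt a v = Points.ofPt a w) (h : v ⤳ w) : v = w := by
  by_contra hne
  have hlt : w < v := lt_of_le_not_ge h fun h' => hne (h.antisymm h').eq
  have hfin : Order.coheight v < ⊤ := by
    have : ringKrullDim ↥(U.left.presheaf.stalk v) < ⊤ := ringKrullDim_lt_top
    rw [ringKrullDim_stalk_eq_coheight] at this
    exact WithBot.coe_lt_coe.1 this
  have := Order.coheight_strictAnti hlt hfin
  rw [coheight_congr ha ha e] at this
  exact lt_irrefl _ this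

theorem exists_factor_of_image_point {Y Z : Sp S} (hX : IsAlgSpace X) (hZ : IsAlgSpace Z) (hN : IsLocNoethSp X)
    (f : Y ⟶ X) (hY : EtaleLocally (fun U => IsReduced U) Y) (i : Z ⟶ X) [Mono i] (x : Points X)
    (hi : Set.range (Points.map i) = {x}) (hf : ∀ y, Points.map f y = x) :
    ∃ g : Y ⟶ Z, g ≫ i = f := by
  obtain ⟨W, c, hc, hc', hW⟩ := hY
  obtain ⟨U, a, ha, ha', hU⟩ := hN
  haveI := hU
  haveI : IsReduced W.left := hW
  let T := ha.rep.pullback (c ≫ f)
  let gU : T ⟶ U := ha.rep.fst' (c ≫ f)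
  let π : T ⟶ W := ha.rep.snd (c ≫ f)
  have sq : IsPullback ((yon S).map gU) ((yon S).map π) a (c ≫ f) := ha.rep.isPullback' (c ≫ f)
  haveI : Etale π.left := ha.property_snd (c ≫ f)
  haveI : Surjective π.left := ha'.property _ _ _ (ha.rep.isPullback (c ≫ f))
  haveI : IsReduced T.left := isReduced_of_etaleMor π.left
  have hT : ∀ t, Points.ofPt a (gU.left t) = x := fun t => by
    rw [← ofPt_comp, sq.w, ofPt_comp, ← Points.map_ofPt]
    exact hf _
  choose O hO hOc using exists_nhd_constant gU.left (F := {v | Points.ofPt a v = x})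
    (fun v hv w hw h => eq_of_specializes_chart ha (hv.trans hw.symm) h) hT
  -- each piece factors through the monomorphism
  have key : ∀ t : ↥T.left, ∃ l : (yon S).obj (Over.mk ((O t).ι ≫ T.hom)) ⟶ Z,
      l ≫ i = (yon S).map (Over.homMk (O t).ι rfl ≫ gU) ≫ a := by
    intro t
    let q := FieldPt.ofPt a (gU.left t)
    haveI : IsReduced (O t).toScheme := isReduced_of_isOpenImmersion (O t).ι
    obtain ⟨l₀, hl₀⟩ := exists_factor_residueField ((O t).ι ≫ gU.left) (gU.left t) fun o => hOc t o.1 o.2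
    let l : Over.mk ((O t).ι ≫ T.hom) ⟶ q.pt := Over.homMk l₀ (by
      change l₀ ≫ U.left.fromSpecResidueField (gU.left t) ≫ U.hom = (O t).ι ≫ T.hom
      rw [reassoc_of% hl₀, Over.w])
    have hl : l ≫ (Over.homMk (U.left.fromSpecResidueField (gU.left t)) rfl : q.pt ⟶ U)
        = Over.homMk (O t).ι rfl ≫ gU := Over.OverMorphism.ext hl₀
    obtain ⟨z, hz⟩ : x ∈ Set.range (Points.map i) := hi ▸ rfl
    obtain ⟨w, -, -⟩ := exists_point_of_isPullback (IsPullback.of_hasPullback i q.toHom)
      (x := z) (y := Points.ofScheme q.pt (IsLocalRing.closedPoint q.K)) (by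
        exact hz.trans ((hT t).symm.trans ((mk_eq_ofPt q).trans (Points.ofPt_eq_map_ofScheme q.toHom _))))
    haveI := isIso_of_mono_field (str := q.str) (isAlgSpace_pullback hZ (IsAlgSpace.yon_obj q.pt) hX i q.toHom)
      (pullback.snd i q.toHom) w
    refine ⟨(yon S).map l ≫ inv (pullback.snd i q.toHom) ≫ pullback.fst i q.toHom, ?_⟩
    rw [Category.assoc, Category.assoc, pullback.condition, IsIso.inv_hom_id_assoc, FieldPt.toHom_ofPt,
      ← Category.assoc, ← Functor.map_comp, hl]
  choose l hl using key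
  -- the projection from the pullback is an isomorphism
  haveI : Epi (pullback.snd i f) := by
    let jO : ∀ t : ↥T.left, Over.mk ((O t).ι ≫ T.hom) ⟶ W := fun t => Over.homMk (O t).ι rfl ≫ π
    refine ⟨fun {Z'} u v huv => ?_⟩
    haveI : Epi c := epi_of_etale_surjective hc hc'
    haveI : Epi ((yon S).map π) := epi_of_etale_surjective ((repWith_yon_map_iff _ π).2 ‹_›)
      ((repWith_yon_map_iff _ π).2 ‹_›)
    refine (cancel_epi c).1 ((cancel_epi ((yon S).map π)).1 ?_)
    have htop : ⨆ t, O t = ⊤ := top_unique fun s _ => TopologicalSpace.Opens.mem_iSup.2 ⟨s, hO s⟩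
    refine hom_ext_of_openCover (T.left.openCoverOfIsOpenCover O htop) _ _ fun t => ?_
    let k := pullback.lift (f := i) (g := f) (l t) ((yon S).map (Over.homMk (O t).ι rfl ≫ π) ≫ c) (by
      rw [hl t, Category.assoc, Functor.map_comp, Category.assoc, Functor.map_comp, Category.assoc, sq.w])
    have hk : k ≫ pullback.snd i f = (yon S).map (Over.homMk (O t).ι rfl) ≫ (yon S).map π ≫ c := by
      rw [pullback.lift_snd, Functor.map_comp, Category.assoc]
    have := congrArg (k ≫ ·) huv
    simp only [← Category.assoc] at this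
    rw [hk] at this
    simp only [Category.assoc] at this
    exact this
  haveI := isIso_of_mono_of_epi (pullback.snd i f)
  exact ⟨inv (pullback.snd i f) ≫ pullback.fst i f, by
    rw [Category.assoc, pullback.condition, IsIso.inv_hom_id_assoc]⟩

end Groth.Agent.Dsp6
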