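import Groth.Agent.Dsp6.FSDescLocal
import Groth.Agent.AlgSpLib.LargestOpen
import Groth.Agent.AlgSpDec.Fibres
import Groth.Agent.S2793
import Groth.Agent.AlgSpDec.LimOpen

/-!
Smoothness of morphisms of algebraic spaces through liftings along small extensions.
-/

set_option autoImplicit false
set_option maxHeartbeats 600000
set_option backward.isDefEq.respectTransparency false
set_option backward.isDefEq.respectTransparency.types false

universe u

open CategoryTheory CategoryTheory.Limits AlgebraicGeometry Opposite AlgSp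
open Groth.Agent.AlgSpLib Groth.Agent.AlgSpPts

namespace Groth.Agent.Dsp6.SmoothLift

variable {S : Scheme.{u}}

/-- The morphism of schemes over `S` given by a ring map. -/
noncomputable abbrev spH {B' B : Type u} [CommRing B'] [CommRing B] (π : B' →+* B)
    (s : Spec (CommRingCat.of B') ⟶ S) :
    Over.mk (Spec.map (CommRingCat.ofHom π) ≫ s) ⟶ Over.mk s :=
  Over.homMk (Spec.map (CommRingCat.ofHom π)) rfl

/-- A surjection is isomorphic to the quotient map by its kernel. -/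
theorem exists_iso_quot {B' B : Type u} [CommRing B'] [CommRing B] (π : B' →+* B)
    (hπ : Function.Surjective π) (s : Spec (CommRingCat.of B') ⟶ S) :
    ∃ e : Over.mk (Spec.map (CommRingCat.ofHom π) ≫ s) ≅
        Over.mk (Spec.map (CommRingCat.ofHom (Ideal.Quotient.mk (RingHom.ker π))) ≫ s),
      e.hom ≫ spH (Ideal.Quotient.mk (RingHom.ker π)) s = spH π s := by
  let ε : CommRingCat.of (B' ⧸ RingHom.ker π) ≅ CommRingCat.of B :=
    (RingHom.quotientKerEquivOfSurjective hπ).toCommRingCatIso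
  have hε : CommRingCat.ofHom (Ideal.Quotient.mk (RingHom.ker π)) ≫ ε.hom = CommRingCat.ofHom π := by
    ext r
    exact RingHom.quotientKerEquivOfSurjective_apply_mk hπ r
  have h1 : Spec.map ε.hom ≫ Spec.map (CommRingCat.ofHom (Ideal.Quotient.mk (RingHom.ker π))) =
      Spec.map (CommRingCat.ofHom π) := by rw [← Spec.map_comp, hε]
  exact ⟨Over.isoMk (Scheme.Spec.mapIso ε.op) (by
    show Spec.map ε.hom ≫ Spec.map _ ≫ s = Spec.map _ ≫ s
    rw [← Category.assoc, h1]), Over.OverMorphism.ext h1⟩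

variable {F G : Sp S} {f : F ⟶ G}

/-- Lifting along a formally smooth morphism, for square zero surjections. -/
theorem exists_lift (hf : IsFormallySmoothMor f) {B' B : Type u} [CommRing B'] [CommRing B] (π : B' →+* B)
    (hπ : Function.Surjective π) (hk : RingHom.ker π ^ 2 = ⊥) (s : Spec (CommRingCat.of B') ⟶ S)
    (α : (yon S).obj (Over.mk (Spec.map (CommRingCat.ofHom π) ≫ s)) ⟶ F) (β : (yon S).obj (Over.mk s) ⟶ G)
    (w : α ≫ f = (yon S).map (spH π s) ≫ β) :
    ∃ γ, (yon S).map (spH π s) ≫ γ = α ∧ γ ≫ f = β := by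
  obtain ⟨e, he⟩ := exists_iso_quot π hπ s
  let sq : InfSq f :=
    { A := B', I := RingHom.ker π, sq_zero := hk, str := s, top := (yon S).map e.inv ≫ α, bot := β
      comm := by
        rw [Category.assoc, w, ← Category.assoc, ← Functor.map_comp, ← he, Iso.inv_hom_id_assoc] }
  obtain ⟨l, hl₁, hl₂⟩ := hf sq
  refine ⟨l, ?_, hl₂⟩
  rw [← he, Functor.map_comp, Category.assoc]
  refine (congrArg (_ ≫ ·) hl₁).trans ?_
  show (yon S).map e.hom ≫ (yon S).map e.inv ≫ α = α
  rw [← Category.assoc, ← Functor.map_comp, e.hom_inv_id, (yon S).map_id, Category.id_comp]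

/-- At most one lift along a formally unramified morphism, for square zero ideals. -/
theorem lift_unique (hf : IsFormallyUnramifiedMor f) {A : Type u} [CommRing A] (I : Ideal A) (hI : I ^ 2 = ⊥)
    (s : Spec (CommRingCat.of A) ⟶ S) (l l' : (yon S).obj (Over.mk s) ⟶ F)
    (h₁ : (yon S).map (spH (Ideal.Quotient.mk I) s) ≫ l = (yon S).map (spH (Ideal.Quotient.mk I) s) ≫ l')
    (h₂ : l ≫ f = l' ≫ f) : l = l' := by
  let sq : InfSq f :=
    { A := A, I := I, sq_zero := hI, str := s, top := (yon S).map (spH (Ideal.Quotient.mk I) s) ≫ l, bot := l ≫ f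
      comm := Category.assoc _ _ _ }
  exact hf sq l l' rfl rfl h₁.symm h₂.symm

/-- A morphism smooth on an open neighbourhood has a formally smooth restriction to an open subspace. -/
theorem exists_open_formallySmooth (hF : IsAlgSpace F) (hG : IsAlgSpace G) {x : Points F}
    (hx : HasAtMor (fun U _ h u => ∃ W : U.Opens, u ∈ W ∧ Smooth (W.ι ≫ h)) f x) :
    ∃ (F₀ : Sp S) (j : F₀ ⟶ F), IsAlgSpace F₀ ∧ RepWith @IsOpenImmersion j ∧
      x ∈ Set.range (Points.map j) ∧ IsFormallySmoothMor (j ≫ f) := by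
  obtain ⟨U, V, a, b, h, u, ha, hb, w, hu, W, hW, hsm⟩ := hx
  let U' : Over S := Over.mk (W.ι ≫ U.hom)
  let i : U' ⟶ U := Over.homMk W.ι rfl
  have hi : RepWith @Etale ((yon S).map i) :=
    (repWith_yon_map_iff _ _).2 (inferInstanceAs (Etale W.ι))
  have ha' : RepWith @Etale ((yon S).map i ≫ a) := repWith_comp hi ha
  obtain ⟨F₀, j, hF₀, hj, hr⟩ := exists_open_subspace hF
    (Groth.Agent.AlgSpLib.isOpenMap_ofPt ha' |>.isOpen_range)
  have hr' : Set.range (Points.map ((yon S).map i ≫ a)) ⊆ Set.range (Points.map j) := by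
    rintro _ ⟨z, rfl⟩
    rw [hr, ← Points.ofScheme_toScheme U' z, ← Points.ofPt_eq_map_ofScheme]
    exact ⟨_, rfl⟩
  obtain ⟨a₀, ha₀⟩ := exists_lift_openImmersion (IsAlgSpace.yon_obj U') hF₀ hF hj _ hr'
  haveI : Mono j := AlgSpDec.mono_of_openImmersion hj
  have s₀ : IsPullback (𝟙 _) a₀ ((yon S).map i ≫ a) j :=
    IsPullback.of_isLimit' ⟨by rw [Category.id_comp, ha₀]⟩ (PullbackCone.IsLimit.mk _ (fun c => c.fst)
      (fun c => Category.comp_id _)
      (fun c => (cancel_mono j).1 (by rw [Category.assoc, ha₀]; exact c.condition))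
      (fun c m hm _ => by simpa using hm))
  have ha₀e : RepWith @Etale a₀ := repWith_of_isPullback s₀ ha'
  have ha₀s : RepWith @Surjective a₀ := by
    refine repWith_surjective_of_surjective ha₀e.rep fun y => ?_
    obtain ⟨z, hz⟩ : Points.map j y ∈ Set.range (Points.ofPt ((yon S).map i ≫ a)) := hr ▸ ⟨y, rfl⟩
    rw [Points.ofPt_eq_map_ofScheme] at hz
    obtain ⟨z', -, hz'⟩ := exists_point_of_isPullback s₀ hz
    exact ⟨z', hz'⟩
  refine ⟨F₀, j, hF₀, hj, ?_, FSDesc.isFormallySmoothMor_of_chart hG (j ≫ f) a₀ b (i ≫ h) ha₀e ha₀s hb ?_ ?_⟩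
  · rw [hr]
    exact ⟨⟨u, hW⟩, by rw [ofPt_comp]; exact hu⟩
  · rw [← Category.assoc, ha₀, Category.assoc, w, Functor.map_comp, Category.assoc]
  · exact FSDesc.isFormallySmoothHom_of_isFormallySmoothMor
      ((formal_of_repWith _).1 ((repWith_yon_map_iff _ _).2 (show Smooth (i ≫ h).left from hsm)))

/-- Smooth near `x` gives lifts along square zero surjections of local rings. -/
theorem lift_of_smoothAt (hF : IsAlgSpace F) (hG : IsAlgSpace G) {x : Points F}
    (hx : HasAtMor (fun U _ h u => ∃ W : U.Opens, u ∈ W ∧ Smooth (W.ι ≫ h)) f x)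
    {B' B : Type u} [CommRing B'] [CommRing B] [IsLocalRing B] (π : B' →+* B)
    (hπ : Function.Surjective π) (hk : RingHom.ker π ^ 2 = ⊥) (s : Spec (CommRingCat.of B') ⟶ S)
    (α : (yon S).obj (Over.mk (Spec.map (CommRingCat.ofHom π) ≫ s)) ⟶ F) (β : (yon S).obj (Over.mk s) ⟶ G)
    (hα : Points.ofPt α (IsLocalRing.closedPoint B) = x)
    (w : α ≫ f = (yon S).map (spH π s) ≫ β) :
    ∃ γ, (yon S).map (spH π s) ≫ γ = α ∧ γ ≫ f = β := by
  obtain ⟨F₀, j, hF₀, hj, hxj, hfs⟩ := exists_open_formallySmooth hF hG hx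
  let T : Over S := Over.mk (Spec.map (CommRingCat.ofHom π) ≫ s)
  have hr : Set.range (Points.map α) ⊆ Set.range (Points.map j) := by
    rintro _ ⟨z, rfl⟩
    rw [← Points.ofScheme_toScheme T z, ← Points.ofPt_eq_map_ofScheme]
    have ho : IsOpen (Points.ofPt α ⁻¹' Set.range (Points.map j)) :=
      (AlgSpDec.isOpen_range_openImm hF hj).preimage (Points.continuous_ofPt α)
    exact (IsLocalRing.specializes_closedPoint (Points.toScheme T z : PrimeSpectrum B)).mem_open ho (show Points.ofPt α (IsLocalRing.closedPoint B) ∈ Set.range (Points.map j) by rw [hα]; exact hxj)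
  obtain ⟨α₀, rfl⟩ := exists_lift_openImmersion (IsAlgSpace.yon_obj T) hF₀ hF hj α hr
  obtain ⟨γ, hγ₁, hγ₂⟩ := exists_lift hfs π hπ hk s α₀ β (by rw [← Category.assoc, w])
  exact ⟨γ ≫ j, by rw [← Category.assoc, hγ₁], by rw [Category.assoc, hγ₂]⟩

/-- `Spec (A ⧸ J)` over `S`. -/
noncomputable abbrev quotPt {A : Type u} [CommRing A] (s : Spec (CommRingCat.of A) ⟶ S) (J : Ideal A) : Over S :=
  Over.mk (Spec.map (CommRingCat.ofHom (Ideal.Quotient.mk J)) ≫ s)

theorem factor_w {A : Type u} [CommRing A] (s : Spec (CommRingCat.of A) ⟶ S) {J J' : Ideal A} (h : J' ≤ J) :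
    Spec.map (CommRingCat.ofHom (Ideal.Quotient.factor h)) ≫
      Spec.map (CommRingCat.ofHom (Ideal.Quotient.mk J')) ≫ s =
    Spec.map (CommRingCat.ofHom (Ideal.Quotient.mk J)) ≫ s := by
  rw [← Category.assoc, ← Spec.map_comp, ← CommRingCat.ofHom_comp, Ideal.Quotient.factor_comp_mk]

/-- `Spec (A ⧸ J) ⟶ Spec (A ⧸ J')` for `J' ≤ J`. -/
noncomputable def trQ {A : Type u} [CommRing A] (s : Spec (CommRingCat.of A) ⟶ S) {J J' : Ideal A} (h : J' ≤ J) :
    quotPt s J ⟶ quotPt s J' :=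
  Over.homMk (Spec.map (CommRingCat.ofHom (Ideal.Quotient.factor h))) (factor_w s h)

theorem trQ_spH {A : Type u} [CommRing A] (s : Spec (CommRingCat.of A) ⟶ S) {J J' : Ideal A} (h : J' ≤ J) :
    trQ s h ≫ spH (Ideal.Quotient.mk J') s = spH (Ideal.Quotient.mk J) s := by
  refine Over.OverMorphism.ext ?_
  show Spec.map (CommRingCat.ofHom (Ideal.Quotient.factor h)) ≫ Spec.map (CommRingCat.ofHom (Ideal.Quotient.mk J')) =
    Spec.map (CommRingCat.ofHom (Ideal.Quotient.mk J))
  rw [← Spec.map_comp, ← CommRingCat.ofHom_comp, Ideal.Quotient.factor_comp_mk]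

theorem trQ_trQ {A : Type u} [CommRing A] (s : Spec (CommRingCat.of A) ⟶ S) {J J' J'' : Ideal A} (h : J' ≤ J)
    (h' : J'' ≤ J') : trQ s h ≫ trQ s h' = trQ s (h'.trans h) := by
  refine Over.OverMorphism.ext ?_
  show Spec.map (CommRingCat.ofHom (Ideal.Quotient.factor h)) ≫ Spec.map (CommRingCat.ofHom (Ideal.Quotient.factor h')) =
    Spec.map (CommRingCat.ofHom (Ideal.Quotient.factor (h'.trans h)))
  rw [← Spec.map_comp, ← CommRingCat.ofHom_comp, Ideal.Quotient.factor_comp]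

theorem trQ_refl {A : Type u} [CommRing A] (s : Spec (CommRingCat.of A) ⟶ S) (J : Ideal A) :
    trQ s (le_refl J) = 𝟙 (quotPt s J) := by
  refine Over.OverMorphism.ext ?_
  show Spec.map (CommRingCat.ofHom (Ideal.Quotient.factor (le_refl J))) = 𝟙 (Spec (CommRingCat.of (A ⧸ J)))
  rw [show Ideal.Quotient.factor (le_refl J) = RingHom.id (A ⧸ J) from Ideal.Quotient.ringHom_ext rfl]
  exact Spec.map_id _

theorem isIso_spH_bot {A : Type u} [CommRing A] (s : Spec (CommRingCat.of A) ⟶ S) :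
    IsIso (spH (Ideal.Quotient.mk (⊥ : Ideal A)) s) := by
  haveI : IsIso (CommRingCat.ofHom (Ideal.Quotient.mk (⊥ : Ideal A))) := by
    rw [ConcreteCategory.isIso_iff_bijective]
    exact ⟨fun a b hab => sub_eq_zero.1 (Ideal.mem_bot.1 (Ideal.Quotient.eq.1 hab)), Ideal.Quotient.mk_surjective⟩
  haveI : IsIso ((Over.forget S).map (spH (Ideal.Quotient.mk (⊥ : Ideal A)) s)) :=
    inferInstanceAs (IsIso (Spec.map (CommRingCat.ofHom (Ideal.Quotient.mk (⊥ : Ideal A)))))
  exact isIso_of_reflects_iso _ (Over.forget S)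

/-- Lifts along small extensions compose. -/
theorem exists_lift_of_small {A' : Type u} [CommRing A'] [IsLocalRing A'] [IsArtinianRing A']
    (I : Ideal A') (hI : I ≠ ⊤) (hIm : I * IsLocalRing.maximalIdeal A' = ⊥)
    (s : Spec (CommRingCat.of A') ⟶ S)
    (α : (yon S).obj (quotPt s I) ⟶ F)
    (β : (yon S).obj (Over.mk s) ⟶ G) (w : α ≫ f = (yon S).map (spH (Ideal.Quotient.mk I) s) ≫ β)
    (H : ∀ (J J' : Ideal A') (hJ : J' ≤ J), J ≠ ⊤ →
      (∃ t : A' ⧸ J', RingHom.ker (Ideal.Quotient.factor hJ) = Ideal.span {t} ∧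
        ∀ a ∈ IsLocalRing.maximalIdeal A', Ideal.Quotient.mk J' a * t = 0) →
      ∀ (α₀ : (yon S).obj (quotPt s J) ⟶ F),
        (∀ p, Points.ofPt α₀ p ∈ Set.range (Points.ofPt α)) →
        α₀ ≫ f = (yon S).map (trQ s hJ) ≫ (yon S).map (spH (Ideal.Quotient.mk J') s) ≫ β →
        ∃ γ, (yon S).map (trQ s hJ) ≫ γ = α₀ ∧ γ ≫ f = (yon S).map (spH (Ideal.Quotient.mk J') s) ≫ β) :
    ∃ γ, (yon S).map (spH (Ideal.Quotient.mk I) s) ≫ γ = α ∧ γ ≫ f = β := by
  obtain ⟨J, ⟨hJI, γ, hγ₁, hγ₂⟩, hmin⟩ := wellFounded_lt.has_min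
    {J : Ideal A' | ∃ h : J ≤ I, ∃ γ : (yon S).obj (quotPt s J) ⟶ F,
      (yon S).map (trQ s h) ≫ γ = α ∧ γ ≫ f = (yon S).map (spH (Ideal.Quotient.mk J) s) ≫ β}
    ⟨I, le_rfl, α, by rw [trQ_refl, (yon S).map_id, Category.id_comp], w⟩
  by_cases hJ0 : J = ⊥
  · subst hJ0
    haveI := isIso_spH_bot s
    refine ⟨(yon S).map (inv (spH (Ideal.Quotient.mk (⊥ : Ideal A')) s)) ≫ γ, ?_, ?_⟩
    · rw [← trQ_spH s hJI, ← Category.assoc, ← Functor.map_comp, Category.assoc, IsIso.hom_inv_id,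
        Category.comp_id, hγ₁]
    · rw [Category.assoc, hγ₂, ← Category.assoc, ← Functor.map_comp, IsIso.inv_hom_id, (yon S).map_id,
        Category.id_comp]
  · exfalso
    obtain ⟨J', hJ', hmax⟩ := set_has_maximal_iff_noetherian.mpr inferInstance {K : Ideal A' | K < J}
      ⟨⊥, bot_lt_iff_ne_bot.2 hJ0⟩
    obtain ⟨t, htJ, htJ'⟩ := SetLike.exists_of_lt (show J' < J from hJ')
    have hspan : J' ⊔ Ideal.span {t} = J := by
      refine ((sup_le hJ'.le ((Ideal.span_singleton_le_iff_mem J).2 htJ)).eq_or_lt).resolve_right fun hlt => ?_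
      exact hmax _ hlt (SetLike.lt_iff_le_and_exists.2
        ⟨le_sup_left, t, Ideal.mem_sup_right (Ideal.mem_span_singleton_self t), htJ'⟩)
    have hker : RingHom.ker (Ideal.Quotient.factor hJ'.le) = Ideal.span {Ideal.Quotient.mk J' t} := by
      rw [Ideal.Quotient.factor_ker, ← hspan, Ideal.map_sup, Ideal.map_quotient_self, bot_sup_eq,
        Ideal.map_span, Set.image_singleton]
    have hkill : ∀ a ∈ IsLocalRing.maximalIdeal A', Ideal.Quotient.mk J' a * Ideal.Quotient.mk J' t = 0 := by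
      intro a ha
      have : t * a = 0 := by rw [← Ideal.mem_bot, ← hIm]; exact Ideal.mul_mem_mul (hJI htJ) ha
      rw [← map_mul, mul_comm, this, map_zero]
    have hJtop : J ≠ ⊤ := fun hh => hI (top_le_iff.1 (hh ▸ hJI))
    obtain ⟨γ', hγ'₁, hγ'₂⟩ := H J J' hJ'.le hJtop ⟨_, hker, hkill⟩ γ (fun p => by
        have : Subsingleton (PrimeSpectrum (A' ⧸ J)) :=
          (PrimeSpectrum.comap_injective_of_surjective (Ideal.Quotient.mk J) Ideal.Quotient.mk_surjective).subsingleton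
        haveI : Nontrivial (A' ⧸ I) := Ideal.Quotient.nontrivial_iff.2 hI
        obtain ⟨q⟩ := (inferInstance : Nonempty (PrimeSpectrum (A' ⧸ I)))
        refine ⟨q, ?_⟩
        rw [← hγ₁, ofPt_comp]
        exact congrArg (Points.ofPt γ) (Subsingleton.elim (α := PrimeSpectrum (A' ⧸ J)) _ _))
      (by rw [hγ₂, ← trQ_spH s hJ'.le, Functor.map_comp, Category.assoc])
    refine hmin J' ⟨hJ'.le.trans hJI, γ', ?_, hγ'₂⟩ hJ'
    rw [← trQ_trQ s hJI hJ'.le, Functor.map_comp, Category.assoc, hγ'₁, hγ₁]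

/-- A lifting property with the bottom arrow given through an equation. -/
theorem lift_congr {B' B : Type u} [CommRing B'] [CommRing B] {π : B' →+* B} {s : Spec (CommRingCat.of B') ⟶ S}
    {β : (yon S).obj (Over.mk s) ⟶ G} {P : (↥(Spec (CommRingCat.of B)) → Points F) → Prop}
    (h : ∀ α : (yon S).obj (Over.mk (Spec.map (CommRingCat.ofHom π) ≫ s)) ⟶ F, P (Points.ofPt α) →
      α ≫ f = (yon S).map (spH π s) ≫ β → ∃ γ, (yon S).map (spH π s) ≫ γ = α ∧ γ ≫ f = β)
    {r : Spec (CommRingCat.of B) ⟶ S} (hr : Spec.map (CommRingCat.ofHom π) ≫ s = r)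
    (α : (yon S).obj (Over.mk r) ⟶ F) (hP : P (Points.ofPt α))
    (w : α ≫ f = (yon S).map (Over.homMk (Spec.map (CommRingCat.ofHom π)) hr : Over.mk r ⟶ Over.mk s) ≫ β) :
    ∃ γ, (yon S).map (Over.homMk (Spec.map (CommRingCat.ofHom π)) hr : Over.mk r ⟶ Over.mk s) ≫ γ = α ∧
      γ ≫ f = β := by
  subst hr
  exact h α hP w

theorem exists_stalk_of_closedPoint {U : Scheme.{u}} {R : CommRingCat.{u}} [IsLocalRing R]
    (m : Spec R ⟶ U) {u : U} (hm : m (IsLocalRing.closedPoint R) = u) :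
    ∃ g : U.presheaf.stalk u ⟶ R, Spec.map g ≫ U.fromSpecStalk u = m := by
  subst hm
  exact ⟨_, Scheme.Spec_stalkClosedPointTo_fromSpecStalk m⟩

/-- Lifts along small extensions at a point give smoothness near it, on a chart. `Ok` restricts the maps
to the chart of the base against which lifts are asked. -/
theorem smooth_nhd_of_lift {U V : Over S} {a : (yon S).obj U ⟶ F} {b : (yon S).obj V ⟶ G} {h : U ⟶ V}
    [IsLocallyNoetherian V.left] [LocallyOfFiniteType h.left]
    (ha : RepWith @Etale a) (hb : RepWith @Etale b) (w : a ≫ f = (yon S).map h ≫ b) (u : ↥U.left)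
    (Ok : ∀ {B' : Type u} [CommRing B'] (s : Spec (CommRingCat.of B') ⟶ S), (Over.mk s ⟶ V) → Prop)
    (hOk : ∀ (A' : Type u) [CommRing A'] [IsLocalRing A'] [IsArtinianRing A']
      (hA : V.left.presheaf.stalk (h.left u) →+* A') [IsLocalHom hA] (I : Ideal A') (_ : I ≠ ⊤)
      (g₀ : U.left.presheaf.stalk u →+* A' ⧸ I),
      g₀.comp (h.left.stalkMap u).hom = (Ideal.Quotient.mk I).comp hA →
      (∀ c ∈ IsLocalRing.maximalIdeal (U.left.presheaf.stalk u),
        g₀ c ∈ (IsLocalRing.maximalIdeal A').map (Ideal.Quotient.mk I)) →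
      (∀ a' : A', ∃ c, g₀ c - Ideal.Quotient.mk I a' ∈ (IsLocalRing.maximalIdeal A').map (Ideal.Quotient.mk I)) →
      ∀ J : Ideal A', Ok _ (spH (Ideal.Quotient.mk J) ((Spec.map (CommRingCat.ofHom hA) ≫ V.left.fromSpecStalk _) ≫ V.hom) ≫
        (Over.homMk (Spec.map (CommRingCat.ofHom hA) ≫ V.left.fromSpecStalk _) rfl :
          Over.mk ((Spec.map (CommRingCat.ofHom hA) ≫ V.left.fromSpecStalk _) ≫ V.hom) ⟶ V)))
    (H : ∀ (B' B : Type u) [CommRing B'] [CommRing B] [IsLocalRing B'] [IsLocalRing B]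
      [IsArtinianRing B'] [IsArtinianRing B] (π : B' →+* B), Function.Surjective π →
      (∃ t : B', RingHom.ker π = Ideal.span {t} ∧ ∀ a ∈ IsLocalRing.maximalIdeal B', a * t = 0) →
      ∀ (s : Spec (CommRingCat.of B') ⟶ S)
        (α : (yon S).obj (Over.mk (Spec.map (CommRingCat.ofHom π) ≫ s)) ⟶ F) (m : Over.mk s ⟶ V),
        Ok s m → Points.ofPt α (IsLocalRing.closedPoint B) = Points.ofPt a u →
        α ≫ f = (yon S).map (spH π s) ≫ (yon S).map m ≫ b →
        ∃ γ, (yon S).map (spH π s) ≫ γ = α ∧ γ ≫ f = (yon S).map m ≫ b) :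
    ∃ W : U.left.Opens, u ∈ W ∧ Smooth (W.ι ≫ h.left) := by
  refine (Groth.Agent.S2793.result h.left u).2 fun A' _ _ _ hA _ I hI hIm g₀ hc hloc hres => ?_
  let b₀ : Spec (CommRingCat.of A') ⟶ V.left := Spec.map (CommRingCat.ofHom hA) ≫ V.left.fromSpecStalk _
  let s : Spec (CommRingCat.of A') ⟶ S := b₀ ≫ V.hom
  let bO : Over.mk s ⟶ V := Over.homMk b₀ rfl
  let t₀ : Spec (CommRingCat.of (A' ⧸ I)) ⟶ U.left := Spec.map (CommRingCat.ofHom g₀) ≫ U.left.fromSpecStalk u
  have hcomm : t₀ ≫ h.left = Spec.map (CommRingCat.ofHom (Ideal.Quotient.mk I)) ≫ b₀ := by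
    simp only [t₀, b₀, Category.assoc, ← Scheme.SpecMap_stalkMap_fromSpecStalk]
    rw [← Category.assoc, ← Category.assoc, ← Spec.map_comp, ← Spec.map_comp]
    congr 2
    ext z
    exact RingHom.congr_fun hc z
  let tO : Over.mk (Spec.map (CommRingCat.ofHom (Ideal.Quotient.mk I)) ≫ s) ⟶ U := Over.homMk t₀ (by
    show t₀ ≫ U.hom = Spec.map _ ≫ b₀ ≫ V.hom
    rw [← Over.w h, reassoc_of% hcomm])
  have htO : tO ≫ h = spH (Ideal.Quotient.mk I) s ≫ bO := Over.OverMorphism.ext hcomm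
  have : Nontrivial (A' ⧸ I) := Ideal.Quotient.nontrivial_iff.2 hI
  have : IsLocalRing (A' ⧸ I) := IsLocalRing.of_surjective' (Ideal.Quotient.mk I) Ideal.Quotient.mk_surjective
  have hmI : (IsLocalRing.maximalIdeal A').map (Ideal.Quotient.mk I) ≤ IsLocalRing.maximalIdeal (A' ⧸ I) :=
    IsLocalRing.le_maximalIdeal (by
      intro htop
      have := congrArg (Ideal.comap (Ideal.Quotient.mk I)) htop
      rw [Ideal.comap_map_of_surjective _ Ideal.Quotient.mk_surjective, Ideal.comap_top, ← RingHom.ker_eq_comap_bot,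
        Ideal.mk_ker, sup_eq_left.2 (IsLocalRing.le_maximalIdeal hI)] at this
      exact (IsLocalRing.maximalIdeal.isMaximal A').ne_top this)
  have hcl : t₀ (IsLocalRing.closedPoint (A' ⧸ I)) = u := by
    have hl : IsLocalHom g₀ := ⟨fun c hu => by
      by_contra hc'
      exact (IsLocalRing.mem_maximalIdeal _).1 (hmI (hloc c ((IsLocalRing.mem_maximalIdeal _).2 hc'))) hu⟩
    have e : (Spec.map (CommRingCat.ofHom g₀)) (IsLocalRing.closedPoint (A' ⧸ I)) =
        IsLocalRing.closedPoint (U.left.presheaf.stalk u) := IsLocalRing.comap_closedPoint g₀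
    simp only [t₀, Scheme.Hom.comp_apply, e]
    exact Scheme.fromSpecStalk_closedPoint
  have hsub : Subsingleton (PrimeSpectrum (A' ⧸ I)) :=
    (PrimeSpectrum.comap_injective_of_surjective (Ideal.Quotient.mk I) Ideal.Quotient.mk_surjective).subsingleton
  let α : (yon S).obj (Over.mk (Spec.map (CommRingCat.ofHom (Ideal.Quotient.mk I)) ≫ s)) ⟶ F :=
    (yon S).map tO ≫ a
  have hw : α ≫ f = (yon S).map (spH (Ideal.Quotient.mk I) s) ≫ (yon S).map bO ≫ b := by
    simp only [α, Category.assoc, w]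
    rw [← Category.assoc ((yon S).map tO), ← Functor.map_comp, htO, Functor.map_comp, Category.assoc]
  have hαpt : ∀ q, Points.ofPt α q = Points.ofPt a u := fun q => by
    rw [ofPt_comp]
    refine congrArg (Points.ofPt a) ?_
    rw [Subsingleton.elim (α := PrimeSpectrum (A' ⧸ I)) q (IsLocalRing.closedPoint (A' ⧸ I))]
    exact hcl
  obtain ⟨γ, hγ₁, hγ₂⟩ := exists_lift_of_small I hI hIm s α ((yon S).map bO ≫ b) hw
    fun J J' hJ hJtop ⟨t, ht, hkill⟩ α₀ hα₀ hw₀ => by
      have hJ'top : J' ≠ ⊤ := fun hh => hJtop (top_le_iff.1 (hh ▸ hJ))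
      have : Nontrivial (A' ⧸ J) := Ideal.Quotient.nontrivial_iff.2 hJtop
      have : Nontrivial (A' ⧸ J') := Ideal.Quotient.nontrivial_iff.2 hJ'top
      have : IsLocalRing (A' ⧸ J) := IsLocalRing.of_surjective' (Ideal.Quotient.mk J) Ideal.Quotient.mk_surjective
      have : IsLocalRing (A' ⧸ J') := IsLocalRing.of_surjective' (Ideal.Quotient.mk J') Ideal.Quotient.mk_surjective
      have hker' : ∃ t : A' ⧸ J', RingHom.ker (Ideal.Quotient.factor hJ) = Ideal.span {t} ∧
          ∀ a ∈ IsLocalRing.maximalIdeal (A' ⧸ J'), a * t = 0 := ⟨t, ht, fun c hc' => by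
        obtain ⟨c₀, rfl⟩ := Ideal.Quotient.mk_surjective c
        refine hkill c₀ ?_
        rw [IsLocalRing.mem_maximalIdeal, mem_nonunits_iff] at hc' ⊢
        exact fun h0 => hc' (h0.map _)⟩
      obtain ⟨γ, hγ₁, hγ₂⟩ := lift_congr (P := fun o => o (IsLocalRing.closedPoint (A' ⧸ J)) = Points.ofPt a u)
        (fun α' hP hw' => H (A' ⧸ J') (A' ⧸ J) (Ideal.Quotient.factor hJ) (Ideal.Quotient.factor_surjective hJ)
          hker' _ α' (spH (Ideal.Quotient.mk J') s ≫ bO) (hOk A' hA I hI g₀ hc hloc hres J') hP hw')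
        (factor_w s hJ) α₀
        (by
          obtain ⟨q, hq⟩ := hα₀ (IsLocalRing.closedPoint (A' ⧸ J))
          rw [← hq, hαpt])
        (by rw [hw₀, Functor.map_comp, Category.assoc]; rfl)
      exact ⟨γ, hγ₁, by rw [hγ₂, Functor.map_comp, Category.assoc]⟩
  have hsq : I ^ 2 = ⊥ := by
    rw [eq_bot_iff, pow_two, ← hIm]
    exact Ideal.mul_mono_right (IsLocalRing.le_maximalIdeal hI)
  obtain ⟨l, hl₁, hl₂⟩ := exists_lift ((isFormallyEtaleMor_iff a).1 ((formal_of_repWith a).2.1 ha)).1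
    (Ideal.Quotient.mk I) Ideal.Quotient.mk_surjective (by rw [Ideal.mk_ker]; exact hsq) s ((yon S).map tO) γ hγ₁.symm
  obtain ⟨m, rfl⟩ := (yon S).map_surjective l
  have hmt : spH (Ideal.Quotient.mk I) s ≫ m = tO := (yon S).map_injective (by rw [Functor.map_comp, hl₁])
  have hmb : m ≫ h = bO := (yon S).map_injective (by
    refine lift_unique ((isFormallyEtaleMor_iff b).1 ((formal_of_repWith b).2.1 hb)).2 I hsq s _ _ ?_ ?_
    · rw [← Functor.map_comp, ← Functor.map_comp, ← Category.assoc (spH (Ideal.Quotient.mk I) s), hmt, htO]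
    · rw [Functor.map_comp, Category.assoc, ← w, ← Category.assoc, hl₂, hγ₂])
  have hm : m.left (IsLocalRing.closedPoint A') = u := by
    rw [← hcl, ← show Spec.map (CommRingCat.ofHom (Ideal.Quotient.mk I)) ≫ m.left = t₀ from
      congrArg CommaMorphism.left hmt, Scheme.Hom.comp_apply]
    haveI : Subsingleton (PrimeSpectrum A') := inferInstance
    exact congrArg m.left (Subsingleton.elim (α := PrimeSpectrum A') _ _)
  obtain ⟨g, hg⟩ := exists_stalk_of_closedPoint (R := CommRingCat.of A') m.left hm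
  refine ⟨g.hom, ?_, ?_⟩
  · have e : Spec.map (h.left.stalkMap u ≫ g) = Spec.map (CommRingCat.ofHom hA) := by
      rw [← cancel_mono (V.left.fromSpecStalk (h.left u)), Spec.map_comp, Category.assoc,
        Scheme.SpecMap_stalkMap_fromSpecStalk, reassoc_of% hg]
      exact congrArg CommaMorphism.left hmb
    exact congrArg CommRingCat.Hom.hom (Spec.map_injective e)
  · have e : Spec.map (g ≫ CommRingCat.ofHom (Ideal.Quotient.mk I)) = Spec.map (CommRingCat.ofHom g₀) := by
      rw [← cancel_mono (U.left.fromSpecStalk u), Spec.map_comp, Category.assoc, hg]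
      exact congrArg CommaMorphism.left hmt
    exact congrArg CommRingCat.Hom.hom (Spec.map_injective e)

end Groth.Agent.Dsp6.SmoothLift
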