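import Groth.Agent.Dsp6.SmoothLift
import Groth.Agent.AlgSpLib.EtLocalInst

/-!
Smoothness through small extensions: statements for morphisms of algebraic spaces.
-/

set_option autoImplicit false
set_option maxHeartbeats 600000
set_option backward.isDefEq.respectTransparency false
set_option backward.isDefEq.respectTransparency.types false

universe u

open CategoryTheory CategoryTheory.Limits AlgebraicGeometry Opposite AlgSp
open Groth.Agent.AlgSpLib Groth.Agent.AlgSpPts

namespace Groth.Agent.Dsp6.SmoothLift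

variable {S : Scheme.{u}} {F G : Sp S} {f : F ⟶ G}

/-- Smooth at `x`: some chart is smooth near a point over `x`. -/
abbrev SmoothAt (f : F ⟶ G) (x : Points F) : Prop :=
  HasAtMor (fun U _ h u => ∃ W : U.Opens, u ∈ W ∧ Smooth (W.ι ≫ h)) f x

theorem sq_eq_bot_of_small {B' B : Type u} [CommRing B'] [CommRing B] [IsLocalRing B'] [Nontrivial B]
    (π : B' →+* B) (h : ∃ t : B', RingHom.ker π = Ideal.span {t} ∧
      ∀ a ∈ IsLocalRing.maximalIdeal B', a * t = 0) : RingHom.ker π ^ 2 = ⊥ := by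
  obtain ⟨t, ht, hk⟩ := h
  have htm : t ∈ IsLocalRing.maximalIdeal B' := by
    refine (IsLocalRing.mem_maximalIdeal _).2 fun hu => RingHom.ker_ne_top π ?_
    rw [ht, Ideal.span_singleton_eq_top]
    exact hu
  rw [ht, Ideal.span_singleton_pow, Ideal.span_singleton_eq_bot, pow_two]
  exact hk t htm

theorem smoothAt_of_lift_artinian (hF : IsAlgSpace F) (hG : IsAlgSpace G) (hN : IsLocNoethSp G)
    (hft : LocP @LocallyOfFiniteType f) {x : Points F}
    (H : ∀ (B' B : Type u) [CommRing B'] [CommRing B] [IsLocalRing B'] [IsLocalRing B]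
        [IsArtinianRing B'] [IsArtinianRing B] (π : B' →+* B), Function.Surjective π →
        (∃ t : B', RingHom.ker π = Ideal.span {t} ∧ ∀ a ∈ IsLocalRing.maximalIdeal B', a * t = 0) →
        ∀ (s : Spec (CommRingCat.of B') ⟶ S)
          (α : (yon S).obj (Over.mk (Spec.map (CommRingCat.ofHom π) ≫ s)) ⟶ F)
          (β : (yon S).obj (Over.mk s) ⟶ G),
          Points.ofPt α (IsLocalRing.closedPoint B) = x → α ≫ f = (yon S).map (spH π s) ≫ β →
          ∃ γ, (yon S).map (spH π s) ≫ γ = α ∧ γ ≫ f = β) :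
    SmoothAt f x := by
  obtain ⟨U, V, a, b, h, ha, ha', hb, -, w⟩ := exists_chart hF hG f
  obtain ⟨u, rfl⟩ := surjective_ofPt ha' x
  haveI : IsLocallyNoetherian V.left := AlgSpDec.isLocallyNoetherian_chart hb hN
  haveI : LocallyOfFiniteType h.left := hft a b h ha hb w
  refine ⟨U, V, a, b, h, u, ha, hb, w, rfl, smooth_nhd_of_lift ha hb w u (fun _ _ => True)
    (fun _ _ _ _ _ _ _ _ _ _ _ _ _ => trivial) ?_⟩
  intro B' B _ _ _ _ _ _ π hπ ht s α m _ hpt hw
  exact H B' B π hπ ht s α ((yon S).map m ≫ b) hpt hw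

/-- An algebra over which a local Artinian ring has finitely generated residue ring is of finite type. -/
theorem finiteType_of_residue {R A : Type u} [CommRing R] [CommRing A] [Algebra R A] [IsLocalRing A]
    [IsArtinianRing A] (s : Finset A)
    (h : ∀ a : A, ∃ c ∈ Algebra.adjoin R (s : Set A), a - c ∈ IsLocalRing.maximalIdeal A) :
    Algebra.FiniteType R A := by
  classical
  obtain ⟨t, ht⟩ := (inferInstance : IsNoetherianRing A).noetherian (IsLocalRing.maximalIdeal A)
  let C := Algebra.adjoin R ((s ∪ t : Finset A) : Set A)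
  have hC : ∀ k : ℕ, ∀ a : A, ∃ c ∈ C, a - c ∈ IsLocalRing.maximalIdeal A ^ k := by
    intro k
    induction k with
    | zero => exact fun a => ⟨0, zero_mem _, by simp⟩
    | succ k ih =>
      intro a
      obtain ⟨c, hc, hca⟩ := h a
      have hc' : c ∈ C := Algebra.adjoin_mono (by simp) hc
      have key : ∀ x ∈ Submodule.span A (t : Set A),
          ∃ d ∈ C, x - d ∈ IsLocalRing.maximalIdeal A ^ (k + 1) := by
        intro x hx
        induction hx using Submodule.span_induction with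
        | mem x hx => exact ⟨x, Algebra.subset_adjoin (by simp [hx]), by simp⟩
        | zero => exact ⟨0, zero_mem _, by simp⟩
        | add x y _ _ hx hy =>
          obtain ⟨d, hd, hd'⟩ := hx
          obtain ⟨e, he, he'⟩ := hy
          exact ⟨d + e, add_mem hd he, by
            rw [show x + y - (d + e) = (x - d) + (y - e) by ring]; exact add_mem hd' he'⟩
        | smul r x hxt hx =>
          obtain ⟨d, hd, hd'⟩ := hx
          obtain ⟨e, he, he'⟩ := ih r
          refine ⟨e * d, mul_mem he hd, ?_⟩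
          rw [smul_eq_mul, show r * x - e * d = (r - e) * x + e * (x - d) by ring]
          refine add_mem ?_ (Ideal.mul_mem_left _ _ hd')
          rw [pow_succ]
          exact Ideal.mul_mem_mul he' (ht.le hxt)
      obtain ⟨d, hd, hd'⟩ := key (a - c) (ht.ge hca)
      exact ⟨c + d, add_mem hc' hd, by rw [← sub_sub]; exact hd'⟩
  obtain ⟨N, hN⟩ := (IsArtinianRing.isNilpotent_jacobson_bot : IsNilpotent (Ideal.jacobson (⊥ : Ideal A)))
  rw [IsLocalRing.jacobson_eq_maximalIdeal ⊥ bot_ne_top] at hN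
  refine ⟨⟨s ∪ t, ?_⟩⟩
  refine top_le_iff.1 fun a _ => ?_
  obtain ⟨c, hc, hca⟩ := hC N a
  rw [hN, Ideal.zero_eq_bot, Ideal.mem_bot, sub_eq_zero] at hca
  exact hca ▸ hc

/-- Elements of the local ring at a maximal ideal agree modulo the maximal ideal with global elements. -/
theorem exists_sub_mem_maximalIdeal {Q O : Type u} [CommRing Q] [CommRing O] [Algebra Q O] [IsLocalRing O]
    (p : Ideal Q) [p.IsMaximal] [IsLocalization.AtPrime O p] (c : O) :
    ∃ q : Q, c - algebraMap Q O q ∈ IsLocalRing.maximalIdeal O := by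
  obtain ⟨⟨a, s⟩, hs⟩ := IsLocalization.surj p.primeCompl c
  obtain ⟨y, i, hi, hy⟩ := Ideal.IsMaximal.exists_inv ‹_› s.2
  refine ⟨a * y, ?_⟩
  have hu : IsUnit (algebraMap Q O s) := IsLocalization.map_units O s
  have e : algebraMap Q O s * (c - algebraMap Q O (a * y)) = algebraMap Q O (a * i) := by
    rw [mul_sub, mul_comm, hs, ← map_mul, ← map_sub]
    congr 1
    linear_combination (-a) * hy
  have hai : algebraMap Q O (a * i) ∈ IsLocalRing.maximalIdeal O :=
    (IsLocalization.AtPrime.to_map_mem_maximal_iff O p _).2 (Ideal.mul_mem_left _ _ hi)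
  rw [← e] at hai
  exact (Ideal.unit_mul_mem_iff_mem _ hu).1 hai

/-- Small-extension lifts against maps locally of finite type give smoothness. -/
theorem smooth_of_lift (hF : IsAlgSpace F) (hG : IsAlgSpace G) (hN : IsLocNoethSp G)
    (hft : LocP @LocallyOfFiniteType f)
    (H : ∀ (B' B : Type u) [CommRing B'] [CommRing B] [IsLocalRing B'] [IsLocalRing B]
        [IsArtinianRing B'] [IsArtinianRing B] (π : B' →+* B), Function.Surjective π →
        (∃ t : B', RingHom.ker π = Ideal.span {t} ∧ ∀ a ∈ IsLocalRing.maximalIdeal B', a * t = 0) →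
        ∀ (s : Spec (CommRingCat.of B') ⟶ S)
          (α : (yon S).obj (Over.mk (Spec.map (CommRingCat.ofHom π) ≫ s)) ⟶ F)
          (β : (yon S).obj (Over.mk s) ⟶ G),
          LocP @LocallyOfFiniteType β → α ≫ f = (yon S).map (spH π s) ≫ β →
          ∃ γ, (yon S).map (spH π s) ≫ γ = α ∧ γ ≫ f = β) :
    LocP @Smooth f := by
  intro U V a b h ha hb w
  haveI : IsLocallyNoetherian V.left := AlgSpDec.isLocallyNoetherian_chart hb hN
  haveI : LocallyOfFiniteType h.left := hft a b h ha hb w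
  let O : Set U.left := {u | ∃ W : U.left.Opens, u ∈ W ∧ Smooth (W.ι ≫ h.left)}
  suffices hO : ∀ u, u ∈ O by
    choose W hW hs using hO
    exact (IsZariskiLocalAtSource.iff_of_iSup_eq_top (P := @Smooth) W
      (TopologicalSpace.Opens.ext (Set.eq_univ_of_forall fun x => by simpa using ⟨x, hW x⟩))).2 hs
  have hOo : IsOpen O := by
    rw [isOpen_iff_forall_mem_open]
    rintro u ⟨W, hu, hW⟩
    exact ⟨W, fun z hz => ⟨W, hz, hW⟩, W.2, hu⟩
  intro u₀
  obtain ⟨_, ⟨V₀, hV₀, rfl⟩, hu₀V, -⟩ :=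
    V.left.isBasis_affineOpens.exists_subset_of_mem_open (Set.mem_univ (h.left u₀)) isOpen_univ
  obtain ⟨_, ⟨U₀, hU₀, rfl⟩, hu₀U, hUV⟩ :=
    U.left.isBasis_affineOpens.exists_subset_of_mem_open (show u₀ ∈ (h.left ⁻¹ᵁ V₀ : Set U.left) from hu₀V)
      (h.left ⁻¹ᵁ V₀).2
  -- reduce to closed points of an affine open
  suffices hmax : ∀ p : PrimeSpectrum Γ(U.left, U₀), p.asIdeal.IsMaximal → hU₀.fromSpec p ∈ O by
    obtain ⟨m, hm, hle⟩ := Ideal.exists_le_maximal (hU₀.primeIdealOf ⟨u₀, hu₀U⟩).asIdeal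
      (hU₀.primeIdealOf ⟨u₀, hu₀U⟩).isPrime.ne_top
    have hsp : (hU₀.primeIdealOf ⟨u₀, hu₀U⟩) ⤳ (⟨m, hm.isPrime⟩ : PrimeSpectrum Γ(U.left, U₀)) :=
      (PrimeSpectrum.le_iff_specializes _ _).1 hle
    have := (hsp.map hU₀.fromSpec.continuous).mem_open hOo (hmax _ hm)
    rwa [hU₀.fromSpec_primeIdealOf] at this
  intro p hp
  have hpU : hU₀.fromSpec p ∈ U₀ := hU₀.range_fromSpec.le ⟨p, rfl⟩
  have hpV : h.left (hU₀.fromSpec p) ∈ V₀ := hUV hpU
  have hle : U₀ ≤ h.left ⁻¹ᵁ V₀ := hUV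
  let φ := (h.left.appLE V₀ U₀ hle).hom
  have hφ : φ.FiniteType := LocallyOfFiniteType.finiteType_appLE h.left hV₀ hU₀ hle
  refine smooth_nhd_of_lift ha hb w _ (fun _ m => LocallyOfFiniteType m.left)
    (fun A' _ _ _ hA _ I hI g₀ hc hloc hres J => ?_) fun B' B _ _ _ _ _ _ π hπ ht s α m hm _ hw =>
      H B' B π hπ ht s α ((yon S).map m ≫ b)
        (locP_of_repWith (repWith_comp ((repWith_yon_map_iff _ _).2 hm)
          (repWith_mono (fun _ _ g (_ : Etale g) => (inferInstance : LocallyOfFiniteType g)) _ hb))) hw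
  have e : (Spec.map (CommRingCat.ofHom (Ideal.Quotient.mk J)) ≫
      Spec.map (CommRingCat.ofHom hA) ≫ V.left.fromSpecStalk (h.left (hU₀.fromSpec p))) =
      Spec.map (CommRingCat.ofHom (Ideal.Quotient.mk J)) ≫
        Spec.map (V.left.presheaf.germ V₀ _ hpV ≫ CommRingCat.ofHom hA) ≫ hV₀.fromSpec := by
    rw [← hV₀.fromSpecStalk_eq_fromSpecStalk hpV, IsAffineOpen.fromSpecStalk, Spec.map_comp, Category.assoc]
  show LocallyOfFiniteType (Spec.map (CommRingCat.ofHom (Ideal.Quotient.mk J)) ≫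
      Spec.map (CommRingCat.ofHom hA) ≫ V.left.fromSpecStalk (h.left (hU₀.fromSpec p)))
  rw [e]
  haveI : IsClosedImmersion (Spec.map (CommRingCat.ofHom (Ideal.Quotient.mk J))) :=
    IsClosedImmersion.spec_of_surjective _ Ideal.Quotient.mk_surjective
  suffices (V.left.presheaf.germ V₀ _ hpV ≫ CommRingCat.ofHom hA).hom.FiniteType by
    haveI : LocallyOfFiniteType (Spec.map (V.left.presheaf.germ V₀ _ hpV ≫ CommRingCat.ofHom hA)) :=
      (HasRingHomProperty.Spec_iff (P := @LocallyOfFiniteType)).2 this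
    infer_instance
  let ρ : Γ(V.left, V₀) →+* A' := (V.left.presheaf.germ V₀ _ hpV ≫ CommRingCat.ofHom hA).hom
  let gQ : Γ(U.left, U₀) →+* A' ⧸ I := g₀.comp (U.left.presheaf.germ U₀ _ hpU).hom
  have hQ : gQ.comp φ = (Ideal.Quotient.mk I).comp ρ := by
    refine RingHom.ext fun r => ?_
    have e2 : (h.left.appLE V₀ U₀ hle ≫ U.left.presheaf.germ U₀ _ hpU) =
        V.left.presheaf.germ V₀ _ hpV ≫ h.left.stalkMap (hU₀.fromSpec p) := by
      rw [Scheme.Hom.germ_stalkMap, Scheme.Hom.appLE, Category.assoc, TopCat.Presheaf.germ_res]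
    exact (congrArg g₀ (RingHom.congr_fun (congrArg CommRingCat.Hom.hom e2) r)).trans (RingHom.congr_fun hc _)
  letI : Algebra Γ(V.left, V₀) A' := ρ.toAlgebra
  letI : Algebra Γ(V.left, V₀) Γ(U.left, U₀) := φ.toAlgebra
  haveI : Algebra.FiniteType Γ(V.left, V₀) Γ(U.left, U₀) := hφ
  obtain ⟨T, hT⟩ := (inferInstance : Algebra.FiniteType Γ(V.left, V₀) Γ(U.left, U₀)).out
  classical
  choose lift hlift using fun q : Γ(U.left, U₀) => Ideal.Quotient.mk_surjective (gQ q)
  refine (finiteType_of_residue (R := Γ(V.left, V₀)) (A := A') (T.image lift) fun a => ?_ :)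
  have hmem : ∀ q, ∃ c ∈ Algebra.adjoin Γ(V.left, V₀) ((T.image lift : Finset A') : Set A'),
      Ideal.Quotient.mk I c = gQ q := by
    intro q
    have hq : q ∈ Algebra.adjoin Γ(V.left, V₀) (T : Set Γ(U.left, U₀)) := hT ▸ Algebra.mem_top
    induction hq using Algebra.adjoin_induction with
    | mem q hq => exact ⟨lift q, Algebra.subset_adjoin (by simp only [Finset.coe_image]; exact ⟨q, hq, rfl⟩), hlift q⟩
    | algebraMap r => exact ⟨algebraMap _ A' r, Subalgebra.algebraMap_mem _ r, (RingHom.congr_fun hQ r).symm⟩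
    | add x y _ _ hx hy =>
      obtain ⟨c, hc, hc'⟩ := hx
      obtain ⟨d, hd, hd'⟩ := hy
      exact ⟨c + d, add_mem hc hd, by rw [map_add, hc', hd', map_add]⟩
    | mul x y _ _ hx hy =>
      obtain ⟨c, hc, hc'⟩ := hx
      obtain ⟨d, hd, hd'⟩ := hy
      exact ⟨c * d, mul_mem hc hd, by rw [map_mul, hc', hd', map_mul]⟩
  obtain ⟨c, hc1⟩ := hres a
  letI : Algebra Γ(U.left, U₀) (U.left.presheaf.stalk (hU₀.fromSpec p)) :=
    (U.left.presheaf.germ U₀ _ hpU).hom.toAlgebra
  haveI : IsLocalization.AtPrime (U.left.presheaf.stalk (hU₀.fromSpec p)) p.asIdeal :=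
    hU₀.isLocalization_stalk' p hpU
  obtain ⟨q, hq⟩ := exists_sub_mem_maximalIdeal (O := U.left.presheaf.stalk (hU₀.fromSpec p)) p.asIdeal c
  obtain ⟨d, hd, hd'⟩ := hmem q
  refine ⟨d, hd, ?_⟩
  have key : Ideal.Quotient.mk I (a - d) ∈ (IsLocalRing.maximalIdeal A').map (Ideal.Quotient.mk I) := by
    have h2 : g₀ c - gQ q ∈ (IsLocalRing.maximalIdeal A').map (Ideal.Quotient.mk I) := by
      have := hloc _ hq
      rw [map_sub] at this
      exact this
    rw [map_sub, hd', show Ideal.Quotient.mk I a - gQ q = (g₀ c - gQ q) - (g₀ c - Ideal.Quotient.mk I a) by ring]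
    exact sub_mem h2 hc1
  rw [← Ideal.mem_comap, Ideal.comap_map_of_surjective _ Ideal.Quotient.mk_surjective,
    ← RingHom.ker_eq_comap_bot, Ideal.mk_ker, sup_eq_left.2 (IsLocalRing.le_maximalIdeal hI)] at key
  exact key

end Groth.Agent.Dsp6.SmoothLift
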