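import Groth.Agent.AlgSpQ4.Elementary
import Groth.Agent.Dsp6.Filtration
import Groth.Agent.AlgSpDec.LqfScheme
import Groth.Agent.DescLib.SepSurj

/-!
# Stratification of quasi-compact spaces by unordered tuples of points of an affine atlas
-/

set_option autoImplicit false
set_option maxHeartbeats 400000
set_option backward.isDefEq.respectTransparency false
set_option backward.isDefEq.respectTransparency.types false

universe u

open CategoryTheory CategoryTheory.Limits AlgebraicGeometry AlgSp Topology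
open Groth.Agent.AlgSpLib Groth.Agent.AlgSpPts Groth.Agent.AlgSpDec Groth.Agent.AlgSpQ4

namespace Groth.Agent.Dsp6.TupleStrata

variable {S : Scheme.{u}} {X : Sp S} {U : Over S} {a : (yon S).obj U ⟶ X}

/-- Points lying under tuples of `n + 1` distinct points. -/
def locus {n : ℕ} (D : TupleSpace a n) : Set (Points X) :=
  Set.range (Points.ofPt ((yon S).map (D.x 0) ≫ a))

theorem isOpen_locus (ha : RepWith @Etale a) {n : ℕ} (D : TupleSpace a n) : IsOpen (locus D) :=
  (isOpenMap_ofPt (repWith_comp ((repWith_yon_map_iff _ _).2 D.etale₀) ha)).isOpen_range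

theorem mem_locus_of_tuple {n : ℕ} (D : TupleSpace a n) {T : Over S} (y : Fin (n + 1) → (T ⟶ U)) (hy : Compat a y)
    (hd : PtDistinct y) (t : T.left) : Points.ofPt ((yon S).map (y 0) ≫ a) t ∈ locus D := by
  obtain ⟨l, hl⟩ := D.lift y hy hd
  exact ⟨l.left t, (ofPt_comp l _ t).symm.trans (by rw [← hl, Functor.map_comp, Category.assoc])⟩

theorem locus_antitone {n : ℕ} (D : TupleSpace a n) (D' : TupleSpace a (n + 1)) : locus D' ⊆ locus D := by
  rintro _ ⟨p, rfl⟩
  refine mem_locus_of_tuple D (fun i => D'.x i.castSucc) (fun i => (D'.compat _).trans ?_)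
    (fun z i j hij => D'.distinct z _ _ fun e => hij (Fin.castSucc_injective _ e)) p
  exact (D'.compat (Fin.castSucc 0)).symm

theorem locus_zero (has : RepWith @Surjective a) (D : TupleSpace a 0) : locus D = Set.univ := by
  refine Set.eq_univ_of_forall fun x => ?_
  obtain ⟨u, rfl⟩ := surjective_ofPt has x
  have := mem_locus_of_tuple D (fun _ => 𝟙 U) (fun _ => rfl)
    (fun z i j hij => absurd (Subsingleton.elim (α := Fin 1) i j) hij) u
  rwa [CategoryTheory.Functor.map_id, Category.id_comp] at this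

/-- Unordered tuples of distinct points of an affine chart form a separated scheme, etale over the space. -/
theorem exists_scheme (hX : IsAlgSpace X) (ha : RepWith @Etale a) [IsAffine U.left] {n : ℕ} (D : TupleSpace a n) :
    ∃ (V : Over S) (π : D.P ⟶ V) (m : (yon S).obj V ⟶ X), V.left.IsSeparated ∧ Etale π.left ∧ Surjective π.left ∧
      RepWith @Etale m ∧ (yon S).map π ≫ m = (yon S).map (D.x 0) ≫ a ∧
      ∀ {T : Over S} (l l' : T ⟶ D.P) (g : Equiv.Perm (Fin (n + 1))),
        (∀ i, l ≫ D.x i = l' ≫ D.x (g i)) → l ≫ π = l' ≫ π := by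
  haveI := D.etale₀
  haveI := D.sep₀
  obtain ⟨V, ⟨e⟩⟩ := exists_rep_of_points D.algSpace fun x => by
    obtain ⟨v, rfl⟩ := surjective_ofPt D.surj x
    obtain ⟨W, hW, hWsub⟩ := AlgSpDec.exists_affineOpen_of_finite (D.x 0).left (D.finite_fibre v)
    obtain ⟨T, j, hj, q, hq⟩ :=
      exists_open_subscheme_of_affine_class D.algSpace D.π D.etale D.finite D.surj hW v hWsub
    obtain ⟨q, rfl⟩ := (Points.schemeHomeo T).surjective q
    exact ⟨T, j, q, hj, (Points.ofPt_eq_map_ofScheme j q).trans hq⟩
  obtain ⟨π, hπ⟩ := (yon S).map_surjective (D.π ≫ e.inv)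
  have hπe : RepWith @Etale ((yon S).map π) := hπ ▸ MorphismProperty.RespectsIso.postcomp _ e.inv _ D.etale
  have hπf : RepWith @IsFinite ((yon S).map π) := hπ ▸ MorphismProperty.RespectsIso.postcomp _ e.inv _ D.finite
  have hπs : RepWith @Surjective ((yon S).map π) := hπ ▸ MorphismProperty.RespectsIso.postcomp _ e.inv _ D.surj
  haveI : Etale π.left := (repWith_yon_map_iff _ π).1 hπe
  haveI : IsFinite π.left := (repWith_yon_map_iff _ π).1 hπf
  haveI : Surjective π.left := (repWith_yon_map_iff _ π).1 hπs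
  have hm : (yon S).map π ≫ e.hom ≫ D.ψ = (yon S).map (D.x 0) ≫ a := by
    rw [hπ, Category.assoc, e.inv_hom_id_assoc, D.π_ψ]
  refine ⟨V, π, e.hom ≫ D.ψ, ?_, inferInstance, inferInstance, repWith_etale_of_precomp hX π _
    (hm.symm ▸ repWith_comp ((repWith_yon_map_iff _ _).2 D.etale₀) ha), hm, fun l l' g h => ?_⟩
  · haveI : IsSeparated (π.left ≫ terminal.from V.left) := by
      rw [terminal.hom_ext (π.left ≫ terminal.from V.left) ((D.x 0).left ≫ terminal.from U.left)]
      infer_instance
    exact ⟨DescLib.isSeparated_of_comp_surjective π.left (terminal.from V.left)⟩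
  · refine (yon S).map_injective ?_
    rw [Functor.map_comp, Functor.map_comp, hπ, ← Category.assoc, ← Category.assoc, D.perm l l' g h]

/-- Agreement of two compatible points is open. -/
theorem exists_nhd_eq (ha : RepWith @Etale a) [IsAffine U.left] {T : Over S} (y y' : T ⟶ U)
    (h : (yon S).map y ≫ a = (yon S).map y' ≫ a) (z : T.left) (hz : resι z ≫ y = resι z ≫ y') :
    ∃ O : T.left.Opens, z ∈ O ∧ O.ι ≫ y.left = O.ι ≫ y'.left := by
  obtain ⟨δ, hδ₁, hδ₂, hδo, -⟩ := exists_diag ha
  have sqR := ha.rep.isPullback' a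
  obtain ⟨r, hr₁, hr₂⟩ := exists_rel_lift sqR y y' h
  have e : (resι z ≫ y) ≫ δ = resι z ≫ r := (yon S).map_injective (sqR.hom_ext
    (by rw [← Functor.map_comp, ← Functor.map_comp, Category.assoc, hδ₁, Category.comp_id, Category.assoc, hr₁])
    (by rw [← Functor.map_comp, ← Functor.map_comp, Category.assoc, hδ₂, Category.comp_id, Category.assoc, hr₂, hz]))
  let p₀ : (resPt z).left := IsLocalRing.closedPoint (T.left.residueField z)
  refine ⟨r.left ⁻¹ᵁ δ.left.opensRange, ⟨y.left z, ?_⟩, ?_⟩
  · have := congrArg (fun m => m.left p₀) e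
    simp only [Over.comp_left, Scheme.Hom.comp_apply] at this
    rw [resι_apply] at this
    exact this
  · have hsub : Set.range ((r.left ⁻¹ᵁ δ.left.opensRange).ι ≫ r.left) ⊆ Set.range δ.left := by
      rintro _ ⟨t, rfl⟩
      exact t.2
    have hfac := IsOpenImmersion.lift_fac δ.left _ hsub
    have h₁ := congrArg (· ≫ (ha.rep.fst' a).left) hfac
    have h₂ := congrArg (· ≫ (ha.rep.snd a).left) hfac
    simp only [Category.assoc, ← Over.comp_left, hr₁, hr₂, hδ₁, hδ₂] at h₁ h₂
    exact h₁.symm.trans h₂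

/-- Outside the next locus, two tuples over the same point agree up to order near each point. -/
theorem exists_perm (ha : RepWith @Etale a) [IsAffine U.left] {n : ℕ} (D : TupleSpace a n)
    (D' : TupleSpace a (n + 1)) {T : Over S} (l l' : T ⟶ D.P)
    (h : (yon S).map (l ≫ D.x 0) ≫ a = (yon S).map (l' ≫ D.x 0) ≫ a) (z : T.left)
    (hz : Points.ofPt ((yon S).map (l ≫ D.x 0) ≫ a) z ∉ locus D') :
    ∃ (O : T.left.Opens) (g : Equiv.Perm (Fin (n + 1))), z ∈ O ∧
      ∀ i, O.ι ≫ (l ≫ D.x i).left = O.ι ≫ (l' ≫ D.x (g i)).left := by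
  have hc : ∀ m : T ⟶ D.P, ∀ i, (yon S).map (m ≫ D.x i) ≫ a = (yon S).map (m ≫ D.x 0) ≫ a := fun m i => by
    rw [Functor.map_comp, Functor.map_comp, Category.assoc, Category.assoc, D.compat i]
  let p₀ : (resPt z).left := IsLocalRing.closedPoint (T.left.residueField z)
  have hd := D.distinct.comp (resι z ≫ l')
  have hd' := D.distinct.comp (resι z ≫ l)
  -- every component of the first tuple is a component of the second one
  have hex : ∀ i, ∃ j, resι z ≫ l ≫ D.x i = resι z ≫ l' ≫ D.x j := by
    intro i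
    by_contra hne
    simp only [not_exists] at hne
    let y : Fin (n + 2) → (resPt z ⟶ U) :=
      Fin.snoc (fun j => resι z ≫ l' ≫ D.x j) (resι z ≫ l ≫ D.x i)
    have hy0 : y 0 = resι z ≫ l' ≫ D.x 0 := by
      rw [show (0 : Fin (n + 2)) = Fin.castSucc 0 from rfl]; simp [y]
    have hyc : Compat a y := fun k => by
      rw [hy0]
      induction k using Fin.lastCases with
      | last => simp only [y, Fin.snoc_last, Functor.map_comp (yon S) (resι z), Category.assoc, hc l i, h]
      | cast k => simp only [y, Fin.snoc_castSucc, Functor.map_comp (yon S) (resι z), Category.assoc, hc l' k]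
    have hyd : PtDistinct y := fun w k m hkm e => by
      have := epi_fldPt_hom (k := T.left.residueField z) (resι w)
      have e' : y k = y m := (cancel_epi (resι w)).1 e
      induction k using Fin.lastCases with
      | last =>
        induction m using Fin.lastCases with
        | last => exact hkm rfl
        | cast m => exact hne m (by simpa [y] using e')
      | cast k =>
        induction m using Fin.lastCases with
        | last => exact hne k (by simpa [y] using e'.symm)
        | cast m =>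
          refine hd w k m (fun q => hkm (congrArg _ q)) ?_
          simp only [Category.assoc]
          simpa [y] using e
    refine hz ?_
    have := mem_locus_of_tuple D' y hyc hyd p₀
    rwa [hy0, Functor.map_comp (yon S) (resι z), Category.assoc, ofPt_comp, resι_apply, ← h] at this
  choose g hg using hex
  have hinj : Function.Injective g := fun i j e => by
    by_contra hij
    refine hd' p₀ i j hij ?_
    simp only [Category.assoc]
    rw [hg, hg, e]
  let σ : Equiv.Perm (Fin (n + 1)) := Equiv.ofBijective g (Finite.injective_iff_bijective.1 hinj)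
  choose O hzO hO using fun i => exists_nhd_eq ha (l ≫ D.x i) (l' ≫ D.x (σ i))
    ((hc l i).trans (h.trans (hc l' _).symm)) z (hg i)
  refine ⟨⟨⋂ i, (O i : Set T.left), isOpen_iInter_of_finite fun i => (O i).2⟩, σ, Set.mem_iInter.2 hzO, fun i => ?_⟩
  have hle : (⟨⋂ i, (O i : Set T.left), isOpen_iInter_of_finite fun i => (O i).2⟩ : T.left.Opens) ≤ O i :=
    Set.iInter_subset (fun i => (O i : Set T.left)) i
  rw [← Scheme.homOfLE_ι _ hle, Category.assoc, Category.assoc, hO]

/-- Outside the next locus, the scheme of unordered tuples has no double values. -/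
theorem eq_of_notMem (ha : RepWith @Etale a) [IsAffine U.left] {n : ℕ} (D : TupleSpace a n)
    (D' : TupleSpace a (n + 1)) {V : Over S} {π : D.P ⟶ V} [Etale π.left] [Surjective π.left]
    {m : (yon S).obj V ⟶ X} (hm : (yon S).map π ≫ m = (yon S).map (D.x 0) ≫ a)
    (hperm : ∀ {T : Over S} (l l' : T ⟶ D.P) (g : Equiv.Perm (Fin (n + 1))),
      (∀ i, l ≫ D.x i = l' ≫ D.x (g i)) → l ≫ π = l' ≫ π)
    {Z : Over S} (y y' : Z ⟶ V) (h : (yon S).map y ≫ m = (yon S).map y' ≫ m)
    (hz : ∀ z, Points.ofPt ((yon S).map y ≫ m) z ∉ locus D') : y = y' := by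
  let Z₁ := pullback y π
  let p₁ : Z₁ ⟶ Z := pullback.fst y π
  let l₁ : Z₁ ⟶ D.P := pullback.snd y π
  let Z₂ := pullback (p₁ ≫ y') π
  let p₂ : Z₂ ⟶ Z₁ := pullback.fst (p₁ ≫ y') π
  let l' : Z₂ ⟶ D.P := pullback.snd (p₁ ≫ y') π
  let l : Z₂ ⟶ D.P := p₂ ≫ l₁
  let p : Z₂ ⟶ Z := p₂ ≫ p₁
  have sq₁ := ((IsPullback.of_hasPullback y π).map (Over.forget S)).flip
  have sq₂ := ((IsPullback.of_hasPullback (p₁ ≫ y') π).map (Over.forget S)).flip
  haveI : Etale ((Over.forget S).map π) := ‹Etale π.left›
  haveI : Surjective ((Over.forget S).map π) := ‹Surjective π.left›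
  haveI : Etale p₁.left := MorphismProperty.of_isPullback (P := @Etale) sq₁ inferInstance
  haveI : Surjective p₁.left := MorphismProperty.of_isPullback (P := @Surjective) sq₁ inferInstance
  haveI : Etale p₂.left := MorphismProperty.of_isPullback (P := @Etale) sq₂ inferInstance
  haveI : Surjective p₂.left := MorphismProperty.of_isPullback (P := @Surjective) sq₂ inferInstance
  haveI : Etale p.left := inferInstanceAs (Etale (p₂.left ≫ p₁.left))
  haveI : Surjective p.left := inferInstanceAs (Surjective (p₂.left ≫ p₁.left))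
  have hl : l ≫ π = p ≫ y := by
    simp only [l, p, Category.assoc]; rw [show l₁ ≫ π = p₁ ≫ y from pullback.condition.symm]
  have hl' : l' ≫ π = p ≫ y' := pullback.condition.symm.trans (Category.assoc _ _ _).symm
  have key : ∀ (q : Z₂ ⟶ D.P) (w : Z ⟶ V), q ≫ π = p ≫ w →
      (yon S).map (q ≫ D.x 0) ≫ a = (yon S).map p ≫ (yon S).map w ≫ m := fun q w e => by
    rw [Functor.map_comp, Category.assoc, ← hm, ← Functor.map_comp_assoc, e, Functor.map_comp, Category.assoc]
  have hll : (yon S).map (l ≫ D.x 0) ≫ a = (yon S).map (l' ≫ D.x 0) ≫ a := by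
    rw [key l y hl, key l' y' hl', h]
  suffices e : l ≫ π = l' ≫ π by
    rw [hl, hl'] at e
    haveI : Epi ((yon S).map p) := epi_of_etale_surjective ((repWith_yon_map_iff _ p).2 ‹Etale p.left›)
      ((repWith_yon_map_iff _ p).2 ‹Surjective p.left›)
    exact (yon S).map_injective ((cancel_epi ((yon S).map p)).1
      (by rw [← Functor.map_comp, ← Functor.map_comp, e]))
  choose O g hzO hO using fun w => exists_perm ha D D' l l' hll w (by
    rw [key l y hl, ofPt_comp]; exact hz _)
  refine Over.OverMorphism.ext (Scheme.Cover.hom_ext (Z₂.left.openCoverOfIsOpenCover O (by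
    rw [TopologicalSpace.IsOpenCover, eq_top_iff]
    exact fun w _ => TopologicalSpace.Opens.mem_iSup.2 ⟨w, hzO w⟩)) _ _ fun w => ?_)
  have := hperm (Over.homMk (O w).ι rfl ≫ l : Over.mk ((O w).ι ≫ Z₂.hom) ⟶ D.P) (Over.homMk (O w).ι rfl ≫ l') (g w)
    fun i => Over.OverMorphism.ext (by
      simp only [Over.comp_left, Category.assoc, Over.homMk_left]; exact hO w i)
  have := congrArg (fun t => t.left) this
  simpa [Over.comp_left] using this

/-- Each quasi-compact field point lies outside some locus. -/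
theorem exists_notMem [IsAffine U.left] (ha : RepWith @Etale a) (D : ∀ n, TupleSpace a n) (q : FieldPt X)
    (hq : RepWith @QuasiCompact q.toHom) : ∃ n, Points.mk q ∉ locus (D n) := by
  let σ := q.str
  let z : (yon S).obj (fldPt σ) ⟶ X := q.toHom
  let A := ha.rep.pullback z
  let r : A ⟶ U := ha.rep.fst' z
  let qA : A ⟶ fldPt σ := ha.rep.snd z
  have sqA : IsPullback ((yon S).map r) ((yon S).map qA) a z := ha.rep.isPullback' z
  haveI : Etale qA.left := ha.property_snd z
  haveI : QuasiCompact r.left := hq.property _ _ _ sqA.flip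
  haveI : CompactSpace A.left := QuasiCompact.compactSpace_of_compactSpace r.left
  haveI : DiscreteTopology A.left := discreteTopology_of_lqf_field (k := q.K) qA.left
  haveI : Finite A.left := finite_of_compact_of_discrete
  let Em := {φ : acPt σ ⟶ A // φ ≫ qA = acι σ}
  haveI : Finite Em := by
    haveI : ∀ w : A.left, Finite {φ : acPt σ ⟶ resPt w // φ ≫ resι w ≫ qA = acι σ} := fun w =>
      haveI := locallyOfFiniteType_resι_comp qA w
      (finite_nonempty_emb (τ := A.left.fromSpecResidueField w ≫ A.hom) (resι w ≫ qA)).1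
    refine Finite.of_surjective
      (fun t : Σ w : A.left, {φ : acPt σ ⟶ resPt w // φ ≫ resι w ≫ qA = acι σ} =>
        (⟨t.2.1 ≫ resι t.1, by rw [Category.assoc]; exact t.2.2⟩ : Em)) fun φ => ?_
    obtain ⟨l, hl⟩ := exists_factor_resι φ.1 _ rfl
    exact ⟨⟨_, ⟨l, by rw [← Category.assoc, hl]; exact φ.2⟩⟩, Subtype.ext hl⟩
  refine ⟨Nat.card Em, fun hmem => ?_⟩
  set N := Nat.card Em with hN
  let DN := D N
  obtain ⟨v, hv⟩ := hmem
  let c : (yon S).obj DN.P ⟶ X := (yon S).map (DN.x 0) ≫ a
  have hc : RepWith @Etale c := repWith_comp ((repWith_yon_map_iff _ _).2 DN.etale₀) ha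
  let B := hc.rep.pullback z
  let qB : B ⟶ fldPt σ := hc.rep.snd z
  let rB : B ⟶ DN.P := hc.rep.fst' z
  have sqB : IsPullback ((yon S).map rB) ((yon S).map qB) c z := hc.rep.isPullback' z
  haveI : Etale qB.left := hc.property_snd z
  obtain ⟨b, -, -⟩ := exists_ofPt_of_eq sqB (hv.trans (mk_eq_ofPt q))
  haveI := locallyOfFiniteType_resι_comp qB b
  obtain ⟨⟨φ, hφ⟩⟩ := (finite_nonempty_emb (τ := B.left.fromSpecResidueField b ≫ B.hom) (resι b ≫ qB)).2
  have hex : ∀ i, ∃ ψ : acPt σ ⟶ A, ψ ≫ r = φ ≫ resι b ≫ rB ≫ DN.x i ∧ ψ ≫ qA = acι σ := fun i =>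
    exists_lift_yon sqA _ _ (by
      rw [← hφ]
      simp only [Functor.map_comp, Category.assoc]
      rw [DN.compat i, show (yon S).map (DN.x 0) ≫ a = c from rfl, sqB.w])
  choose ψ hψ₁ hψ₂ using hex
  have hinj : Function.Injective fun i => (⟨ψ i, hψ₂ i⟩ : Em) := fun i j e => by
    by_contra hij
    have e₁ : ψ i ≫ r = ψ j ≫ r := congrArg (fun t : Em => t.1 ≫ r) e
    rw [hψ₁, hψ₁] at e₁
    have hd := DN.distinct.comp (φ ≫ resι b ≫ rB)
    refine hd (IsLocalRing.closedPoint (AlgebraicClosure q.K)) i j hij ?_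
    simp only [Category.assoc]
    rw [e₁]
  have := Nat.card_le_card_of_injective _ hinj
  rw [Nat.card_fin] at this
  exact Nat.not_succ_le_self N this

theorem exists_filtration (X : Space S) (hqc : IsQuasiCompactSp X.obj) :
    ∃ (Uo : ℕ → Space S) (j : ∀ p, Uo p ⟶ X) (k : ∀ p, Uo (p + 1) ⟶ Uo p)
      (T : ℕ → Space S) (i : ∀ p, T p ⟶ Uo p),
      (∀ p, RepWith @IsOpenImmersion (j p).hom) ∧ (∀ p, k p ≫ j p = j (p + 1)) ∧ IsIso (j 1) ∧
      (∀ p, IsRedInduced (Set.range (Points.map (k p).hom))ᶜ (i p).hom) ∧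
      (∀ p, 1 ≤ p → ∃ (V : Over S) (f : (yon S).obj V ⟶ (Uo p).obj), V.left.IsSeparated ∧
        RepWith @Etale f ∧ RepWith @Surjective f ∧
        ∀ (P : Sp S) (fst : P ⟶ (T p).obj) (snd : P ⟶ (yon S).obj V),
          IsPullback fst snd (i p).hom f → IsIso fst) ∧
      (∀ x : Points X.obj, (∃ q : FieldPt X.obj, Points.mk q = x ∧ RepWith @QuasiCompact q.toHom) →
        ∃ p, 1 ≤ p ∧ x ∈ Set.range (Points.map ((i p) ≫ (j p)).hom)) := by
  classical
  obtain ⟨U₀, a, hU₀, hae, has⟩ := CartierRegular.exists_affine_atlas X.property hqc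
  choose D hD using fun n : ℕ => (⟨Classical.choice (exists_tupleSpace hae n), trivial⟩ :
    ∃ D : TupleSpace a n, True)
  let O : ℕ → Set (Points X.obj) := fun p => if p = 0 then Set.univ else locus (D (p - 1))
  have hOs : ∀ n, O (n + 1) = locus (D n) := fun n => rfl
  have hO : ∀ p, IsOpen (O p) := fun p => by
    rcases p with _ | n
    · exact isOpen_univ
    · exact isOpen_locus hae _
  have hmono : ∀ p, O (p + 1) ⊆ O p := fun p => by
    rcases p with _ | n
    · exact Set.subset_univ _
    · exact locus_antitone _ _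
  have h1 : O 1 = Set.univ := locus_zero has _
  choose Uo j hU hj hjr using fun p => exists_open_subspace X.property (hO p)
  choose k hk using fun p => exists_factor_sub (f := j (p + 1)) X.property (hU p) (hU (p + 1)) (hj p)
    (by rw [hjr, hjr]; exact hmono p)
  have hkr : ∀ p, Set.range (Points.map (k p)) = Points.map (j p) ⁻¹' O (p + 1) := fun p => by
    ext x
    constructor
    · rintro ⟨y, rfl⟩
      rw [Set.mem_preimage, ← Points.map_comp, hk, ← hjr]
      exact ⟨y, rfl⟩
    · intro hx
      obtain ⟨y, hy⟩ := (hjr (p + 1)).symm.subset hx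
      refine ⟨y, (isEmbedding_map_openImm X.property (hj p)).injective ?_⟩
      rw [← Points.map_comp, hk, hy]
  choose T i hi using fun p => exists_reduced_induced (hU p)
    (T := (Set.range (Points.map (k p)))ᶜ)
    (by rw [isClosed_compl_iff, hkr]; exact (hO (p + 1)).preimage (Points.continuous_map _))
  refine ⟨fun p => ⟨Uo p, hU p⟩, fun p => ObjectProperty.homMk (j p), fun p => ObjectProperty.homMk (k p), T,
    fun p => ObjectProperty.homMk (i p), hj, fun p => ObjectProperty.hom_ext _ (hk p), ?_, hi, fun p hp => ?_,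
    fun x ⟨q, hqx, hq⟩ => ?_⟩
  · haveI : IsIso (j 1) := isIso_of_openImm_surjective X.property (hj 1) fun x =>
      (hjr 1).symm.subset (h1.symm ▸ Set.mem_univ x)
    haveI : IsIso ((ObjectProperty.ι _).map (ObjectProperty.homMk (j 1) : (⟨Uo 1, hU 1⟩ : Space S) ⟶ X)) :=
      inferInstanceAs (IsIso (j 1))
    exact isIso_of_reflects_iso _ (ObjectProperty.ι _)
  · obtain ⟨n, rfl⟩ : ∃ n, p = n + 1 := ⟨p - 1, by omega⟩
    haveI : Mono (j (n + 1)) := AlgSpDec.mono_of_openImmersion (hj (n + 1))
    obtain ⟨V, π, m, hVs, hπe, hπs, hme, hm, hperm⟩ := exists_scheme X.property hae (D n)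
    obtain ⟨f, hf⟩ := exists_factor_sub X.property (hU (n + 1)) (IsAlgSpace.yon_obj V) (hj (n + 1)) m (by
      rintro _ ⟨v, rfl⟩
      obtain ⟨v, rfl⟩ := (Points.schemeHomeo V).surjective v
      rw [hjr, hOs]
      obtain ⟨w, rfl⟩ := π.left.surjective v
      exact ⟨w, by rw [← hm, ofPt_comp]; exact Points.ofPt_eq_map_ofScheme m _⟩)
    have hfe : RepWith @Etale f := repWith_of_comp_mono f (j (n + 1)) (hf.symm ▸ hme)
    have hfs : Function.Surjective (Points.ofPt f) := fun x => by
      obtain ⟨w, hw⟩ : Points.map (j (n + 1)) x ∈ locus (D n) := (hjr (n + 1)).subset ⟨x, rfl⟩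
      refine ⟨π.left w, (isEmbedding_map_openImm X.property (hj (n + 1))).injective ?_⟩
      rw [Points.map_ofPt, hf, ← ofPt_comp, hm, ← hw]
    refine ⟨V, f, hVs, hfe, repWith_surjective_of_surjective hfe.rep fun x => ?_, fun P fst snd sq => ?_⟩
    · obtain ⟨v, rfl⟩ := hfs x
      exact ⟨_, (Points.ofPt_eq_map_ofScheme f v).symm⟩
    refine isIso_fst_of_uniqueLift (hU (n + 1)) (T (n + 1)).property hfe sq (fun x _ => hfs x) fun Z y y' h hz => ?_
    refine eq_of_notMem hae (D n) (D (n + 1)) hm hperm y y' (by rw [← hf, ← Category.assoc, h, Category.assoc]) fun w => ?_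
    have hmem := hz w
    erw [(hi (n + 1)).2.1] at hmem
    rw [Set.mem_compl_iff, hkr, Set.mem_preimage, Points.map_ofPt, Category.assoc, hf] at hmem
    exact hmem
  · have hex : ∃ n, x ∉ O (n + 1) := by
      obtain ⟨n, hn⟩ := exists_notMem hae D q hq
      exact ⟨n, hqx ▸ hn⟩
    have hfind := Nat.find_spec hex
    have hpos : 1 ≤ Nat.find hex := by
      rw [Nat.one_le_iff_ne_zero]
      intro h0
      rw [h0] at hfind
      exact hfind (h1.symm ▸ Set.mem_univ x)
    refine ⟨_, hpos, ?_⟩
    have hin : x ∈ O (Nat.find hex) := by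
      have := Nat.find_min hex (show Nat.find hex - 1 < Nat.find hex by omega)
      rw [not_not, show Nat.find hex - 1 + 1 = Nat.find hex by omega] at this
      exact this
    obtain ⟨w, hw⟩ := (hjr _).symm.subset hin
    have hwT : w ∈ (Set.range (Points.map (k (Nat.find hex))))ᶜ := by
      rw [Set.mem_compl_iff, hkr, Set.mem_preimage, hw]; exact hfind
    obtain ⟨t, ht⟩ := (hi _).2.1.symm.subset hwT
    exact ⟨t, by show Points.map (i _ ≫ j _) t = x; rw [Points.map_comp, ht, hw]⟩

end Groth.Agent.Dsp6.TupleStrata
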