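import Groth.Agent.AlgSpDec.FppfLqf
import Groth.Agent.AlgSpDec.LimOpen
import Groth.Agent.AlgSpDec.LqfScheme
import Groth.Agent.AlgSpPts.UnivClosed
import Groth.Agent.Dsp6.FiniteNhd
import Groth.Agent.AlgSpPts.Misc
import Groth.Agent.S10621
import Mathlib.AlgebraicGeometry.ZariskisMainTheorem

/-!
# Unramified monomorphisms and closed immersions of algebraic spaces
-/

set_option autoImplicit false
set_option backward.isDefEq.respectTransparency false
set_option backward.isDefEq.respectTransparency.types false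

universe u

open CategoryTheory CategoryTheory.Limits AlgebraicGeometry AlgSp Groth.Agent.AlgSpLib Groth.Agent.AlgSpPts
open Groth.Agent.AlgSpDec

namespace Groth.Agent.Dsp6

variable {S : Scheme.{u}} {F G : Sp S} {f : F ⟶ G}

theorem locP_unram_iff :
    LocP (@LocallyOfFiniteType ⊓ @FormallyUnramified) f ↔ LocP @LocallyOfFiniteType f ∧ LocP @FormallyUnramified f :=
  ⟨fun h => ⟨fun U V a b k ha hb w => (h a b k ha hb w).1, fun U V a b k ha hb w => (h a b k ha hb w).2⟩,
    fun h U V a b k ha hb w => ⟨h.1 a b k ha hb w, h.2 a b k ha hb w⟩⟩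

theorem isFormallyUnramifiedMor_of_mono [Mono f] : IsFormallyUnramifiedMor f := by
  intro sq l l' _ h₁ _ h₂
  exact (cancel_mono f).1 (h₁.trans h₂.symm)

theorem isUnivInjectiveMor_of_mono [Mono f] : IsUnivInjectiveMor f := by
  intro W W' hW k fst snd sq
  haveI : Mono snd :=
    MorphismProperty.of_isPullback (P := MorphismProperty.monomorphisms (Sp S)) sq (inferInstanceAs (Mono f))
  exact injective_points_map_of_mono snd

theorem etale_of_comp_unram {X Y Z : Scheme.{u}} (a : X ⟶ Y) (b : Y ⟶ Z) (h : Etale (a ≫ b))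
    (hb : LocallyOfFiniteType b ∧ FormallyUnramified b) : Etale a := by
  obtain ⟨_, _⟩ := hb
  exact AlgSpLib.of_comp_of_diagonal @Etale a b h (inferInstanceAs (Etale (pullback.diagonal b)))

theorem locP_etale_diagonal (hF : IsAlgSpace F) (hG : IsAlgSpace G)
    (hf : LocP (@LocallyOfFiniteType ⊓ @FormallyUnramified) f) : LocP @Etale (pullback.diagonal f) := by
  refine locP_of_comp' (P := @Etale) (Q := (@LocallyOfFiniteType ⊓ @FormallyUnramified : MorphismProperty Scheme.{u}))
    (fun a b h hb => etale_of_comp_unram a b h hb) hF (g := pullback.fst f f) ?_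
    (locP_of_isPullback (IsPullback.of_hasPullback f f).flip hF hG hF hf)
  rw [pullback.diagonal_fst]
  exact locP_of_repWith (repWith_of_isIso @Etale (𝟙 F))

theorem surjective_diagonal_of_univInjective (hF : IsAlgSpace F) (hi : IsUnivInjectiveMor f) :
    Function.Surjective (Points.map (pullback.diagonal f)) := fun z => by
  refine ⟨Points.map (pullback.snd f f) z, hi hF f _ _ (IsPullback.of_hasPullback f f) ?_⟩
  rw [← Points.map_comp, pullback.diagonal_snd, Points.map_id]

theorem mono_of_unram_univInjective (hF : IsAlgSpace F) (hG : IsAlgSpace G)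
    (hu : LocP (@LocallyOfFiniteType ⊓ @FormallyUnramified) f) (hi : IsUnivInjectiveMor f) : Mono f := by
  haveI : IsSplitMono (pullback.diagonal f) := ⟨⟨pullback.fst f f, pullback.diagonal_fst f⟩⟩
  haveI : IsIso (pullback.diagonal f) :=
    isIso_of_mono_of_etale_surjective hF (isAlgSpace_pullback hF hF hG f f) _ (locP_etale_diagonal hF hG hu)
      (surjective_diagonal_of_univInjective hF hi)
  refine ⟨fun {Z} a b h => ?_⟩
  let l := pullback.lift (f := f) (g := f) a b h
  have e : (l ≫ inv (pullback.diagonal f)) ≫ pullback.diagonal f = l := by simp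
  have h1 := e =≫ pullback.fst f f
  have h2 := e =≫ pullback.snd f f
  simp only [Category.assoc, pullback.diagonal_fst, pullback.diagonal_snd, Category.comp_id, l,
    pullback.lift_fst, pullback.lift_snd] at h1 h2
  exact h1.symm.trans h2

theorem unramMono_package {X Y : Space S} (f : X ⟶ Y) :
    ((LocP (@LocallyOfFiniteType ⊓ @FormallyUnramified) f.hom ∧ Mono f.hom) ↔
      (LocP (@LocallyOfFiniteType ⊓ @FormallyUnramified) f.hom ∧ IsUnivInjectiveMor f.hom)) ∧
    ((LocP (@LocallyOfFiniteType ⊓ @FormallyUnramified) f.hom ∧ Mono f.hom) ↔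
      (LocP @LocallyOfFiniteType f.hom ∧ Mono f.hom)) ∧
    ((LocP (@LocallyOfFiniteType ⊓ @FormallyUnramified) f.hom ∧ Mono f.hom) ↔
      (IsUnivInjectiveMor f.hom ∧ LocP @LocallyOfFiniteType f.hom ∧ IsFormallyUnramifiedMor f.hom)) ∧
    (LocP @LocallyOfFiniteType f.hom ∧ Mono f.hom →
      Representable f.hom ∧ IsSeparatedMor f.hom ∧
        LocP (@LocallyQuasiFinite ⊓ @LocallyOfFiniteType) f.hom) := by
  have hfu := (Groth.Agent.S10621.result f).1
  refine ⟨⟨fun h => ⟨h.1, @isUnivInjectiveMor_of_mono _ _ _ _ h.2⟩,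
      fun h => ⟨h.1, mono_of_unram_univInjective X.property Y.property h.1 h.2⟩⟩,
    ⟨fun h => ⟨(locP_unram_iff.1 h.1).1, h.2⟩,
      fun h => ⟨locP_unram_iff.2 ⟨h.1, hfu.1 (@isFormallyUnramifiedMor_of_mono _ _ _ _ h.2)⟩, h.2⟩⟩,
    ⟨fun h => ⟨@isUnivInjectiveMor_of_mono _ _ _ _ h.2, (locP_unram_iff.1 h.1).1,
        hfu.2 (locP_unram_iff.1 h.1).2⟩, fun h => ?_⟩, fun h => ?_⟩
  · have hu := locP_unram_iff.2 ⟨h.2.1, hfu.1 h.2.2⟩
    exact ⟨hu, mono_of_unram_univInjective X.property Y.property hu h.1⟩
  · haveI := h.2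
    have hl := locP_lqf_of_mono f.hom h.1
    exact ⟨representable_of_lqf_separated X.property Y.property f.hom hl (isSeparatedMor_of_mono f.hom),
      isSeparatedMor_of_mono f.hom, hl⟩

theorem closedImmersion_iff_univClosed_mono (hF : IsAlgSpace F) (hG : IsAlgSpace G) :
    RepWith @IsClosedImmersion f ↔ IsUnivClosedMor f ∧ LocP @LocallyOfFiniteType f ∧ Mono f := by
  constructor
  · intro h
    haveI : Mono f := mono_of_closedImmersion h
    exact ⟨isUnivClosedMor_of_repWith_universallyClosed
        (repWith_mono (fun _ _ e (_ : IsClosedImmersion e) => inferInstanceAs (UniversallyClosed e)) _ h),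
      locP_of_repWith (repWith_mono (fun _ _ e (_ : IsClosedImmersion e) =>
        inferInstanceAs (LocallyOfFiniteType e)) _ h), ‹_›⟩
  · rintro ⟨hc, hl, hm⟩
    have hs : IsSeparatedMor f := isSeparatedMor_of_mono f
    have hr := representable_of_lqf_separated hF hG f (locP_lqf_of_mono f hl) hs
    have hu := repWith_universallyClosed_of_univClosed hr hc
    refine ⟨hr, fun U V g fst snd sq => ?_⟩
    haveI : UniversallyClosed snd.left := hu.2 g fst snd sq
    haveI : LocallyOfFiniteType snd.left :=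
      (locP_yon_map (locP_of_isPullback sq hF hG (IsAlgSpace.yon_obj U) hl))
    haveI : IsSeparated snd.left :=
      (isSeparatedMor_yon_map_iff snd).1 (isSeparatedMor_of_isPullback sq hs)
    haveI : Mono snd.left := (repWith_monomorphisms_of_mono hr).2 g fst snd sq
    haveI : IsProper snd.left := {}
    show IsClosedImmersion snd.left
    exact (IsClosedImmersion.iff_isProper_and_mono snd.left).2 ⟨inferInstance, inferInstance⟩

theorem closedImmersion_package {X Y : Space S} (f : X ⟶ Y) :
    (RepWith @IsClosedImmersion f.hom ↔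
      (IsUnivClosedMor f.hom ∧ LocP (@LocallyOfFiniteType ⊓ @FormallyUnramified) f.hom ∧ Mono f.hom)) ∧
    (RepWith @IsClosedImmersion f.hom ↔
      (IsUnivClosedMor f.hom ∧ LocP (@LocallyOfFiniteType ⊓ @FormallyUnramified) f.hom ∧ IsUnivInjectiveMor f.hom)) ∧
    (RepWith @IsClosedImmersion f.hom ↔
      (IsUnivClosedMor f.hom ∧ LocP @LocallyOfFiniteType f.hom ∧ Mono f.hom)) ∧
    (RepWith @IsClosedImmersion f.hom ↔
      (IsUnivClosedMor f.hom ∧ IsUnivInjectiveMor f.hom ∧ LocP @LocallyOfFiniteType f.hom ∧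
        IsFormallyUnramifiedMor f.hom)) := by
  obtain ⟨e1, e2, e3, -⟩ := unramMono_package f
  have e := closedImmersion_iff_univClosed_mono (f := f.hom) X.property Y.property
  exact ⟨e.trans (and_congr_right fun _ => e2.symm), e.trans (and_congr_right fun _ => e2.symm.trans e1), e,
    e.trans (and_congr_right fun _ => e2.symm.trans e3)⟩

end Groth.Agent.Dsp6
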