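import Groth.Agent.Dsp6.WhereOpen
import Groth.Agent.S10614
import Groth.Agent.S10278

/-!
Open loci of the base where a morphism over it is a closed immersion, resp. an isomorphism.
-/

set_option autoImplicit false
set_option maxHeartbeats 400000
set_option backward.isDefEq.respectTransparency false
set_option backward.isDefEq.respectTransparency.types false

universe u

open CategoryTheory CategoryTheory.Limits AlgebraicGeometry AlgSp
open Groth.Agent.AlgSpLib Groth.Agent.AlgSpPts

namespace Groth.Agent.Dsp6.WhereOpen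

variable {S : Scheme.{u}} {X Y Z : Space S} {f : X ⟶ Y} {q : Y ⟶ Z}

theorem exists_detects_closedImmersion (hp1 : LocP @LocallyOfFiniteType (f ≫ q).hom)
    (hp2 : IsUnivClosedMor (f ≫ q).hom) (hq : IsSeparatedMor q.hom) :
    ∃ B, IsClosed B ∧ Detects f q (fun {_ _} k => RepWith @IsClosedImmersion k) B := by
  let XX : Space S := ⟨pullback f.hom f.hom, isAlgSpace_pullback X.property X.property Y.property _ _⟩
  let pr0 : XX ⟶ X := ObjectProperty.homMk (pullback.fst f.hom f.hom)
  let pr1 : XX ⟶ X := ObjectProperty.homMk (pullback.snd f.hom f.hom)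
  have hXX : IsPullback pr0.hom pr1.hom f.hom f.hom := IsPullback.of_hasPullback _ _
  have hf : IsUnivClosedMor f.hom := ((Groth.Agent.S10278.result f (f ≫ q) q rfl hq).1 hp2).1
  have h1 : IsClosedMor pr1.hom :=
    hf X.property f.hom pr0.hom pr1.hom hXX
  have h2 : IsClosedMor (f ≫ q).hom :=
    hp2 Z.property (𝟙 _) (𝟙 _) _ (IsPullback.of_horiz_isIso ⟨by simp⟩)
  have h3 : IsClosedMor (pr1 ≫ f ≫ q).hom := fun A hA => by
    have e : Points.map (pr1 ≫ f ≫ q).hom '' A = Points.map (f ≫ q).hom '' (Points.map pr1.hom '' A) := by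
      rw [Set.image_image]
      exact Set.image_congr' fun x => Points.map_comp pr1.hom (f ≫ q).hom x
    rw [e]
    exact h2 _ (h1 _ hA)
  obtain ⟨B, hB, h⟩ := exists_detects_unram_univInjective hXX hp1 h3
  refine ⟨B, hB, h.congr fun Y' X' gY gX f' hX => ?_⟩
  show LocP (@LocallyOfFiniteType ⊓ @FormallyUnramified) f'.hom ∧ IsUnivInjectiveMor f'.hom ↔ _
  rw [(Groth.Agent.S10614.result f').2.1]
  exact ⟨fun hh => ⟨isUnivClosedMor_of_isPullback hX hf, hh⟩, fun hh => hh.2⟩

theorem exists_detects_isIso (hp1 : LocP @LocallyOfFinitePresentation (f ≫ q).hom)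
    (hp2 : LocP @Flat (f ≫ q).hom) (hp3 : IsUnivClosedMor (f ≫ q).hom)
    (hq1 : LocP @LocallyOfFiniteType q.hom) (hq2 : IsClosedMor q.hom) (hq3 : IsSeparatedMor q.hom) :
    ∃ B, IsClosed B ∧ Detects f q (fun {_ _} k => IsIso k) B := by
  have hp4 : IsClosedMor (f ≫ q).hom :=
    hp3 Z.property (𝟙 _) (𝟙 _) _ (IsPullback.of_horiz_isIso ⟨by simp⟩)
  have hp5 : LocP @LocallyOfFiniteType (f ≫ q).hom :=
    locP_mono (fun _ _ g (hg : LocallyOfFinitePresentation g) => (inferInstance : LocallyOfFiniteType g)) hp1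
  obtain ⟨B₁, hB₁, h₁⟩ := exists_detects_surjective_flat hp1 hp2 hp4 hq1 hq2
  obtain ⟨B₂, hB₂, h₂⟩ := exists_detects_closedImmersion hp5 hp3 hq3
  have hf := locP_lofp_of_comp X.property Y.property Z.property f.hom q.hom hp1 hq1
  refine ⟨B₁ ∪ B₂, hB₁.union hB₂, (h₁.and h₂).congr fun Y' X' gY gX f' hX => ?_⟩
  show (IsSurjectiveMor f'.hom ∧ LocP @Flat f'.hom) ∧ RepWith @IsClosedImmersion f'.hom ↔ IsIso f'.hom
  constructor
  · rintro ⟨⟨hs, hfl⟩, hc⟩
    obtain ⟨-, hu, hi⟩ := (Groth.Agent.S10614.result f').2.1.1 hc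
    haveI : Mono f'.hom := mono_of_unram_univInjective X'.property Y'.property hu hi
    have hl : LocP @LocallyOfFinitePresentation f'.hom :=
      AlgSpLib.locP_of_isPullback hX X.property Y.property Y'.property hf
    refine isIso_of_mono_of_etale_surjective X'.property Y'.property f'.hom (fun A C a b k ha hb w => ?_) hs
    haveI : Flat k.left := hfl a b k ha hb w
    haveI : LocallyOfFinitePresentation k.left := hl a b k ha hb w
    haveI : FormallyUnramified k.left := (hu a b k ha hb w).2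
    exact Etale.of_formallyUnramified_of_flat k.left
  · intro h
    refine ⟨⟨fun y => ⟨Points.map (inv f'.hom) y, ?_⟩, locP_of_repWith (repWith_of_isIso @Flat f'.hom)⟩,
      repWith_of_isIso @IsClosedImmersion f'.hom⟩
    rw [← Points.map_comp, IsIso.inv_hom_id, Points.map_id]

end Groth.Agent.Dsp6.WhereOpen
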