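import Groth.Agent.S10194
import Groth.Agent.S10195
import Groth.Agent.S9938
import Groth.Agent.AlgSpLib.FlatAt
import Groth.Agent.AlgSpLib.OpenMor
import Groth.Agent.AlgSpDec.PointLocusInst
import Groth.Agent.AlgSpDec.LimOpen
import Groth.Agent.AlgSpPts.Misc
import Groth.Agent.AlgSpC7.KoszulLocus
import Groth.Agent.Dsp6.UnramMono

/-!
Open subspaces of a base over which a morphism of spaces over it has a given property: the loci are
complements of closed images of bad sets.
-/

set_option autoImplicit false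
set_option maxHeartbeats 400000
set_option backward.isDefEq.respectTransparency false
set_option backward.isDefEq.respectTransparency.types false

universe u

open CategoryTheory CategoryTheory.Limits AlgebraicGeometry AlgSp
open Groth.Agent.AlgSpLib Groth.Agent.AlgSpPts

namespace Groth.Agent.Dsp6.WhereOpen

variable {S : Scheme.{u}}

/-- `B` detects the failure of `P` for the base changes of `f` along maps to the base. -/
def Detects {X Y Z : Space S} (f : X ⟶ Y) (q : Y ⟶ Z)
    (P : ∀ {A C : Sp S}, (A ⟶ C) → Prop) (B : Set (Points Z.obj)) : Prop :=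
  ∀ ⦃Z' : Space S⦄ (g : Z' ⟶ Z) ⦃Y' : Space S⦄ (gY : Y' ⟶ Y) (q' : Y' ⟶ Z'),
    IsPullback gY.hom q'.hom q.hom g.hom →
    ∀ ⦃X' : Space S⦄ (gX : X' ⟶ X) (f' : X' ⟶ Y'),
      IsPullback gX.hom f'.hom f.hom gY.hom →
      (P f'.hom ↔ ∀ z', Points.map g.hom z' ∉ B)

variable {X Y Z : Space S} {f : X ⟶ Y} {q : Y ⟶ Z}

theorem Detects.and {P Q : ∀ {A C : Sp S}, (A ⟶ C) → Prop} {B B' : Set (Points Z.obj)}
    (h : Detects f q @P B) (h' : Detects f q @Q B') :
    Detects f q (fun {_ _} k => P k ∧ Q k) (B ∪ B') := by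
  intro Z' g Y' gY q' hY X' gX f' hX
  show P f'.hom ∧ Q f'.hom ↔ _
  rw [h g gY q' hY gX f' hX, h' g gY q' hY gX f' hX, ← forall_and]
  exact forall_congr' fun z' => not_or.symm

theorem Detects.congr {P Q : ∀ {A C : Sp S}, (A ⟶ C) → Prop} {B : Set (Points Z.obj)}
    (h : Detects f q @P B)
    (he : ∀ ⦃Y' X' : Space S⦄ (gY : Y' ⟶ Y) (gX : X' ⟶ X) (f' : X' ⟶ Y'),
      IsPullback gX.hom f'.hom f.hom gY.hom → (P f'.hom ↔ Q f'.hom)) :
    Detects f q @Q B := fun _ g _ gY q' hY _ gX f' hX =>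
  (he gY gX f' hX).symm.trans (h g gY q' hY gX f' hX)

/-- A closed detecting set gives the open subspace. -/
theorem Detects.exists_open {P : ∀ {A C : Sp S}, (A ⟶ C) → Prop} {B : Set (Points Z.obj)}
    (hB : IsClosed B) (h : Detects f q @P B) :
    ∃ (W : Space S) (w : W ⟶ Z), RepWith @IsOpenImmersion w.hom ∧
      ∀ (Z' : Space S) (g : Z' ⟶ Z),
        (∃ k : Z' ⟶ W, k ≫ w = g) ↔
          ∀ (Y' : Space S) (gY : Y' ⟶ Y) (q' : Y' ⟶ Z'),
            IsPullback gY.hom q'.hom q.hom g.hom →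
            ∀ (X' : Space S) (gX : X' ⟶ X) (f' : X' ⟶ Y'),
              IsPullback gX.hom f'.hom f.hom gY.hom → P f'.hom := by
  obtain ⟨W, w, hw, hr⟩ := Groth.Agent.S10195.result Z _ hB.isOpen_compl
  refine ⟨W, w, hw, fun Z' g => ?_⟩
  rw [Groth.Agent.S10194.result w hw g, hr, Set.range_subset_iff]
  refine ⟨fun H Y' gY q' hY X' gX f' hX => (h g gY q' hY gX f' hX).2 H, fun H => ?_⟩
  let Y' : Space S := ⟨pullback q.hom g.hom, isAlgSpace_pullback Y.property Z'.property Z.property _ _⟩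
  let gY : Y' ⟶ Y := ObjectProperty.homMk (pullback.fst q.hom g.hom)
  let q' : Y' ⟶ Z' := ObjectProperty.homMk (pullback.snd q.hom g.hom)
  let X' : Space S := ⟨pullback f.hom gY.hom, isAlgSpace_pullback X.property Y'.property Y.property _ _⟩
  let gX : X' ⟶ X := ObjectProperty.homMk (pullback.fst f.hom gY.hom)
  let f' : X' ⟶ Y' := ObjectProperty.homMk (pullback.snd f.hom gY.hom)
  have hY : IsPullback gY.hom q'.hom q.hom g.hom := IsPullback.of_hasPullback _ _
  have hX : IsPullback gX.hom f'.hom f.hom gY.hom := IsPullback.of_hasPullback _ _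
  exact (h g gY q' hY gX f' hX).1 (H Y' gY q' hY X' gX f' hX)

/-- Points of a base change avoid a set iff the base avoids its image. -/
theorem forall_notMem_iff {F G H P : Sp S} {fst : P ⟶ F} {snd : P ⟶ G} {a : F ⟶ H} {b : G ⟶ H}
    (sq : IsPullback fst snd a b) (A : Set (Points F)) :
    (∀ x', Points.map fst x' ∉ A) ↔ ∀ y, Points.map b y ∉ Points.map a '' A := by
  refine ⟨fun h y ⟨x, hx, he⟩ => ?_, fun h x' hx' => ?_⟩
  · obtain ⟨z, hz, -⟩ := exists_point_of_isPullback sq he
    exact h z (hz ▸ hx)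
  · exact h (Points.map snd x') ⟨_, hx', by rw [← Points.map_comp, sq.w, Points.map_comp]⟩

/-- A property tested at points commuting with base change is detected by the image of the bad points. -/
theorem detects_image {P : ∀ {A C : Sp S}, (A ⟶ C) → Prop} (U : Set (Points X.obj))
    (h : ∀ ⦃Z' : Space S⦄ (g : Z' ⟶ Z) ⦃Y' : Space S⦄ (gY : Y' ⟶ Y) (q' : Y' ⟶ Z'),
      IsPullback gY.hom q'.hom q.hom g.hom →
      ∀ ⦃X' : Space S⦄ (gX : X' ⟶ X) (f' : X' ⟶ Y'),
        IsPullback gX.hom f'.hom f.hom gY.hom →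
        (P f'.hom ↔ ∀ x', Points.map gX.hom x' ∈ U)) :
    Detects f q @P (Points.map (f ≫ q).hom '' Uᶜ) := by
  intro Z' g Y' gY q' hY X' gX f' hX
  rw [h g gY q' hY gX f' hX, ← forall_notMem_iff (show IsPullback gX.hom (f'.hom ≫ q'.hom) (f ≫ q).hom g.hom from
    hX.paste_vert hY) Uᶜ]
  simp only [Set.notMem_compl_iff]

/-- An open subspace on which every chart of `f` has `Q` at every point. -/
theorem exists_open_locP {F G : Sp S} (hF : IsAlgSpace F) (f : F ⟶ G) {U : Set (Points F)} (hU : IsOpen U)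
    {Q : MorphismProperty Scheme.{u}}
    (h : ∀ ⦃A B : Over S⦄ (a : (yon S).obj A ⟶ F) (b : (yon S).obj B ⟶ G) (k : A ⟶ B),
      RepWith @Etale a → RepWith @Etale b → a ≫ f = (yon S).map k ≫ b →
      (∀ t, Points.ofPt a t ∈ U) → Q k.left) :
    ∃ (U₀ : Sp S) (j : U₀ ⟶ F), IsAlgSpace U₀ ∧ RepWith @IsOpenImmersion j ∧
      Set.range (Points.map j) = U ∧ LocP Q (j ≫ f) := by
  obtain ⟨U₀, j, hU₀, hj, hr⟩ := exists_open_subspace hF hU
  refine ⟨U₀, j, hU₀, hj, hr, fun A B a b k ha hb w => h (a ≫ j) b k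
    (repWith_comp ha (repWith_mono (fun _ _ g (_ : IsOpenImmersion g) => inferInstanceAs (Etale g)) _ hj))
    hb (by rw [Category.assoc, w]) fun t => ?_⟩
  rw [← hr]
  exact ⟨Points.ofPt a t, Points.map_ofPt a j t⟩

section Flat

theorem locP_flat_iff {F G : Sp S} (k : F ⟶ G) : LocP @Flat k ↔ ∀ x, IsFlatAtMor k x := by
  refine ⟨fun h x U V a b m t ha hb w _ => ?_, fun h U V a b m ha hb w => ?_⟩
  · have : Flat m.left := h a b m ha hb w
    exact Flat.stalkMap m.left t
  · exact Flat.of_stalkMap m.left fun t => h (Points.ofPt a t) a b m t ha hb w rfl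

theorem detects_flat (hp1 : LocP @LocallyOfFinitePresentation (f ≫ q).hom)
    (hp2 : LocP @Flat (f ≫ q).hom) (hq : LocP @LocallyOfFiniteType q.hom) :
    Detects f q (fun {_ _} k => LocP @Flat k)
      (Points.map (f ≫ q).hom '' {x | IsFlatAtMor f.hom x}ᶜ) := by
  refine detects_image _ fun Z' g Y' gY q' hY X' gX f' hX => (locP_flat_iff _).trans ?_
  have e := (isOpen_flatLocus_and_baseChange X.property Y.property Z.property f.hom q.hom hp1 hp2 hq).2
    X'.property Y'.property Z'.property g.hom f'.hom q'.hom gX.hom gY.hom hY hX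
  exact forall_congr' fun x' => Set.ext_iff.1 e x'

theorem isOpen_flatLocus (hp1 : LocP @LocallyOfFinitePresentation (f ≫ q).hom)
    (hp2 : LocP @Flat (f ≫ q).hom) (hq : LocP @LocallyOfFiniteType q.hom) :
    IsOpen {x | IsFlatAtMor f.hom x} :=
  (isOpen_flatLocus_and_baseChange X.property Y.property Z.property f.hom q.hom hp1 hp2 hq).1

theorem exists_detects_surjective_flat (hp1 : LocP @LocallyOfFinitePresentation (f ≫ q).hom)
    (hp2 : LocP @Flat (f ≫ q).hom) (hp3 : IsClosedMor (f ≫ q).hom)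
    (hq1 : LocP @LocallyOfFiniteType q.hom) (hq2 : IsClosedMor q.hom) :
    ∃ B, IsClosed B ∧ Detects f q (fun {_ _} k => IsSurjectiveMor k ∧ LocP @Flat k) B := by
  let U := {x | IsFlatAtMor f.hom x}
  have hU : IsOpen U := isOpen_flatLocus hp1 hp2 hq1
  have hf := locP_lofp_of_comp X.property Y.property Z.property f.hom q.hom hp1 hq1
  obtain ⟨U₀, j, hU₀, hj, hr, hjf⟩ := exists_open_locP X.property f.hom hU (Q := @Flat)
    fun A B a b k ha hb w ht => Flat.of_stalkMap k.left fun t => ht t a b k t ha hb w rfl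
  have hjl : LocP @LocallyOfFinitePresentation (j ≫ f.hom) := fun A B a b k ha hb w =>
    hf (a ≫ j) b k (repWith_comp ha (repWith_mono (fun _ _ g (_ : IsOpenImmersion g) => inferInstanceAs (Etale g)) _ hj))
      hb (by rw [Category.assoc, w])
  have ho : IsOpen (Points.map f.hom '' U) := by
    have e : Points.map f.hom '' U = Set.range (Points.map (j ≫ f.hom)) := by
      rw [← hr, ← Set.range_comp]
      exact congrArg Set.range (funext fun x => (Points.map_comp j f.hom x).symm)
    rw [e]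
    exact (isOpenMap_map_of_fppf hU₀ Y.property (j ≫ f.hom) hjf hjl).isOpen_range
  refine ⟨Points.map (f ≫ q).hom '' Uᶜ ∪ Points.map q.hom '' (Points.map f.hom '' U)ᶜ,
    (hp3 _ hU.isClosed_compl).union (hq2 _ ho.isClosed_compl), fun Z' g Y' gY q' hY X' gX f' hX => ?_⟩
  show IsSurjectiveMor f'.hom ∧ LocP @Flat f'.hom ↔ _
  refine (and_congr_right fun _ => detects_flat hp1 hp2 hq1 g gY q' hY gX f' hX).trans ?_
  have hs : IsSurjectiveMor f'.hom ↔ ∀ z', Points.map g.hom z' ∉ Points.map q.hom '' (Set.range (Points.map f.hom))ᶜ := by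
    rw [← forall_notMem_iff hY]
    refine ⟨fun h y' hy' => ?_, fun h y' => ?_⟩
    · obtain ⟨x', rfl⟩ := h y'
      exact hy' ⟨Points.map gX.hom x', by rw [← Points.map_comp, hX.w, Points.map_comp]⟩
    · obtain ⟨x, hx⟩ := not_not.1 (h y')
      obtain ⟨x', -, hx'⟩ := exists_point_of_isPullback hX hx
      exact ⟨x', hx'⟩
  rw [hs]
  refine ⟨fun ⟨h1, h2⟩ z' hz => ?_, fun h => ⟨fun z' ⟨y, hy, he⟩ => ?_, fun z' hz => h z' (Or.inl hz)⟩⟩
  · rcases hz with hz | ⟨y, hy, he⟩
    · exact h2 z' hz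
    · by_cases hr' : y ∈ Set.range (Points.map f.hom)
      · obtain ⟨x, rfl⟩ := hr'
        exact h2 z' ⟨x, fun hx => hy ⟨x, hx, rfl⟩, (Points.map_comp f.hom q.hom x).trans he⟩
      · exact h1 z' ⟨y, hr', he⟩
  · exact h z' (Or.inr ⟨y, fun ⟨x, _, hx⟩ => hy ⟨x, hx⟩, he⟩)

end Flat

section Unram

/-- The points at which a morphism is unramified. -/
def unrSet {F G : Sp S} (k : F ⟶ G) : Set (Points F) :=
  {x | AlgSpDec.PointLocus.At (fun {_ _} h u => MorLib.UnrLocus.Loc h u) k x}

theorem locP_lft_of_comp (hp : LocP @LocallyOfFiniteType (f ≫ q).hom) : LocP @LocallyOfFiniteType f.hom :=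
  locP_of_comp (P := @LocallyOfFiniteType)
    (fun f g h => by haveI := h; exact locallyOfFiniteType_of_comp f g) Z.property
    (show LocP @LocallyOfFiniteType (f.hom ≫ q.hom) from hp)

theorem isOpen_unrSet (hf : LocP @LocallyOfFiniteType f.hom) : IsOpen (unrSet f.hom) :=
  AlgSpDec.PointLocus.isOpen_at AlgSpDec.PointLocus.ptProp_unram hf

theorem unram_iff_of_isPullback (hf : LocP @LocallyOfFiniteType f.hom) {Y' X' : Space S} {gY : Y' ⟶ Y}
    {gX : X' ⟶ X} {f' : X' ⟶ Y'} (hX : IsPullback gX.hom f'.hom f.hom gY.hom) :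
    LocP (@LocallyOfFiniteType ⊓ @FormallyUnramified) f'.hom ↔ ∀ x', Points.map gX.hom x' ∈ unrSet f.hom := by
  rw [AlgSpDec.PointLocus.locP_iff AlgSpDec.PointLocus.ptProp_unram AlgSpDec.PointLocus.unram_iff_forall
    X'.property Y'.property (AlgSpLib.locP_of_isPullback hX X.property Y.property Y'.property hf)]
  exact forall_congr' fun x' => AlgSpDec.PointLocus.at_baseChange_iff AlgSpDec.PointLocus.ptProp_unram hX
    X.property Y.property Y'.property hf x'

theorem detects_unram (hp : LocP @LocallyOfFiniteType (f ≫ q).hom) :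
    Detects f q (fun {_ _} k => LocP (@LocallyOfFiniteType ⊓ @FormallyUnramified) k)
      (Points.map (f ≫ q).hom '' (unrSet f.hom)ᶜ) :=
  detects_image _ fun _ _ _ _ _ _ _ _ _ hX => unram_iff_of_isPullback (locP_lft_of_comp hp) hX

theorem exists_detects_unram_univInjective {XX : Space S} {pr0 pr1 : XX ⟶ X}
    (hXX : IsPullback pr0.hom pr1.hom f.hom f.hom) (hp1 : LocP @LocallyOfFiniteType (f ≫ q).hom)
    (hp3 : IsClosedMor (pr1 ≫ f ≫ q).hom) :
    ∃ B, IsClosed B ∧ Detects f q
      (fun {_ _} k => LocP (@LocallyOfFiniteType ⊓ @FormallyUnramified) k ∧ IsUnivInjectiveMor k) B := by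
  have hf := locP_lft_of_comp hp1
  let U := unrSet f.hom
  let d : X.obj ⟶ XX.obj := hXX.lift (𝟙 _) (𝟙 _) rfl
  have hd0 : d ≫ pr0.hom = 𝟙 _ := hXX.lift_fst _ _ _
  have hd1 : d ≫ pr1.hom = 𝟙 _ := hXX.lift_snd _ _ _
  have hd : ∀ x, Points.map pr1.hom (Points.map d x) = x := fun x => by
    rw [← Points.map_comp, hd1, Points.map_id]
  -- the diagonal image of the unramified locus is open
  obtain ⟨U₀, j, hU₀, hj, hr, hjf⟩ := exists_open_locP X.property f.hom (isOpen_unrSet hf)
    (Q := @LocallyOfFiniteType ⊓ @FormallyUnramified) fun A B a b k ha hb w ht => by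
      haveI : LocallyOfFiniteType k.left := hf a b k ha hb w
      exact (AlgSpDec.PointLocus.unram_iff_forall k.left).2 fun t =>
        (AlgSpDec.PointLocus.at_iff_chart AlgSpDec.PointLocus.ptProp_unram hf ha hb w t).1 (ht t)
  have hje : RepWith @Etale j :=
    repWith_mono (fun _ _ g (_ : IsOpenImmersion g) => inferInstanceAs (Etale g)) _ hj
  let m₁ : pullback (j ≫ f.hom) (j ≫ f.hom) ⟶ pullback f.hom (j ≫ f.hom) :=
    pullback.map _ _ _ _ j (𝟙 _) (𝟙 _) (by simp) (by simp)
  let m₂ : pullback f.hom (j ≫ f.hom) ⟶ XX.obj :=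
    hXX.lift (pullback.fst _ _) (pullback.snd _ _ ≫ j) (by rw [Category.assoc]; exact pullback.condition)
  have s₁ : IsPullback (pullback.fst (j ≫ f.hom) (j ≫ f.hom)) m₁ j (pullback.fst f.hom (j ≫ f.hom)) := by
    refine IsPullback.of_bot ?_ (pullback.lift_fst _ _ _).symm (IsPullback.of_hasPullback f.hom (j ≫ f.hom))
    rw [pullback.lift_snd, Category.comp_id]
    exact IsPullback.of_hasPullback _ _
  have s₂ : IsPullback (pullback.snd f.hom (j ≫ f.hom)) m₂ j pr1.hom := by
    refine IsPullback.of_bot ?_ (hXX.lift_snd _ _ _).symm hXX.flip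
    rw [hXX.lift_fst]
    exact (IsPullback.of_hasPullback f.hom (j ≫ f.hom)).flip
  have hm : IsOpenMap (Points.map (m₁ ≫ m₂)) := AlgSpPts.isOpenMap_map
    (repWith_mono (fun _ _ g (_ : Etale g) => (inferInstance : UniversallyOpen g)) _
      (repWith_comp (repWith_of_isPullback s₁ hje) (repWith_of_isPullback s₂ hje)))
  have hΔ : IsOpenMap (Points.map (pullback.diagonal (j ≫ f.hom))) :=
    isOpenMap_map_of_fppf hU₀ (isAlgSpace_pullback hU₀ hU₀ Y.property _ _) _
      (locP_mono (fun _ _ g (hg : Etale g) => (inferInstance : Flat g)) (locP_etale_diagonal hU₀ Y.property hjf))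
      (locP_mono (fun _ _ g (hg : Etale g) => (inferInstance : LocallyOfFinitePresentation g))
        (locP_etale_diagonal hU₀ Y.property hjf))
  have e : pullback.diagonal (j ≫ f.hom) ≫ m₁ ≫ m₂ = j ≫ d := by
    apply hXX.hom_ext
    · simp only [Category.assoc, m₁, m₂, IsPullback.lift_fst, pullback.lift_fst, hd0]
      rw [← Category.assoc, pullback.diagonal_fst, Category.id_comp, Category.comp_id]
    · simp only [Category.assoc, m₁, m₂, IsPullback.lift_snd, pullback.lift_snd_assoc, hd1]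
      rw [Category.id_comp, ← Category.assoc, pullback.diagonal_snd, Category.id_comp, Category.comp_id]
  have ho : IsOpen (Points.map d '' U) := by
    have e' : Points.map d '' U = Points.map (m₁ ≫ m₂) '' Set.range (Points.map (pullback.diagonal (j ≫ f.hom))) := by
      rw [show U = Set.range (Points.map j) from hr.symm, ← Set.range_comp, ← Set.range_comp]
      refine congrArg Set.range (funext fun x => ?_)
      rw [Function.comp_apply, Function.comp_apply, ← Points.map_comp, ← Points.map_comp, e]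
    rw [e']
    exact hm _ hΔ.isOpen_range
  refine ⟨Points.map (pr1 ≫ f ≫ q).hom '' (Points.map d '' U)ᶜ, hp3 _ ho.isClosed_compl,
    fun Z' g Y' gY q' hY X' gX f' hX => ?_⟩
  show LocP (@LocallyOfFiniteType ⊓ @FormallyUnramified) f'.hom ∧ IsUnivInjectiveMor f'.hom ↔ _
  rw [unram_iff_of_isPullback hf hX, (Groth.Agent.S9938.result f').2]
  let μ : pullback f'.hom f'.hom ⟶ XX.obj :=
    hXX.lift (pullback.fst _ _ ≫ gX.hom) (pullback.snd _ _ ≫ gX.hom)
      (by rw [Category.assoc, Category.assoc, hX.w, ← Category.assoc, pullback.condition, Category.assoc])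
  have sμ : IsPullback μ (pullback.snd f'.hom f'.hom) pr1.hom gX.hom := by
    refine IsPullback.of_right ?_ (hXX.lift_snd _ _ _) hXX
    rw [hXX.lift_fst, hX.w]
    exact (IsPullback.of_hasPullback f'.hom f'.hom).paste_horiz hX
  have sd : IsPullback gX.hom (pullback.diagonal f'.hom) d μ := by
    refine IsPullback.of_bot ?_ ?_ sμ
    · rw [hd1, pullback.diagonal_snd]
      exact IsPullback.of_vert_isIso ⟨by simp⟩
    · apply hXX.hom_ext
      · simp only [μ, Category.assoc, IsPullback.lift_fst, hd0]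
        rw [← Category.assoc, pullback.diagonal_fst, Category.id_comp, Category.comp_id]
      · simp only [μ, Category.assoc, IsPullback.lift_snd, hd1]
        rw [← Category.assoc, pullback.diagonal_snd, Category.id_comp, Category.comp_id]
  rw [← forall_notMem_iff (show IsPullback μ (pullback.snd f'.hom f'.hom ≫ f'.hom ≫ q'.hom) (pr1 ≫ f ≫ q).hom g.hom from
    sμ.paste_vert (hX.paste_vert hY)) (Points.map d '' U)ᶜ]
  simp only [Set.notMem_compl_iff]
  refine ⟨fun ⟨h1, h2⟩ z => ?_, fun h => ⟨fun x' => ?_, fun z => ?_⟩⟩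
  · obtain ⟨x', rfl⟩ := h2 z
    exact ⟨Points.map gX.hom x', h1 x', by rw [← Points.map_comp, sd.w, Points.map_comp]⟩
  · obtain ⟨x, hx, he⟩ := h (Points.map (pullback.diagonal f'.hom) x')
    have he' := congrArg (Points.map pr1.hom) he
    rw [hd, ← Points.map_comp _ μ, ← sd.w, Points.map_comp, hd] at he'
    exact he' ▸ hx
  · obtain ⟨x, -, he⟩ := h z
    obtain ⟨x', -, hx'⟩ := exists_point_of_isPullback sd he
    exact ⟨x', hx'⟩

end Unram

section Lci

theorem detects_lci (hp1 : LocP @Flat (f ≫ q).hom) (hp2 : LocP @LocallyOfFinitePresentation (f ≫ q).hom)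
    (hq1 : LocP @Flat q.hom) (hq2 : LocP @LocallyOfFinitePresentation q.hom) :
    Detects f q (fun {_ _} k => IsLCIMor k) (Points.map (f ≫ q).hom '' {x | LocPNear lci f.hom x}ᶜ) := by
  refine detects_image _ fun Z' g Y' gY q' hY X' gX f' hX => ?_
  have e := AlgSpC7.setOf_locPNear_lci_baseChange X.property Y.property Z.property Z'.property X'.property
    Y'.property f.hom q.hom hp1 hp2 hq1 hq2 g.hom gY.hom q'.hom hY gX.hom f'.hom hX
  refine Iff.trans ?_ (forall_congr' fun x' => Set.ext_iff.1 e x')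
  constructor
  · intro h x'
    obtain ⟨U, V, a, b, k, ha, ha', hb, -, w⟩ := exists_chart X'.property Y'.property f'.hom
    obtain ⟨u, rfl⟩ := surjective_ofPt ha' x'
    exact (AlgSpC7.locPNear_lci_iff_chart X'.property Y'.property ha hb w u).2 (h a b k ha hb w u)
  · intro h U V a b k ha hb w u
    exact (AlgSpC7.locPNear_lci_iff_chart X'.property Y'.property ha hb w u).1 (h (Points.ofPt a u))

theorem isOpen_lciSet : IsOpen {x | LocPNear lci f.hom x} := by
  rw [isOpen_iff_forall_mem_open]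
  rintro x ⟨W, j, hj, hx, hl⟩
  exact ⟨Set.range (Points.map j), fun y hy => ⟨W, j, hj, hy, hl⟩,
    AlgSpDec.isOpen_range_openImm X.property hj, hx⟩

end Lci

end Groth.Agent.Dsp6.WhereOpen
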